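import Mathlib
import Groth.Agent.MLMod.NilFlat

/-!
# The local criterion of flatness

`flat_of_injective_of_flat_quotient`: for a Noetherian ring `R`, a Noetherian `R`-algebra `S` with `I S` in the
Jacobson radical and a finite `S`-module `M`, if `I ⊗ M → M` is injective and `M / I M` is flat over `R / I`,
then `M` is flat over `R`.

`flat_and_flat_of_flat_fibre`: the fibrewise criterion for Noetherian local rings.
-/

universe u

open TensorProduct

namespace Groth.FlatDescent

/-- A module over a domain on which nonzero scalars act bijectively is flat. -/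
theorem flat_of_bijective_smul {D : Type u} [CommRing D] [IsDomain D] {X : Type u} [AddCommGroup X] [Module D X]
    (h : ∀ a : D, a ≠ 0 → Function.Bijective fun x : X => a • x) : Module.Flat D X := by
  classical
  refine Module.Flat.of_forall_isTrivialRelation fun {l f x} hfx => ?_
  by_cases hf : ∀ i, f i = 0
  · exact ⟨l, fun i j => if i = j then 1 else 0, x, fun i => by simp, fun j => by simp [hf]⟩
  push Not at hf
  obtain ⟨i₀, hi₀⟩ := hf
  choose y hy using fun i => (h _ hi₀).2 (x i)
  refine ⟨l, fun i j => (if i = j then f i₀ else 0) - (if i = i₀ then f j else 0), y, fun i => ?_, fun j => ?_⟩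
  · simp only [sub_smul, ite_smul, zero_smul, Finset.sum_sub_distrib, Finset.sum_ite_eq, Finset.mem_univ, if_true]
    rw [show f i₀ • y i = x i from hy i]
    split_ifs with hi
    · subst hi
      suffices ∑ j, f j • y j = 0 by rw [this, sub_zero]
      refine (h _ hi₀).1 ?_
      show f i • ∑ j, f j • y j = f i • (0 : X)
      rw [smul_zero, Finset.smul_sum, ← hfx]
      exact Finset.sum_congr rfl fun j _ => by rw [smul_comm, show f i • y j = x j from hy j]
    · simp
  · simp [mul_sub, mul_ite, mul_comm]

section Criterion

variable {R : Type u} [CommRing R] [IsNoetherianRing R] (I : Ideal R) {S : Type u} [CommRing S] [IsNoetherianRing S]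
  [Algebra R S] {M : Type u} [AddCommGroup M] [Module R M] [Module S M] [IsScalarTower R S M] [Module.Finite S M]

/-- The local criterion of flatness. -/
theorem flat_of_injective_of_flat_quotient (hI : I.map (algebraMap R S) ≤ Ideal.jacobson ⊥)
    (htor : Function.Injective (I.subtype.rTensor M)) [Module.Flat (R ⧸ I) ((R ⧸ I) ⊗[R] M)] :
    Module.Flat R M := by
  rw [Module.Flat.iff_lTensor_injective']
  intro J
  haveI : Module.Finite S (M ⊗[R] J) := by
    obtain ⟨t, ht⟩ := (Module.Finite.fg_top : (⊤ : Submodule R J).FG)
    obtain ⟨s, hs⟩ := (Module.Finite.fg_top : (⊤ : Submodule S M).FG)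
    classical
    refine ⟨⟨(s ×ˢ t).image fun p => p.1 ⊗ₜ p.2, top_le_iff.mp fun z hz => ?_⟩⟩
    clear hz
    let G : Submodule S (M ⊗[R] J) := Submodule.span S ((s ×ˢ t).image fun p => p.1 ⊗ₜ[R] p.2)
    show z ∈ G
    induction z with
    | zero => exact zero_mem _
    | add a b ha hb => exact add_mem ha hb
    | tmul m j =>
      have hm : m ∈ Submodule.span S (s : Set M) := by rw [hs]; trivial
      induction hm using Submodule.span_induction with
      | zero => rw [zero_tmul]; exact zero_mem _
      | add a b _ _ ha hb => rw [add_tmul]; exact add_mem ha hb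
      | smul c a _ ha => rw [← smul_tmul']; exact G.smul_mem c ha
      | mem m hm =>
        have hj : j ∈ Submodule.span R (t : Set J) := by rw [ht]; trivial
        induction hj using Submodule.span_induction with
        | zero => rw [tmul_zero]; exact zero_mem _
        | add a b _ _ ha hb => rw [tmul_add]; exact add_mem ha hb
        | smul c a _ ha => rw [tmul_smul]; exact G.smul_of_tower_mem c ha
        | mem j hj =>
          exact Submodule.subset_span (Finset.mem_coe.mpr (Finset.mem_image.mpr ⟨(m, j), Finset.mem_product.mpr ⟨hm, hj⟩, rfl⟩))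
  refine (injective_iff_map_eq_zero _).mpr fun x hx => ?_
  obtain ⟨k, hk⟩ := I.exists_pow_inf_eq_pow_smul (M := R) J
  have key : ∀ n, x ∈ (I.map (algebraMap R S) ^ n • ⊤ : Submodule S (M ⊗[R] J)) := by
    intro n
    haveI : Module.Flat (R ⧸ I ^ (n + k)) ((R ⧸ I ^ (n + k)) ⊗[R] M) :=
      MLMod.flat_quotient_pow_of_torZero (M := M) I htor (n + k)
    let φ : J →ₗ[R] R ⧸ I ^ (n + k) := (Submodule.mkQ (I ^ (n + k))).comp J.subtype
    let L : Submodule (R ⧸ I ^ (n + k)) (R ⧸ I ^ (n + k)) := J.map (Ideal.Quotient.mk (I ^ (n + k)))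
    let ψ : J →ₗ[R] L :=
      { toFun := fun j => ⟨φ j, Ideal.mem_map_of_mem _ j.2⟩
        map_add' := fun a b => Subtype.ext (φ.map_add a b)
        map_smul' := fun a b => Subtype.ext (φ.map_smul a b) }
    have hψ : Function.Surjective ψ := fun ⟨l, hl⟩ => by
      obtain ⟨j, hj, rfl⟩ := (Ideal.mem_map_iff_of_surjective _ Ideal.Quotient.mk_surjective).mp hl
      exact ⟨⟨j, hj⟩, Subtype.ext rfl⟩
    have hinj := MLMod.rTensor_injective_of_flat_quotient (M := M) (I ^ (n + k)) L.subtype Subtype.val_injective
    have hzero : ψ.rTensor M (TensorProduct.comm R M J x) = 0 := by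
      refine hinj ?_
      rw [map_zero, ← LinearMap.rTensor_comp_apply]
      have h2 : (L.subtype.restrictScalars R).comp ψ = (Submodule.mkQ (I ^ (n + k))).comp J.subtype := rfl
      rw [h2, LinearMap.rTensor_comp_apply]
      have h3 : J.subtype.rTensor M (TensorProduct.comm R M J x) = TensorProduct.comm R M R (J.subtype.lTensor M x) :=
        (TensorProduct.map_comm J.subtype LinearMap.id x)
      rw [h3, hx, map_zero, map_zero]
    obtain ⟨y, hy⟩ := (rTensor_exact M (LinearMap.exact_subtype_ker_map ψ) hψ _).mp hzero
    suffices ∀ z : LinearMap.ker ψ ⊗[R] M, (TensorProduct.comm R M J).symm ((LinearMap.ker ψ).subtype.rTensor M z) ∈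
        (I.map (algebraMap R S) ^ n • ⊤ : Submodule S (M ⊗[R] J)) by
      have h := this y
      rwa [hy, LinearEquiv.symm_apply_apply] at h
    intro z
    induction z with
    | zero => simp
    | add a b ha hb => rw [map_add, map_add]; exact add_mem ha hb
    | tmul j m =>
      show m ⊗ₜ[R] (j : J) ∈ _
      have hj : ((j : J) : R) ∈ (I ^ (n + k) • ⊤ ⊓ J : Submodule R R) := by
        refine ⟨?_, (j : J).2⟩
        have h0 := congrArg Subtype.val (LinearMap.mem_ker.mp j.2)
        rw [smul_eq_mul, Ideal.mul_top]
        exact Ideal.Quotient.eq_zero_iff_mem.mp h0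
      rw [hk (n + k) le_add_self, Nat.add_sub_cancel] at hj
      have hj' : (j : J) ∈ (I ^ n • ⊤ : Submodule R J) := by
        have h1 : ((j : J) : R) ∈ (I ^ n • ⊤ : Submodule R J).map J.subtype := by
          rw [Submodule.map_smul'', Submodule.map_top, Submodule.range_subtype]
          exact Submodule.smul_mono le_rfl inf_le_right hj
        obtain ⟨j', hj', he⟩ := h1
        rwa [← Subtype.ext he]
      generalize (j : J) = j₀ at hj' ⊢
      induction hj' using Submodule.smul_induction_on' with
      | smul r hr a _ =>
        rw [tmul_smul, smul_tmul', ← algebraMap_smul S r m, ← smul_tmul']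
        refine Submodule.smul_mem_smul ?_ trivial
        rw [← Ideal.map_pow]
        exact Ideal.mem_map_of_mem _ hr
      | add a _ b _ ha hb => rw [tmul_add]; exact add_mem ha hb
  have hbot := Ideal.iInf_pow_smul_eq_bot_of_le_jacobson (M := M ⊗[R] J) _ hI
  rw [← Submodule.mem_bot S, ← hbot, Submodule.mem_iInf]
  exact key

end Criterion

/-- The fibrewise criterion of flatness. -/
theorem flat_of_flat_fibre {R S S' M : Type u} [CommRing R] [CommRing S] [CommRing S'] [IsNoetherianRing S]
    [IsNoetherianRing S'] [Algebra R S] [Algebra S S'] (m : Ideal R)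
    [AddCommGroup M] [Module S' M] [Module S M] [Module R M] [IsScalarTower S S' M] [IsScalarTower R S M]
    [Module.Finite S' M] [Module.Flat R M]
    (hm : (m.map (algebraMap R S)).map (algebraMap S S') ≤ Ideal.jacobson ⊥)
    [Module.Flat (S ⧸ m.map (algebraMap R S)) ((S ⧸ m.map (algebraMap R S)) ⊗[S] M)] :
    Module.Flat S M := by
  refine flat_of_injective_of_flat_quotient (m.map (algebraMap R S)) hm ?_
  refine (injective_iff_map_eq_zero _).mpr fun x hx => ?_
  let e : m →ₗ[R] (m.map (algebraMap R S) : Ideal S) :=
    { toFun := fun a => ⟨algebraMap R S a, Ideal.mem_map_of_mem _ a.2⟩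
      map_add' := fun a b => Subtype.ext (map_add (algebraMap R S) (a : R) b)
      map_smul' := fun a b => Subtype.ext (by simp [Algebra.smul_def]) }
  let ψ : m ⊗[R] M →ₗ[R] (m.map (algebraMap R S) : Ideal S) ⊗[S] M :=
    TensorProduct.lift (((TensorProduct.mk S (m.map (algebraMap R S) : Ideal S) M).restrictScalars₁₂ R R).comp e)
  have hψ : Function.Surjective ψ := by
    intro z
    induction z with
    | zero => exact ⟨0, map_zero _⟩
    | add a b ha hb =>
      obtain ⟨a, rfl⟩ := ha; obtain ⟨b, rfl⟩ := hb
      exact ⟨a + b, map_add _ _ _⟩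
    | tmul i y =>
      obtain ⟨i, hi⟩ := i
      induction hi using Submodule.span_induction generalizing y with
      | mem i hi =>
        obtain ⟨a, ha, rfl⟩ := hi
        exact ⟨⟨a, ha⟩ ⊗ₜ y, rfl⟩
      | zero => exact ⟨0, by rw [map_zero]; exact (zero_tmul _ y).symm⟩
      | add a b ha hb iha ihb =>
        obtain ⟨a', ha'⟩ := iha y; obtain ⟨b', hb'⟩ := ihb y
        refine ⟨a' + b', ?_⟩
        rw [map_add, ha', hb', ← add_tmul]
        rfl
      | smul c a ha iha =>
        obtain ⟨a', ha'⟩ := iha (c • y)
        refine ⟨a', ?_⟩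
        rw [ha', tmul_smul, smul_tmul']
        rfl
  obtain ⟨w, rfl⟩ := hψ x
  suffices w = 0 by rw [this, map_zero]
  refine Module.Flat.rTensor_preserves_injective_linearMap (M := M) m.subtype Subtype.val_injective ?_
  rw [map_zero]
  refine (TensorProduct.lid R M).injective ?_
  rw [map_zero]
  have h2 : ∀ w, TensorProduct.lid R M (m.subtype.rTensor M w) =
      TensorProduct.lid S M (LinearMap.rTensor M (Submodule.subtype _) (ψ w)) := by
    intro w
    induction w with
    | zero => simp
    | add a b ha hb => simp [map_add, ha, hb]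
    | tmul a y => simp [ψ, e]
  rw [h2, hx, map_zero]

/-- Flatness descends along a faithfully flat module. -/
theorem flat_of_faithfullyFlat_of_flat {R S M : Type u} [CommRing R] [CommRing S] [Algebra R S] [AddCommGroup M]
    [Module R M] [Module S M] [IsScalarTower R S M] [Module.FaithfullyFlat S M] [Module.Flat R M] :
    Module.Flat R S := by
  rw [Module.Flat.iff_lTensor_injective']
  intro K
  let f : S ⊗[R] K →ₗ[S] S ⊗[R] R := K.subtype.baseChange S
  refine (Module.FaithfullyFlat.lTensor_injective_iff_injective S M f).mp ?_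
  let eK := AlgebraTensorModule.cancelBaseChange R S S M K
  let eR := AlgebraTensorModule.cancelBaseChange R S S M R
  have h : ∀ w, eR (f.lTensor M w) = K.subtype.lTensor M (eK w) := by
    intro w
    induction w with
    | zero => simp
    | add a b ha hb => simp [map_add, ha, hb]
    | tmul a y =>
      induction y with
      | zero => simp
      | add u v hu hv =>
        simp only [LinearMap.lTensor_tmul] at hu hv
        simp [tmul_add, map_add, hu, hv]
      | tmul s k => simp [eK, eR, f]
  intro a b hab
  exact eK.injective (Module.Flat.lTensor_preserves_injective_linearMap _ Subtype.val_injective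
    (by rw [← h, ← h, hab]))

end Groth.FlatDescent
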