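import Mathlib
import Groth.Prelude.Def_FlatCA
import Groth.Agent.FlatDescent.Local

/-!
# Flatness at a prime of a quotient of a flat module

`TorVan N I q`: elements of `N ∩ I F` lie in `I N` up to an element outside `q`.
`torVan_of_flatAt`, `flatAt_of_torVan` (Noetherian, `I` the prime below `q`).
-/

universe u

open TensorProduct

namespace Groth.FlatDescent

variable {A : Type u} [CommRing A] {P : Type u} [CommRing P] [Algebra A P]
variable {X Y : Type u} [AddCommGroup X] [Module A X] [Module P X] [IsScalarTower A P X]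
  [AddCommGroup Y] [Module A Y] [Module P Y] [IsScalarTower A P Y]

section Mul

variable (P X) (I : Ideal A)

/-- Multiplication `X ⊗ I → X`. -/
noncomputable def mulI : X ⊗[A] I →ₗ[P] X :=
  (AlgebraTensorModule.rid A P X).toLinearMap.comp (AlgebraTensorModule.lTensor P X I.subtype)

variable {P X I}

@[simp] lemma mulI_tmul (x : X) (i : I) : mulI P X I (x ⊗ₜ i) = (i : A) • x := by simp [mulI]

lemma mulI_natural (g : X →ₗ[P] Y) (z : X ⊗[A] I) :
    mulI P Y I (AlgebraTensorModule.rTensor A I g z) = g (mulI P X I z) := by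
  induction z with
  | zero => simp
  | add a b ha hb => rw [map_add, map_add, map_add, map_add, ha, hb]
  | tmul x i => simp [LinearMap.map_smul_of_tower]

lemma range_mulI : LinearMap.range (mulI P X I) = I.map (algebraMap A P) • (⊤ : Submodule P X) := by
  refine le_antisymm ?_ (Submodule.smul_le.mpr fun r hr x _ => ?_)
  · rintro _ ⟨z, rfl⟩
    induction z with
    | zero => simp
    | add a b ha hb => rw [map_add]; exact add_mem ha hb
    | tmul x i =>
      rw [mulI_tmul, ← algebraMap_smul P (i : A) x]
      exact Submodule.smul_mem_smul (Ideal.mem_map_of_mem _ i.2) (Submodule.mem_top)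
  · induction hr using Submodule.span_induction generalizing x with
    | mem r hr =>
      obtain ⟨a, ha, rfl⟩ := hr
      exact ⟨x ⊗ₜ ⟨a, ha⟩, by rw [mulI_tmul, algebraMap_smul]⟩
    | zero => simp
    | add a b _ _ ha hb => rw [add_smul]; exact add_mem (ha x trivial) (hb x trivial)
    | smul c r _ hr => rw [smul_eq_mul, mul_smul]; exact Submodule.smul_mem _ c (hr x trivial)

lemma mulI_injective_of_flat [Module.Flat A X] : Function.Injective (mulI P X I) :=
  (AlgebraTensorModule.rid A P X).injective.comp
    (Module.Flat.lTensor_preserves_injective_linearMap I.subtype Subtype.val_injective)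

end Mul

variable {F : Type u} [AddCommGroup F] [Module A F] [Module P F] [IsScalarTower A P F]

/-- Elements of `N ∩ I F` lie in `I N` up to elements outside `q`. -/
def TorVan (N : Submodule P F) (I : Ideal A) (q : Ideal P) : Prop :=
  ∀ x ∈ N, x ∈ I.map (algebraMap A P) • (⊤ : Submodule P F) →
    ∃ s : P, s ∉ q ∧ s • x ∈ I.map (algebraMap A P) • N

lemma map_subtype_smul_top (N : Submodule P F) (J : Ideal P) :
    (J • (⊤ : Submodule P N)).map N.subtype = J • N := by
  rw [Submodule.map_smul'', Submodule.map_top, Submodule.range_subtype]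

variable (N : Submodule P F) (q : Ideal P) [q.IsPrime]

theorem torVan_of_flatAt (h : FlatCA.FlatAt A q (F ⧸ N)) (I : Ideal A) : TorVan N I q := by
  intro x hxN hx
  haveI : Module.Flat A (LocalizedModule q.primeCompl (F ⧸ N)) := h
  obtain ⟨z, rfl⟩ := (range_mulI (P := P) (X := F) (I := I)).ge hx
  let loc := LocalizedModule.mkLinearMap q.primeCompl (F ⧸ N)
  let qI := AlgebraTensorModule.rTensor A I N.mkQ
  haveI : IsLocalizedModule q.primeCompl (AlgebraTensorModule.rTensor A I loc) := inferInstance
  have h0 : AlgebraTensorModule.rTensor A I loc (qI z) = 0 := by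
    refine mulI_injective_of_flat (P := P) ?_
    rw [map_zero, mulI_natural, mulI_natural, Submodule.mkQ_apply, (Submodule.Quotient.mk_eq_zero N).mpr hxN, map_zero]
  obtain ⟨s, hs⟩ := (IsLocalizedModule.eq_zero_iff q.primeCompl _).mp h0
  have h1 : (N.mkQ.restrictScalars A).rTensor I ((s : P) • z) = 0 := by
    show qI ((s : P) • z) = 0
    rw [map_smul]
    exact hs
  obtain ⟨ν, hν⟩ := (rTensor_exact I (f := N.subtype.restrictScalars A) (g := N.mkQ.restrictScalars A)
    (LinearMap.exact_subtype_mkQ N) N.mkQ_surjective _).mp h1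
  refine ⟨s, s.2, ?_⟩
  rw [← map_smul, ← hν, show LinearMap.rTensor I (N.subtype.restrictScalars A) ν =
    AlgebraTensorModule.rTensor A I N.subtype ν from rfl, mulI_natural, ← map_subtype_smul_top]
  exact Submodule.mem_map_of_mem ((range_mulI (P := P) (X := N) (I := I)).le ⟨ν, rfl⟩)

theorem flatAt_of_torVan [IsNoetherianRing A] [IsNoetherianRing P] [Module.Finite P F] [Module.Flat A F]
    (h : TorVan N (q.comap (algebraMap A P)) q) : FlatCA.FlatAt A q (F ⧸ N) := by
  set p := q.comap (algebraMap A P) with hp
  let Mq := LocalizedModule q.primeCompl (F ⧸ N)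
  let Pq := Localization.AtPrime q
  let loc := LocalizedModule.mkLinearMap q.primeCompl (F ⧸ N)
  haveI : Module.Finite Pq Mq := inferInstance
  haveI : IsNoetherianRing Pq := IsLocalization.isNoetherianRing q.primeCompl Pq inferInstance
  have hunit : ∀ a : A, a ∉ p → Function.Bijective fun x : Mq => a • x := fun a ha => by
    let u : q.primeCompl := ⟨algebraMap A P a, fun hh => ha (by rw [hp, Ideal.mem_comap]; exact hh)⟩
    have := (Module.End.isUnit_iff _).mp (IsLocalizedModule.map_units loc u)
    convert this using 1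
    exact funext fun x => (algebraMap_smul P a x).symm
  haveI : Module.Flat (A ⧸ p) ((A ⧸ p) ⊗[A] Mq) := by
    refine flat_of_bijective_smul fun a ha => ?_
    obtain ⟨a, rfl⟩ := Ideal.Quotient.mk_surjective a
    let g : Mq ≃ₗ[A] Mq := LinearEquiv.ofBijective (LinearMap.lsmul A Mq a)
      (hunit a fun h => ha (Ideal.Quotient.eq_zero_iff_mem.mpr h))
    convert (LinearEquiv.lTensor (A ⧸ p) g).bijective using 1
    ext x
    induction x with
    | zero => simp
    | add u v hu hv => rw [smul_add, hu, hv, map_add]
    | tmul b m =>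
      show (Ideal.Quotient.mk p a * b) ⊗ₜ[A] m = b ⊗ₜ[A] (a • m)
      rw [tmul_smul, smul_tmul']
      rfl
  refine flat_of_injective_of_flat_quotient (S := Pq) p ?_ ?_
  · rw [IsLocalRing.jacobson_eq_maximalIdeal _ bot_ne_top, Ideal.map_le_iff_le_comap]
    intro a ha
    rw [Ideal.mem_comap, IsScalarTower.algebraMap_apply A P Pq]
    exact (IsLocalization.AtPrime.to_map_mem_maximal_iff Pq q _).mpr ha
  · refine (injective_iff_map_eq_zero _).mpr fun ξ hξ => ?_
    let ξ' : Mq ⊗[A] p := TensorProduct.comm A p Mq ξ
    have hξ' : mulI P Mq p ξ' = 0 := by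
      have : ∀ w : p ⊗[A] Mq, mulI P Mq p (TensorProduct.comm A p Mq w) =
          TensorProduct.lid A Mq (p.subtype.rTensor Mq w) := by
        intro w
        induction w with
        | zero => simp
        | add u v hu hv => simp [map_add, hu, hv]
        | tmul i m => simp
      rw [this, hξ, map_zero]
    suffices ξ' = 0 from (LinearEquiv.map_eq_zero_iff (TensorProduct.comm A p Mq)).mp this
    haveI : IsLocalizedModule q.primeCompl (AlgebraTensorModule.rTensor A p loc) := inferInstance
    obtain ⟨⟨η, t⟩, hη⟩ := IsLocalizedModule.surj q.primeCompl (AlgebraTensorModule.rTensor A p loc) ξ'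
    obtain ⟨ζ, rfl⟩ := (LinearMap.rTensor_surjective p (g := N.mkQ.restrictScalars A) N.mkQ_surjective :
      Function.Surjective (AlgebraTensorModule.rTensor A p N.mkQ)) η
    have h0 : loc (N.mkQ (mulI P F p ζ)) = 0 := by
      rw [← mulI_natural, ← mulI_natural]
      refine (congrArg (mulI P Mq p) hη.symm).trans ?_
      show mulI P Mq p ((t : P) • ξ') = 0
      rw [map_smul, hξ', smul_zero]
    obtain ⟨t', ht'⟩ := (IsLocalizedModule.eq_zero_iff q.primeCompl loc).mp h0
    obtain ⟨s, hs, hs'⟩ := h ((t' : P) • mulI P F p ζ) (by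
        rw [← Submodule.Quotient.mk_eq_zero, ← Submodule.mkQ_apply, map_smul]; exact ht')
      (Submodule.smul_mem _ _ ((range_mulI (P := P) (X := F) (I := p)).le ⟨ζ, rfl⟩))
    rw [← map_subtype_smul_top, ← range_mulI] at hs'
    obtain ⟨_, ⟨ν, rfl⟩, hν⟩ := hs'
    rw [← mulI_natural, ← map_smul, ← map_smul] at hν
    have h1 := congrArg (AlgebraTensorModule.rTensor A p N.mkQ) (mulI_injective_of_flat (P := P) hν)
    have h2 : ∀ ν, AlgebraTensorModule.rTensor A p N.mkQ (AlgebraTensorModule.rTensor A p N.subtype ν) = 0 := by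
      intro ν
      induction ν with
      | zero => simp
      | add u v hu hv => rw [map_add, map_add, hu, hv, add_zero]
      | tmul n i => simp [(Submodule.Quotient.mk_eq_zero N).mpr n.2]
    rw [h2, map_smul, map_smul] at h1
    have h3 := congrArg (AlgebraTensorModule.rTensor A p loc) h1
    rw [map_zero, map_smul, map_smul,
      show AlgebraTensorModule.rTensor A p loc (AlgebraTensorModule.rTensor A p N.mkQ ζ) = (t : P) • ξ' from hη.symm] at h3
    have hu : ∀ u : q.primeCompl, ∀ w : Mq ⊗[A] p, (u : P) • w = 0 → w = 0 := fun u w hw =>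
      ((Module.End.isUnit_iff _).mp (IsLocalizedModule.map_units (AlgebraTensorModule.rTensor A p loc) u)).1
        (by simpa [Module.algebraMap_end_apply] using hw)
    exact hu t _ (hu t' _ (hu ⟨s, hs⟩ _ h3.symm))

end Groth.FlatDescent
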