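import Mathlib
import Groth.Agent.FlatDescent.TorVan

/-!
# Flatness after localisation, elementwise

`FlatOn A S M`: every element of the kernel of `M ⊗ I → M` is killed by an element of `S`.
This is flatness over `A` of the localisation of `M` at `S`.
-/

universe u

open TensorProduct

namespace Groth.FlatDescent

variable (A : Type u) [CommRing A] {P : Type u} [CommRing P] [Algebra A P]
variable {M M' M'' X : Type u} [AddCommGroup M] [Module A M] [Module P M] [IsScalarTower A P M]
  [AddCommGroup M'] [Module A M'] [Module P M'] [IsScalarTower A P M']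
  [AddCommGroup M''] [Module A M''] [Module P M''] [IsScalarTower A P M'']
  [AddCommGroup X] [Module A X] [Module P X] [IsScalarTower A P X]

/-- Flatness of the localisation at `S`, elementwise. -/
def FlatOn (S : Submonoid P) (M : Type u) [AddCommGroup M] [Module A M] [Module P M] [IsScalarTower A P M] :
    Prop :=
  ∀ (I : Ideal A) (x : M ⊗[A] I), mulI P M I x = 0 → ∃ s ∈ S, s • x = 0

variable {A}

theorem flatOn_iff_flat (S : Submonoid P) (f : M →ₗ[P] X) [IsLocalizedModule S f] :
    FlatOn A S M ↔ Module.Flat A X := by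
  constructor
  · intro h
    rw [Module.Flat.iff_lTensor_injective']
    intro I
    refine (injective_iff_map_eq_zero _).mpr fun ξ hξ => ?_
    haveI : IsLocalizedModule S (AlgebraTensorModule.rTensor A I f) := inferInstance
    obtain ⟨⟨η, t⟩, hη⟩ := IsLocalizedModule.surj S (AlgebraTensorModule.rTensor A I f) ξ
    have h0 : f (mulI P M I η) = 0 := by
      rw [← mulI_natural]
      refine (congrArg (mulI P X I) hη.symm).trans ?_
      show mulI P X I ((t : P) • ξ) = 0
      rw [map_smul, show mulI P X I ξ = AlgebraTensorModule.rid A P X (I.subtype.lTensor X ξ) from rfl, hξ, map_zero,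
        smul_zero]
    obtain ⟨t', ht'⟩ := (IsLocalizedModule.eq_zero_iff S f).mp h0
    obtain ⟨s, hs, hsx⟩ := h I ((t' : P) • η) (by rw [map_smul]; exact ht')
    have hu : ∀ u : S, ∀ w : X ⊗[A] I, (u : P) • w = 0 → w = 0 := fun u w hw =>
      ((Module.End.isUnit_iff _).mp (IsLocalizedModule.map_units (AlgebraTensorModule.rTensor A I f) u)).1
        (by simpa [Module.algebraMap_end_apply] using hw)
    refine hu t _ (hu t' _ (hu ⟨s, hs⟩ _ ?_))
    have h3 := congrArg (AlgebraTensorModule.rTensor A I f) hsx
    rw [map_zero, map_smul, map_smul, show AlgebraTensorModule.rTensor A I f η = (t : P) • ξ from hη.symm] at h3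
    exact h3
  · intro h I x hx
    have h0 : AlgebraTensorModule.rTensor A I f x = 0 := by
      refine mulI_injective_of_flat (P := P) ?_
      rw [map_zero, mulI_natural, hx, map_zero]
    obtain ⟨s, hs⟩ := (IsLocalizedModule.eq_zero_iff S _).mp h0
    exact ⟨s, s.2, hs⟩

theorem flatOn_primeCompl_iff (q : Ideal P) [q.IsPrime] : FlatOn A q.primeCompl M ↔ FlatCA.FlatAt A q M :=
  flatOn_iff_flat q.primeCompl (LocalizedModule.mkLinearMap q.primeCompl M)

theorem flatOn_powers_iff (g : P) :
    FlatOn A (Submonoid.powers g) M ↔ Module.Flat A (LocalizedModule (Submonoid.powers g) M) :=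
  flatOn_iff_flat _ (LocalizedModule.mkLinearMap _ M)

theorem FlatOn.mono {S S' : Submonoid P} (h : FlatOn A S M) (hS : ∀ s ∈ S, ∃ t, t * s ∈ S') : FlatOn A S' M := by
  intro I x hx
  obtain ⟨s, hs, hsx⟩ := h I x hx
  obtain ⟨t, ht⟩ := hS s hs
  exact ⟨_, ht, by rw [mul_smul, hsx, smul_zero]⟩

theorem FlatOn.of_le {S S' : Submonoid P} (h : FlatOn A S M) (hS : S ≤ S') : FlatOn A S' M :=
  h.mono fun s hs => ⟨1, by rw [one_mul]; exact hS hs⟩

theorem FlatOn.of_equiv {S : Submonoid P} (h : FlatOn A S M) (e : M ≃ₗ[P] M') : FlatOn A S M' := by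
  intro I x hx
  obtain ⟨s, hs, hsx⟩ := h I (AlgebraTensorModule.rTensor A I e.symm.toLinearMap x)
    (by rw [mulI_natural, hx, map_zero])
  refine ⟨s, hs, ?_⟩
  have := congrArg (AlgebraTensorModule.rTensor A I e.toLinearMap) hsx
  rw [map_smul, map_zero, ← LinearMap.comp_apply, ← AlgebraTensorModule.rTensor_comp] at this
  simpa using this

theorem flatOn_of_subsingleton {S : Submonoid P} (h : ∀ m : M, ∃ s ∈ S, s • m = 0) : FlatOn A S M := by
  intro I x hx0
  clear hx0
  induction x with
  | zero => exact ⟨1, S.one_mem, smul_zero _⟩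
  | tmul m i =>
    obtain ⟨s, hs, hsm⟩ := h m
    exact ⟨s, hs, by rw [smul_tmul', hsm, zero_tmul]⟩
  | add a b ha hb =>
    obtain ⟨s, hs, hsa⟩ := ha; obtain ⟨t, ht, htb⟩ := hb
    exact ⟨s * t, S.mul_mem hs ht, by rw [smul_add, mul_smul _ _ b, htb, mul_comm, mul_smul, hsa, smul_zero, smul_zero, add_zero]⟩

/-- Extensions. -/
theorem FlatOn.of_exact {S : Submonoid P} (f : M →ₗ[P] M') (g : M' →ₗ[P] M'') (hf : Function.Injective f)
    (hfg : Function.Exact f g) (hg : Function.Surjective g) (h : FlatOn A S M) (h'' : FlatOn A S M'') :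
    FlatOn A S M' := by
  intro I x hx
  obtain ⟨s, hs, hsx⟩ := h'' I (AlgebraTensorModule.rTensor A I g x) (by rw [mulI_natural, hx, map_zero])
  rw [← map_smul] at hsx
  obtain ⟨y, hy⟩ := (rTensor_exact I (f := f.restrictScalars A) (g := g.restrictScalars A) hfg hg _).mp hsx
  replace hy : AlgebraTensorModule.rTensor A I f y = s • x := hy
  obtain ⟨t, ht, hty⟩ := h I y (hf (by rw [← mulI_natural, hy, map_smul, hx, smul_zero, map_zero]))
  refine ⟨t * s, S.mul_mem ht hs, ?_⟩
  rw [mul_smul, ← hy, ← map_smul, hty, map_zero]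

/-- An injective map with flat cokernel stays injective after tensoring, up to `S`. -/
theorem exists_smul_eq_zero_of_exact {S : Submonoid P} (f : M →ₗ[P] M') (g : M' →ₗ[P] M'')
    (hf : Function.Injective f) (hfg : Function.Exact f g) (hg : Function.Surjective g) (h'' : FlatOn A S M'')
    (I : Type u) [AddCommGroup I] [Module A I] (x : M ⊗[A] I) (hx : AlgebraTensorModule.rTensor A I f x = 0) :
    ∃ s ∈ S, s • x = 0 := by
  let l := LocalizedModule.mkLinearMap S M
  let l' := LocalizedModule.mkLinearMap S M'
  let l'' := LocalizedModule.mkLinearMap S M''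
  haveI : Module.Flat A (LocalizedModule S M'') := (flatOn_iff_flat S l'').mp h''
  let F := IsLocalizedModule.map S l l' f
  let G := IsLocalizedModule.map S l' l'' g
  have hF : Function.Injective F := IsLocalizedModule.map_injective S _ _ f hf
  have hG : Function.Surjective G := IsLocalizedModule.map_surjective S _ _ g hg
  have hFG : Function.Exact F G := IsLocalizedModule.map_exact S l l' l'' f g hfg
  have hinj := LinearMap.lTensor_injective_of_exact_of_flat (G.restrictScalars A) hG (F.restrictScalars A) hF hFG I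
  have h0 : AlgebraTensorModule.rTensor A I l x = 0 := by
    refine (TensorProduct.comm A (LocalizedModule S M) I).injective (hinj ?_)
    rw [map_zero, map_zero]
    have hc : ∀ w, (F.restrictScalars A).lTensor I (TensorProduct.comm A _ I (AlgebraTensorModule.rTensor A I l w)) =
        TensorProduct.comm A _ I (AlgebraTensorModule.rTensor A I l' (AlgebraTensorModule.rTensor A I f w)) := by
      intro w
      induction w with
      | zero => simp
      | add a b ha hb => simp only [map_add, ha, hb]
      | tmul m i =>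
        show i ⊗ₜ[A] F (l m) = i ⊗ₜ[A] l' (f m)
        rw [IsLocalizedModule.map_apply]
    rw [hc, hx, map_zero, map_zero]
  haveI : IsLocalizedModule S (AlgebraTensorModule.rTensor A I l) := inferInstance
  obtain ⟨s, hs⟩ := (IsLocalizedModule.eq_zero_iff S _).mp h0
  exact ⟨s, s.2, hs⟩

/-- Change of the algebra. -/
theorem flatOn_map_iff {P' : Type u} [CommRing P'] [Algebra A P'] [Algebra P P'] [IsScalarTower A P P']
    [Module P' M] [IsScalarTower P P' M] [IsScalarTower A P' M] (S : Submonoid P) :
    FlatOn A (S.map (algebraMap P P')) M ↔ FlatOn A S M := by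
  have hsmul : ∀ (I : Ideal A) (s : P) (x : M ⊗[A] I), algebraMap P P' s • x = s • x := by
    intro I s x
    induction x with
    | zero => simp
    | add a b ha hb => simp [smul_add, ha, hb]
    | tmul m i => rw [smul_tmul', smul_tmul', algebraMap_smul]
  have hmul : ∀ (I : Ideal A) (x : M ⊗[A] I), mulI P' M I x = mulI P M I x := by
    intro I x
    induction x with
    | zero => simp
    | add a b ha hb => simp [ha, hb]
    | tmul m i => simp
  constructor
  · intro h I x hx
    obtain ⟨_, ⟨s, hs, rfl⟩, hsx⟩ := h I x ((hmul I x).trans hx)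
    exact ⟨s, hs, (hsmul I s x).symm.trans hsx⟩
  · intro h I x hx
    obtain ⟨s, hs, hsx⟩ := h I x ((hmul I x).symm.trans hx)
    exact ⟨_, ⟨s, hs, rfl⟩, (hsmul I s x).trans hsx⟩

end Groth.FlatDescent
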