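import Mathlib
import Groth.Agent.FlatDescent.FlatOn

/-!
# Generic flatness

`exists_flatOn`: for a Noetherian domain `D`, a finite type `D`-algebra `C` and a finite `C`-module `M`,
`M` is flat over `D` after inverting a nonzero element of `D`.
-/

universe u

open TensorProduct

namespace Groth.FlatDescent

variable {D C : Type u} [CommRing D] [IsDomain D] [IsNoetherianRing D] [CommRing C] [Algebra D C]

/-- For a domain, flatness after inverting a nonzero element of the algebra. -/
theorem exists_flatOn_powers [IsDomain C] [Algebra.FiniteType D C] (hinj : Function.Injective (algebraMap D C)) :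
    ∃ g : C, g ≠ 0 ∧ FlatOn D (Submonoid.powers g) C := by
  classical
  haveI : FaithfulSMul D C := (faithfulSMul_iff_algebraMap_injective D C).mpr hinj
  obtain ⟨s, hs⟩ := ‹Algebra.FiniteType D C›.out
  haveI : Algebra.IsAlgebraic (Algebra.adjoin D (s : Set C)) C :=
    ⟨fun x => isAlgebraic_algebraMap (⟨x, by rw [hs]; trivial⟩ : Algebra.adjoin D (s : Set C))⟩
  obtain ⟨t, ht, htb⟩ := exists_isTranscendenceBasis_subset (R := D) (s : Set C)
  let B := Algebra.adjoin D (Set.range ((↑) : t → C))
  haveI : Algebra.IsAlgebraic B C := htb.isAlgebraic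
  haveI : Module.Flat D B := Module.Flat.of_linearEquiv htb.1.aevalEquiv.toLinearEquiv.symm
  haveI : Finite t := (s.finite_toSet.subset ht).to_subtype
  haveI : Algebra.FiniteType D B :=
    ⟨(B : Subalgebra D C).fg_top.mpr (Subalgebra.fg_def.mpr ⟨_, Set.finite_range _, rfl⟩)⟩
  haveI : IsNoetherianRing B := Algebra.FiniteType.isNoetherianRing D B
  obtain ⟨y, hy, hint⟩ := Algebra.IsAlgebraic.exists_integral_multiples B s
  let C' := Algebra.adjoin B ((fun z => y • z) '' (s : Set C))
  haveI : Module.Finite B C' := ⟨(Submodule.fg_top _).mpr (fg_adjoin_of_finite (s.finite_toSet.image _) (by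
    rintro _ ⟨z, hz, rfl⟩; exact hint z hz))⟩
  haveI : Module.FinitePresentation B C' := Module.finitePresentation_of_finite _ _
  letI : AddCommGroup C' := inferInstance
  obtain ⟨r, hr, hfree, -⟩ := Module.FinitePresentation.exists_free_localizedModule_powers (M := C')
    (M' := LocalizedModule (nonZeroDivisors B) C') (nonZeroDivisors B)
    (LocalizedModule.mkLinearMap (nonZeroDivisors B) C') (FractionRing B)
  haveI := hfree
  have hC' : FlatOn D (Submonoid.powers r) C' := by
    rw [flatOn_powers_iff]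
    haveI : Module.Flat B (LocalizedModule (Submonoid.powers r) C') :=
      Module.Flat.trans B (Localization (Submonoid.powers r)) _
    exact Module.Flat.trans D B _
  refine ⟨algebraMap B C (r * y), (map_ne_zero_iff _ Subtype.val_injective).mpr
    (mul_ne_zero (nonZeroDivisors.ne_zero hr) hy), ?_⟩
  rw [show Submonoid.powers (algebraMap B C (r * y)) = (Submonoid.powers (r * y)).map (algebraMap B C) from
    (Submonoid.map_powers _ _).symm, flatOn_map_iff]
  have hmem : ∀ c : C, ∃ n : ℕ, y ^ n • c ∈ C' := by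
    intro c
    have hc : c ∈ Algebra.adjoin D (s : Set C) := by rw [hs]; trivial
    induction hc using Algebra.adjoin_induction with
    | mem z hz => exact ⟨1, by rw [pow_one]; exact Algebra.subset_adjoin ⟨z, hz, rfl⟩⟩
    | algebraMap d =>
      refine ⟨0, ?_⟩
      rw [pow_zero, one_smul, IsScalarTower.algebraMap_apply D B C]
      exact C'.algebraMap_mem _
    | add a b _ _ ha hb =>
      obtain ⟨n, hn⟩ := ha; obtain ⟨m, hm⟩ := hb
      refine ⟨n + m, ?_⟩
      rw [smul_add, pow_add, mul_smul, mul_smul, smul_comm (y ^ n) (y ^ m) a]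
      exact add_mem (C'.smul_mem hn _) (C'.smul_mem hm _)
    | mul a b _ _ ha hb =>
      obtain ⟨n, hn⟩ := ha; obtain ⟨m, hm⟩ := hb
      refine ⟨n + m, ?_⟩
      rw [pow_add, ← smul_mul_smul_comm]
      exact mul_mem hn hm
  intro I x hx
  have hlift : ∀ x : C ⊗[D] I, ∃ n : ℕ, ∃ x', AlgebraTensorModule.rTensor D I C'.val.toLinearMap x' = y ^ n • x := by
    intro x
    induction x with
    | zero => exact ⟨0, 0, by simp⟩
    | tmul c i =>
      obtain ⟨n, hn⟩ := hmem c
      exact ⟨n, (⟨_, hn⟩ : C') ⊗ₜ i, rfl⟩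
    | add a b ha hb =>
      obtain ⟨n, a', ha'⟩ := ha; obtain ⟨m, b', hb'⟩ := hb
      refine ⟨n + m, y ^ m • a' + y ^ n • b', ?_⟩
      rw [map_add, map_smul, map_smul, ha', hb', smul_add, smul_smul, smul_smul, pow_add, mul_comm (y ^ n)]
  obtain ⟨n, x', hx'⟩ := hlift x
  obtain ⟨_, ⟨m, rfl⟩, hm⟩ := hC' I x' (Subtype.val_injective (by
    have := mulI_natural (P := B) C'.val.toLinearMap x'
    rw [hx', map_smul, hx, smul_zero] at this
    exact this.symm))
  refine ⟨(r * y) ^ (m + n), ⟨_, rfl⟩, ?_⟩
  have := congrArg (AlgebraTensorModule.rTensor D I C'.val.toLinearMap) hm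
  rw [map_zero, map_smul, hx', smul_smul] at this
  replace this : (r ^ m * y ^ n) • x = 0 := this
  rw [show (r * y) ^ (m + n) = (r ^ n * y ^ m) * (r ^ m * y ^ n) by ring]
  exact (mul_smul _ _ _).trans ((congrArg _ this).trans (smul_zero _))

/-- Generic flatness for cyclic modules. -/
theorem exists_flatOn_quotient [Algebra.FiniteType D C] (J : Ideal C) :
    ∃ a : D, a ≠ 0 ∧ FlatOn D (Submonoid.powers (algebraMap D C a)) (C ⧸ J) := by
  haveI : IsNoetherianRing C := Algebra.FiniteType.isNoetherianRing D C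
  refine IsNoetherian.induction (R := C) (M := C) (P := fun J : Ideal C =>
    ∃ a : D, a ≠ 0 ∧ FlatOn D (Submonoid.powers (algebraMap D C a)) (C ⧸ J)) (fun (J : Ideal C) ih => ?_) J
  by_cases hJp : J.IsPrime
  · by_cases hD : ∀ a : D, algebraMap D C a ∈ J → a = 0
    · have hinj : Function.Injective (algebraMap D (C ⧸ J)) := by
        refine (injective_iff_map_eq_zero _).mpr fun a ha => hD a ?_
        rwa [← Ideal.Quotient.eq_zero_iff_mem]
      haveI : Algebra.FiniteType D (C ⧸ J) :=
        Algebra.FiniteType.of_surjective (Ideal.Quotient.mkₐ D J) Ideal.Quotient.mk_surjective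
      obtain ⟨g', hg', hflat⟩ := exists_flatOn_powers hinj
      obtain ⟨g, rfl⟩ := Ideal.Quotient.mk_surjective g'
      have hgJ : g ∉ J := fun h => hg' (Ideal.Quotient.eq_zero_iff_mem.mpr h)
      rw [show Submonoid.powers (Ideal.Quotient.mk J g) = (Submonoid.powers g).map (algebraMap C (C ⧸ J)) from
        (Submonoid.map_powers _ _).symm, flatOn_map_iff] at hflat
      obtain ⟨a, ha, hfa⟩ := ih (J ⊔ Ideal.span {g}) (by
        refine lt_of_le_of_ne le_sup_left fun h => hgJ ?_
        rw [h]; exact Ideal.mem_sup_right (Ideal.mem_span_singleton_self g))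
      refine ⟨a, ha, fun I x hx => ?_⟩
      obtain ⟨_, ⟨n, rfl⟩, hn⟩ := hflat I x hx
      let f : (C ⧸ J) →ₗ[C] C ⧸ J := LinearMap.lsmul C (C ⧸ J) g
      let q : (C ⧸ J) →ₗ[C] C ⧸ (J ⊔ Ideal.span {g}) := Submodule.factor le_sup_left
      have hf : Function.Injective f := by
        refine (injective_iff_map_eq_zero _).mpr fun z hz => ?_
        obtain ⟨z, rfl⟩ := Ideal.Quotient.mk_surjective z
        rw [Ideal.Quotient.eq_zero_iff_mem]
        exact (hJp.mem_or_mem (Ideal.Quotient.eq_zero_iff_mem.mp hz)).resolve_left hgJ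
      have hq : Function.Surjective q := fun z => by
        obtain ⟨z, rfl⟩ := Submodule.Quotient.mk_surjective _ z
        exact ⟨Submodule.Quotient.mk z, rfl⟩
      have hfq : Function.Exact f q := by
        intro z
        obtain ⟨z, rfl⟩ := Submodule.Quotient.mk_surjective _ z
        constructor
        · intro hz
          obtain ⟨j, hj, e, he, rfl⟩ := Submodule.mem_sup.mp ((Submodule.Quotient.mk_eq_zero _).mp hz)
          obtain ⟨c, rfl⟩ := Ideal.mem_span_singleton'.mp he
          refine ⟨Submodule.Quotient.mk c, ?_⟩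
          show g • (Submodule.Quotient.mk c : C ⧸ J) = Submodule.Quotient.mk _
          rw [← Submodule.Quotient.mk_smul, Submodule.Quotient.eq, smul_eq_mul,
            show g * c - (j + c * g) = -j by ring]
          exact neg_mem hj
        · rintro ⟨w, hw⟩
          obtain ⟨w, rfl⟩ := Submodule.Quotient.mk_surjective _ w
          rw [← hw]
          show Submodule.Quotient.mk (g * w) = (0 : C ⧸ (J ⊔ Ideal.span {g}))
          exact (Submodule.Quotient.mk_eq_zero _).mpr (Ideal.mem_sup_right (Ideal.mem_span_singleton'.mpr ⟨w, mul_comm _ _⟩))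
      have step : ∀ z : (C ⧸ J) ⊗[D] I, g • z = 0 → ∃ s ∈ Submonoid.powers (algebraMap D C a), s • z = 0 := fun z hz => by
        refine exists_smul_eq_zero_of_exact f q hf hfq hq hfa I z ?_
        rw [← hz]
        clear hz
        induction z with
        | zero => simp
        | add u v hu hv => rw [map_add, hu, hv, smul_add]
        | tmul m i => rfl
      clear hx
      induction n generalizing x with
      | zero =>
        exact ⟨1, Submonoid.one_mem _, by simpa using hn⟩
      | succ n ih' =>
        obtain ⟨s, hs, hsx⟩ := ih' (g • x) (by rw [smul_smul, ← pow_succ]; exact hn)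
        rw [smul_comm] at hsx
        obtain ⟨t, ht, htx⟩ := step _ hsx
        exact ⟨t * s, Submonoid.mul_mem _ ht hs, by rw [mul_smul]; exact htx⟩
    · push Not at hD
      obtain ⟨a, haJ, ha⟩ := hD
      refine ⟨a, ha, flatOn_of_subsingleton fun m => ⟨_, Submonoid.mem_powers _, ?_⟩⟩
      obtain ⟨m, rfl⟩ := Submodule.Quotient.mk_surjective _ m
      rw [← Submodule.Quotient.mk_smul]
      exact (Submodule.Quotient.mk_eq_zero _).mpr (J.mul_mem_right _ haJ)
  · by_cases hJ : J = ⊤
    · exact ⟨1, one_ne_zero, flatOn_of_subsingleton fun m => ⟨1, Submonoid.one_mem _, by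
        subst hJ; exact Subsingleton.elim _ _⟩⟩
    · obtain ⟨x, hxJ, y, hyJ, hxy⟩ : ∃ x, x ∉ J ∧ ∃ y, y ∉ J ∧ x * y ∈ J := by
        by_contra h
        push Not at h
        exact hJp ⟨hJ, fun {x y} hxy => by
          by_contra h'
          push Not at h'
          exact h x h'.1 y h'.2 hxy⟩
      let K : Ideal C := Submodule.comap (LinearMap.mulLeft C x) J
      have hK : J < K := by
        refine lt_of_le_of_ne (fun z hz => J.mul_mem_left x hz) fun h => hyJ ?_
        rw [h]; exact hxy
      have hK' : J < J ⊔ Ideal.span {x} := by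
        refine lt_of_le_of_ne le_sup_left fun h => hxJ ?_
        rw [h]; exact Ideal.mem_sup_right (Ideal.mem_span_singleton_self x)
      obtain ⟨a, ha, hfa⟩ := ih K hK
      obtain ⟨b, hb, hfb⟩ := ih _ hK'
      refine ⟨a * b, mul_ne_zero ha hb, ?_⟩
      have hma : ∀ s ∈ Submonoid.powers (algebraMap D C a), ∃ t, t * s ∈ Submonoid.powers (algebraMap D C (a * b)) := by
        rintro _ ⟨n, rfl⟩
        exact ⟨algebraMap D C b ^ n, n, by simp only [map_mul]; ring⟩
      have hmb : ∀ s ∈ Submonoid.powers (algebraMap D C b), ∃ t, t * s ∈ Submonoid.powers (algebraMap D C (a * b)) := by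
        rintro _ ⟨n, rfl⟩
        exact ⟨algebraMap D C a ^ n, n, by simp only [map_mul]; ring⟩
      let f : (C ⧸ K) →ₗ[C] C ⧸ J := Submodule.mapQ K J (LinearMap.mulLeft C x) le_rfl
      let q : (C ⧸ J) →ₗ[C] C ⧸ (J ⊔ Ideal.span {x}) := Submodule.factor le_sup_left
      refine FlatOn.of_exact f q ?_ ?_ (Submodule.factor_surjective _) (hfa.mono hma) (hfb.mono hmb)
      · rw [← LinearMap.ker_eq_bot, Submodule.ker_mapQ]
        exact Submodule.mkQ_map_self K
      · intro z
        obtain ⟨z, rfl⟩ := Submodule.Quotient.mk_surjective _ z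
        constructor
        · intro hz
          obtain ⟨j, hj, e, he, rfl⟩ := Submodule.mem_sup.mp ((Submodule.Quotient.mk_eq_zero _).mp hz)
          obtain ⟨c, rfl⟩ := Ideal.mem_span_singleton'.mp he
          refine ⟨Submodule.Quotient.mk c, ?_⟩
          show (Submodule.Quotient.mk (x * c) : C ⧸ J) = Submodule.Quotient.mk _
          rw [Submodule.Quotient.eq, show x * c - (j + c * x) = -j by ring]
          exact neg_mem hj
        · rintro ⟨w, hw⟩
          obtain ⟨w, rfl⟩ := Submodule.Quotient.mk_surjective _ w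
          rw [← hw]
          show Submodule.Quotient.mk (x * w) = (0 : C ⧸ (J ⊔ Ideal.span {x}))
          exact (Submodule.Quotient.mk_eq_zero _).mpr (Ideal.mem_sup_right (Ideal.mem_span_singleton'.mpr ⟨w, mul_comm _ _⟩))

/-- **Generic flatness**. -/
theorem exists_flatOn [Algebra.FiniteType D C] (M : Type u) [AddCommGroup M] [Module C M] [Module D M]
    [IsScalarTower D C M] [Module.Finite C M] :
    ∃ a : D, a ≠ 0 ∧ FlatOn D (Submonoid.powers (algebraMap D C a)) M := by
  haveI : IsNoetherianRing C := Algebra.FiniteType.isNoetherianRing D C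
  let P : (N : Type u) → [AddCommGroup N] → [Module C N] → [Module.Finite C N] → Prop :=
    fun N _ _ _ => ∀ [Module D N] [IsScalarTower D C N],
      ∃ a : D, a ≠ 0 ∧ FlatOn D (Submonoid.powers (algebraMap D C a)) N
  suffices P M from this
  induction ‹Module.Finite C M› using IsNoetherianRing.induction_on_isQuotientEquivQuotientPrime C with
  | subsingleton N =>
    intro _ _
    exact ⟨1, one_ne_zero, flatOn_of_subsingleton fun m => ⟨1, Submonoid.one_mem _, Subsingleton.elim _ _⟩⟩
  | quotient N p e =>
    intro _ _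
    obtain ⟨a, ha, h⟩ := exists_flatOn_quotient (D := D) p.1
    exact ⟨a, ha, h.of_equiv e.symm⟩
  | exact N₁ N₂ N₃ f g hf hg hfg h₁ h₃ =>
    intro _ _
    letI : Module D N₁ := Module.compHom N₁ (algebraMap D C)
    haveI : IsScalarTower D C N₁ := IsScalarTower.of_algebraMap_smul fun _ _ => rfl
    letI : Module D N₃ := Module.compHom N₃ (algebraMap D C)
    haveI : IsScalarTower D C N₃ := IsScalarTower.of_algebraMap_smul fun _ _ => rfl
    obtain ⟨a, ha, hfa⟩ := @h₁ _ _
    obtain ⟨b, hb, hfb⟩ := @h₃ _ _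
    refine ⟨a * b, mul_ne_zero ha hb, FlatOn.of_exact f g hf hfg hg (hfa.mono ?_) (hfb.mono ?_)⟩
    · rintro _ ⟨n, rfl⟩
      exact ⟨algebraMap D C b ^ n, n, by simp only [map_mul]; ring⟩
    · rintro _ ⟨n, rfl⟩
      exact ⟨algebraMap D C a ^ n, n, by simp only [map_mul]; ring⟩

end Groth.FlatDescent
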