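import Mathlib
import Groth.Agent.FlatDescent.TorVan

/-!
# Noetherian descent of flatness for quotients of free modules over polynomial rings (EGA IV 11.2.6)

`baseN φ N`: the base change of a submodule `N ⊆ A[x]^k` along `φ : A → A'`.
`exists_finset_flatAt`: flatness of `R[x]^k / baseN φ N` at a prime descends to all Noetherian intermediate rings
containing some finite subset of `R`.
-/

universe u

open MvPolynomial

namespace Groth.FlatDescent

variable {σ : Type} {κ : Type} {A A' A'' : Type u} [CommRing A] [CommRing A'] [CommRing A'']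

/-- The map of free modules over polynomial rings induced by a ring map. -/
noncomputable def mapF (φ : A →+* A') : (κ → MvPolynomial σ A) →+ (κ → MvPolynomial σ A') :=
  (map φ).toAddMonoidHom.compLeft κ

@[simp] lemma mapF_apply (φ : A →+* A') (x : κ → MvPolynomial σ A) (i : κ) : mapF φ x i = map φ (x i) := rfl

lemma mapF_smul (φ : A →+* A') (r : MvPolynomial σ A) (x : κ → MvPolynomial σ A) :
    mapF φ (r • x) = map φ r • mapF φ x := by
  funext i; simp

lemma mapF_mapF (φ : A →+* A') (ψ : A' →+* A'') (x : κ → MvPolynomial σ A) :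
    mapF ψ (mapF φ x) = mapF (ψ.comp φ) x := by
  funext i; simp [map_map]

lemma mapF_injective {φ : A →+* A'} (h : Function.Injective φ) :
    Function.Injective (mapF (σ := σ) (κ := κ) φ) := fun _ _ hxy =>
  funext fun i => map_injective φ h (congrFun hxy i)

/-- Base change of a submodule. -/
noncomputable def baseN (φ : A →+* A') (N : Submodule (MvPolynomial σ A) (κ → MvPolynomial σ A)) :
    Submodule (MvPolynomial σ A') (κ → MvPolynomial σ A') :=
  Submodule.span _ (mapF φ '' (N : Set (κ → MvPolynomial σ A)))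

variable {φ : A →+* A'} {N K : Submodule (MvPolynomial σ A) (κ → MvPolynomial σ A)}

lemma mapF_mem_baseN {x : κ → MvPolynomial σ A} (hx : x ∈ N) : mapF φ x ∈ baseN φ N :=
  Submodule.subset_span ⟨x, hx, rfl⟩

lemma baseN_mono (h : K ≤ N) : baseN φ K ≤ baseN φ N := Submodule.span_mono (Set.image_mono h)

lemma baseN_baseN (ψ : A' →+* A'') : baseN ψ (baseN φ N) = baseN (ψ.comp φ) N := by
  refine le_antisymm (Submodule.span_le.mpr ?_) (Submodule.span_le.mpr ?_)
  · rintro _ ⟨x, hx, rfl⟩
    induction hx using Submodule.span_induction with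
    | mem x hx => obtain ⟨y, hy, rfl⟩ := hx; rw [mapF_mapF]; exact mapF_mem_baseN hy
    | zero => rw [map_zero]; exact zero_mem _
    | add a b _ _ ha hb => rw [map_add]; exact add_mem ha hb
    | smul c a _ ha => rw [mapF_smul]; exact Submodule.smul_mem _ _ ha
  · rintro _ ⟨x, hx, rfl⟩
    rw [← mapF_mapF]
    exact mapF_mem_baseN (mapF_mem_baseN hx)

/-- The base change is spanned over the coefficients. -/
lemma mem_span_coeff_of_mem_baseN {x : κ → MvPolynomial σ A'} (hx : x ∈ baseN φ N) :
    x ∈ Submodule.span A' (mapF φ '' (N : Set (κ → MvPolynomial σ A))) := by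
  induction hx using Submodule.span_induction with
  | mem x hx => exact Submodule.subset_span hx
  | zero => exact zero_mem _
  | add a b _ _ ha hb => exact add_mem ha hb
  | smul c a _ ha =>
    induction c using MvPolynomial.induction_on generalizing a with
    | C r =>
      have : (C r : MvPolynomial σ A') • a = r • a := by
        rw [← algebraMap_eq, algebraMap_smul]
      rw [this]; exact Submodule.smul_mem _ _ ha
    | add f g hf hg => rw [add_smul]; exact add_mem (hf a ‹_› ha) (hg a ‹_› ha)
    | mul_X f j hf =>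
      rw [mul_smul]
      have hX : ∀ b ∈ Submodule.span A' (mapF φ '' (N : Set (κ → MvPolynomial σ A))), (X j : MvPolynomial σ A') • b ∈ Submodule.span A' (mapF φ '' (N : Set (κ → MvPolynomial σ A))) := by
        intro b hb
        induction hb using Submodule.span_induction with
        | mem b hb =>
          obtain ⟨y, hy, rfl⟩ := hb
          exact Submodule.subset_span ⟨(X j : MvPolynomial σ A) • y, N.smul_mem _ hy, by rw [mapF_smul, map_X]⟩
        | zero => rw [smul_zero]; exact zero_mem _
        | add u v _ _ hu hv => rw [smul_add]; exact add_mem hu hv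
        | smul r u _ hu => rw [smul_comm]; exact Submodule.smul_mem _ _ hu
      exact hf _ (Submodule.smul_mem _ _ ‹_›) (hX a ha)

lemma map_map_C (I : Ideal A) :
    (I.map (algebraMap A (MvPolynomial σ A))).map (map φ) =
      (I.map φ).map (algebraMap A' (MvPolynomial σ A')) := by
  rw [Ideal.map_map, Ideal.map_map]
  congr 1
  ext a
  simp [algebraMap_eq]

lemma smul_baseN (I : Ideal A) :
    (I.map φ).map (algebraMap A' (MvPolynomial σ A')) • baseN φ N =
      baseN φ (I.map (algebraMap A (MvPolynomial σ A)) • N) := by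
  rw [← map_map_C]
  refine le_antisymm ?_ ?_
  · rw [baseN, Ideal.map, Submodule.span_smul_span, Submodule.span_le]
    rintro _ ⟨_, ⟨r, hr, rfl⟩, _, ⟨y, hy, rfl⟩, rfl⟩
    show map φ r • mapF φ y ∈ _
    rw [← mapF_smul]
    exact mapF_mem_baseN (Submodule.smul_mem_smul hr hy)
  · refine Submodule.span_le.mpr ?_
    rintro _ ⟨x, hx, rfl⟩
    induction hx using Submodule.smul_induction_on' with
    | smul r hr y hy => rw [mapF_smul]; exact Submodule.smul_mem_smul (Ideal.mem_map_of_mem _ hr) (mapF_mem_baseN hy)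
    | add a _ b _ ha hb => rw [map_add]; exact add_mem ha hb

/-- Coordinatewise membership. -/
lemma mem_smul_top_iff_coeff [Finite κ] (I : Ideal A) (x : κ → MvPolynomial σ A) :
    x ∈ I.map (algebraMap A (MvPolynomial σ A)) • (⊤ : Submodule (MvPolynomial σ A) (κ → MvPolynomial σ A)) ↔
      ∀ i d, (x i).coeff d ∈ I := by
  classical
  haveI := Fintype.ofFinite κ
  simp only [← mem_map_C_iff, ← algebraMap_eq]
  constructor
  · intro h i
    induction h using Submodule.smul_induction_on' with
    | smul r hr y _ => exact Ideal.mul_mem_right _ _ hr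
    | add a _ b _ ha hb => exact add_mem ha hb
  · intro h
    have : x = ∑ i, x i • Pi.single i (1 : MvPolynomial σ A) := by
      funext j; simp [Finset.sum_apply, Pi.single_apply]
    rw [this]
    exact sum_mem fun i _ => Submodule.smul_mem_smul (h i) trivial

lemma mapF_mem_smul_top [Finite κ] {I : Ideal A} {I' : Ideal A'} (h : I.map φ ≤ I') {x : κ → MvPolynomial σ A}
    (hx : x ∈ I.map (algebraMap A (MvPolynomial σ A)) • (⊤ : Submodule (MvPolynomial σ A) (κ → MvPolynomial σ A))) :
    mapF φ x ∈ I'.map (algebraMap A' (MvPolynomial σ A')) • (⊤ : Submodule (MvPolynomial σ A') (κ → MvPolynomial σ A')) := by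
  rw [mem_smul_top_iff_coeff] at hx ⊢
  intro i d
  rw [mapF_apply, coeff_map]
  exact h (Ideal.mem_map_of_mem _ (hx i d))

/-- Modulo a prime, base change commutes with intersection with `p F`, up to elements outside `p`. -/
theorem exists_smul_mem_sup [Finite κ] (p : Ideal A) [p.IsPrime] (p' : Ideal A') [p'.IsPrime] (hp : p'.comap φ = p)
    {x : κ → MvPolynomial σ A'} (hx : x ∈ baseN φ N)
    (hx' : x ∈ p'.map (algebraMap A' (MvPolynomial σ A')) • (⊤ : Submodule (MvPolynomial σ A') (κ → MvPolynomial σ A'))) :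
    ∃ d : A, d ∉ p ∧ φ d • x ∈ p'.map (algebraMap A' (MvPolynomial σ A')) • baseN φ N ⊔
      baseN φ (N ⊓ p.map (algebraMap A (MvPolynomial σ A)) • ⊤) := by
  classical
  let T := p'.map (algebraMap A' (MvPolynomial σ A')) • baseN φ N ⊔
      baseN φ (N ⊓ p.map (algebraMap A (MvPolynomial σ A)) • ⊤)
  suffices ∀ n (c : Fin n → A') (m : Fin n → κ → MvPolynomial σ A), (∀ k, m k ∈ N) →
      (∀ i e, ((∑ k, c k • mapF φ (m k)) i).coeff e ∈ p') → ∃ d : A, d ∉ p ∧ φ d • ∑ k, c k • mapF φ (m k) ∈ T by
    obtain ⟨n, c, g, rfl⟩ := Submodule.mem_span_set'.mp (mem_span_coeff_of_mem_baseN hx)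
    choose m hm hmg using fun k => (g k).2
    have he : (fun k => ((g k : κ → MvPolynomial σ A'))) = fun k => mapF φ (m k) := funext fun k => (hmg k).symm
    simp only [← hmg] at hx' ⊢
    exact this n c m hm ((mem_smul_top_iff_coeff p' _).mp hx')
  intro n
  induction n with
  | zero => exact fun c m _ _ => ⟨1, fun h => (‹p.IsPrime›).ne_top ((Ideal.eq_top_iff_one _).mpr h), by simp⟩
  | succ n ih =>
    intro c m hm hco
    let K := p.ResidueField
    let v : Fin (n + 1) → (κ × (σ →₀ ℕ) → K) := fun k ie => algebraMap A K ((m k ie.1).coeff ie.2)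
    by_cases hv : LinearIndependent K v
    · refine ⟨1, fun h => (‹p.IsPrime›).ne_top ((Ideal.eq_top_iff_one _).mpr h), ?_⟩
      rw [map_one, one_smul]
      refine Submodule.mem_sup_left (sum_mem fun k _ => ?_)
      suffices c k ∈ p' by
        rw [← algebraMap_smul (MvPolynomial σ A') (c k)]
        exact Submodule.smul_mem_smul (Ideal.mem_map_of_mem _ this) (mapF_mem_baseN (hm k))
      let ρ : K →+* p'.ResidueField := Ideal.ResidueField.map p p' φ hp.symm
      letI := ρ.toAlgebra
      let b := Module.Basis.ofVectorSpace K p'.ResidueField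
      rw [← Ideal.algebraMap_residueField_eq_zero, ← map_eq_zero_iff b.repr b.repr.injective]
      refine Finsupp.ext fun j => ?_
      have h0 : ∑ k, (b.repr (algebraMap A' p'.ResidueField (c k)) j) • v k = 0 := by
        funext ie
        have h1 := Ideal.algebraMap_residueField_eq_zero.mpr (hco ie.1 ie.2)
        simp only [Finset.sum_apply, Pi.smul_apply, coeff_sum, mapF_apply, coeff_smul, coeff_map, map_sum,
          smul_eq_mul, map_mul] at h1
        have h2 : ∀ a : A, algebraMap A' p'.ResidueField (φ a) = ρ (algebraMap A K a) := fun a =>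
          (Ideal.ResidueField.map_algebraMap _ _ _ _ _).symm
        simp only [h2] at h1
        have h3 := congrArg (fun z => b.repr z j) h1
        simp only [map_sum, map_zero, Finsupp.coe_zero, Pi.zero_apply, Finsupp.coe_finsetSum, Finset.sum_apply] at h3
        rw [Finset.sum_apply, Pi.zero_apply]
        refine Eq.trans (Finset.sum_congr rfl fun k _ => ?_) h3
        rw [mul_comm (algebraMap A' p'.ResidueField (c k)), ← ρ.algebraMap_toAlgebra, ← Algebra.smul_def,
          map_smul, Finsupp.smul_apply, smul_eq_mul, Pi.smul_apply, smul_eq_mul, mul_comm]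
      exact Fintype.linearIndependent_iff.mp hv _ h0 k
    · obtain ⟨g, hg, k₀, hk₀⟩ := Fintype.not_linearIndependent_iff.mp hv
      obtain ⟨s, hs⟩ := IsLocalization.exist_integer_multiples_of_finite (nonZeroDivisors (A ⧸ p)) g
      choose r hr using hs
      choose r' hr' using fun k => Ideal.Quotient.mk_surjective (r k)
      have hrK : ∀ k, algebraMap A K (r' k) = algebraMap (A ⧸ p) K s * g k := fun k => by
        rw [IsScalarTower.algebraMap_apply A (A ⧸ p) K, Ideal.Quotient.algebraMap_eq, hr', hr k, Algebra.smul_def]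
      have hd : r' k₀ ∉ p := fun h => by
        have := hrK k₀
        rw [Ideal.algebraMap_residueField_eq_zero.mpr h] at this
        rcases mul_eq_zero.mp this.symm with h' | h'
        · exact nonZeroDivisors.coe_ne_zero s ((IsFractionRing.injective (A ⧸ p) K) (h'.trans (map_zero _).symm))
        · exact hk₀ h'
      let z := ∑ k, r' k • m k
      have hz : z ∈ N ⊓ p.map (algebraMap A (MvPolynomial σ A)) • ⊤ := by
        refine ⟨sum_mem fun k _ => N.smul_of_tower_mem _ (hm k), (mem_smul_top_iff_coeff p _).mpr fun i e => ?_⟩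
        rw [← Ideal.algebraMap_residueField_eq_zero]
        simp only [z, Finset.sum_apply, Pi.smul_apply, coeff_sum, coeff_smul, map_sum, smul_eq_mul, map_mul]
        show ∑ x, algebraMap A K (r' x) * algebraMap A K ((m x i).coeff e) = 0
        simp only [hrK, mul_assoc, ← Finset.mul_sum]
        have := congrFun hg (i, e)
        simp only [Finset.sum_apply, Pi.smul_apply, smul_eq_mul, Pi.zero_apply, v] at this
        rw [this, mul_zero]
      let c' : Fin n → A' := fun k => φ (r' k₀) * c (k₀.succAbove k) - c k₀ * φ (r' (k₀.succAbove k))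
      have key : φ (r' k₀) • ∑ k, c k • mapF φ (m k) = (∑ k, c' k • mapF φ (m (k₀.succAbove k))) + c k₀ • mapF φ z := by
        have hz' : mapF φ z = ∑ k, φ (r' k) • mapF φ (m k) := by
          rw [map_sum]
          refine Finset.sum_congr rfl fun k _ => ?_
          rw [← algebraMap_smul (MvPolynomial σ A) (r' k), mapF_smul, ← algebraMap_smul (MvPolynomial σ A') (φ (r' k))]
          simp [algebraMap_eq]
        rw [hz', Finset.smul_sum, Finset.smul_sum, Fin.sum_univ_succAbove _ k₀,
          Fin.sum_univ_succAbove (fun k => c k₀ • φ (r' k) • mapF φ (m k)) k₀]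
        simp only [smul_smul, c', sub_smul, Finset.sum_sub_distrib, mul_comm (φ (r' k₀)) (c k₀)]
        abel
      obtain ⟨d, hd', hmem⟩ := ih c' (fun k => m (k₀.succAbove k)) (fun k => hm _) (fun i e => by
        have h1 : ∀ i e, ((φ (r' k₀) • ∑ k, c k • mapF φ (m k)) i).coeff e ∈ p' := fun i e => by
          rw [Pi.smul_apply, coeff_smul]; exact Ideal.mul_mem_left _ _ (hco i e)
        have h2 : ∀ i e, ((c k₀ • mapF φ z) i).coeff e ∈ p' := fun i e => by
          rw [Pi.smul_apply, coeff_smul]
          exact Ideal.mul_mem_left _ _ ((mem_smul_top_iff_coeff p' _).mp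
            (mapF_mem_smul_top (Ideal.map_le_iff_le_comap.mpr hp.ge) hz.2) i e)
        rw [eq_sub_of_add_eq key.symm, Pi.sub_apply, coeff_sub]
        exact sub_mem (h1 i e) (h2 i e))
      refine ⟨d * r' k₀, fun h => ((‹p.IsPrime›).mem_or_mem h).elim hd' hd, ?_⟩
      rw [map_mul, mul_smul, key, smul_add]
      exact add_mem hmem (Submodule.mem_sup_right (Submodule.smul_of_tower_mem _ _
        (Submodule.smul_of_tower_mem _ _ (mapF_mem_baseN hz))))

section Descent

variable {R : Type u} [CommRing R] (φ : A →+* R)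

variable (N) in
/-- Membership descends to intermediate rings. -/
lemma exists_finset_mem {x : κ → MvPolynomial σ R} (hx : x ∈ baseN φ N) :
    ∃ T : Finset R, ∀ (A' : Type u) [CommRing A'] (φ' : A →+* A') (ψ : A' →+* R), ψ.comp φ' = φ →
      (T : Set R) ⊆ Set.range ψ → ∃ x', x' ∈ baseN φ' N ∧ mapF ψ x' = x := by
  classical
  induction hx using Submodule.span_induction with
  | mem x hx =>
    obtain ⟨y, hy, rfl⟩ := hx
    exact ⟨∅, fun A' _ φ' ψ h _ => ⟨_, mapF_mem_baseN hy, by rw [mapF_mapF, h]⟩⟩
  | zero => exact ⟨∅, fun A' _ φ' ψ h _ => ⟨0, zero_mem _, map_zero _⟩⟩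
  | add a b _ _ ha hb =>
    obtain ⟨T, hT⟩ := ha; obtain ⟨T', hT'⟩ := hb
    refine ⟨T ∪ T', fun A' _ φ' ψ h hs => ?_⟩
    rw [Finset.coe_union, Set.union_subset_iff] at hs
    obtain ⟨a', ha', rfl⟩ := hT A' φ' ψ h hs.1
    obtain ⟨b', hb', rfl⟩ := hT' A' φ' ψ h hs.2
    exact ⟨a' + b', add_mem ha' hb', map_add _ _ _⟩
  | smul c a _ ha =>
    obtain ⟨T, hT⟩ := ha
    refine ⟨T ∪ c.coeffs, fun A' _ φ' ψ h hs => ?_⟩
    rw [Finset.coe_union, Set.union_subset_iff] at hs
    obtain ⟨a', ha', rfl⟩ := hT A' φ' ψ h hs.1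
    obtain ⟨c', rfl⟩ := mem_range_map_iff_coeffs_subset.mpr hs.2
    exact ⟨c' • a', Submodule.smul_mem _ _ ha', mapF_smul _ _ _⟩

/-- **EGA IV 11.2.6**: Noetherian descent of flatness at a prime. -/
theorem exists_finset_flatAt [IsNoetherianRing A] [Finite σ] [Finite κ] (q : Ideal (MvPolynomial σ R)) [q.IsPrime]
    (h : FlatCA.FlatAt R q ((κ → MvPolynomial σ R) ⧸ baseN φ N)) :
    ∃ T : Finset R, ∀ (A' : Type u) [CommRing A'] [IsNoetherianRing A'] (φ' : A →+* A') (ψ : A' →+* R),
      Function.Injective ψ → ψ.comp φ' = φ → (T : Set R) ⊆ Set.range ψ →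
        FlatCA.FlatAt A' (q.comap (map ψ)) ((κ → MvPolynomial σ A') ⧸ baseN φ' N) := by
  classical
  let p : Ideal A := (q.comap (algebraMap R (MvPolynomial σ R))).comap φ
  obtain ⟨G, hG⟩ : (N ⊓ p.map (algebraMap A (MvPolynomial σ A)) • ⊤).FG := IsNoetherian.noetherian _
  have hGm : ∀ g ∈ G, g ∈ N ∧ g ∈ p.map (algebraMap A (MvPolynomial σ A)) • (⊤ : Submodule _ (κ → MvPolynomial σ A)) :=
    fun g hg => Submodule.mem_inf.mp (hG.le (Submodule.subset_span hg))
  have hT : ∀ g : G, ∃ (s : MvPolynomial σ R), s ∉ q ∧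
      s • mapF φ g.1 ∈ baseN φ (p.map (algebraMap A (MvPolynomial σ A)) • N) := by
    intro g
    rw [← smul_baseN]
    exact torVan_of_flatAt _ q h (p.map φ) _ (mapF_mem_baseN (hGm g.1 g.2).1) (mapF_mem_smul_top le_rfl (hGm g.1 g.2).2)
  choose s hsq hs using hT
  choose T hT using fun g => exists_finset_mem _ φ (hs g)
  refine ⟨Finset.univ.biUnion T ∪ Finset.univ.biUnion fun g => (s g).coeffs, fun A' _ _ φ' ψ hψ hc hsub => ?_⟩
  have hs' : ∀ g : G, ∃ s', s' ∉ q.comap (map ψ) ∧
      s' • mapF φ' g.1 ∈ baseN φ' (p.map (algebraMap A (MvPolynomial σ A)) • N) := by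
    intro g
    obtain ⟨x', hx', hxx⟩ := hT g A' φ' ψ hc (fun a ha => hsub (by
      simp only [Finset.coe_union, Set.mem_union, Finset.mem_coe, Finset.mem_biUnion]
      exact Or.inl ⟨g, Finset.mem_univ _, ha⟩))
    obtain ⟨s', hs''⟩ := mem_range_map_iff_coeffs_subset.mpr (fun a ha => hsub (by
      simp only [Finset.coe_union, Set.mem_union, Finset.mem_coe, Finset.mem_biUnion]
      exact Or.inr ⟨g, Finset.mem_univ _, ha⟩) : ((s g).coeffs : Set R) ⊆ Set.range ψ)
    refine ⟨s', by rw [Ideal.mem_comap, hs'']; exact hsq g, ?_⟩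
    have : mapF ψ (s' • mapF φ' g.1) = mapF ψ x' := by rw [mapF_smul, mapF_mapF, hc, hs'', hxx]
    rwa [mapF_injective hψ this]
  choose s' hs'q hs'mem using hs'
  let q' := q.comap (map ψ)
  refine flatAt_of_torVan _ q' fun x hx hx' => ?_
  set p' := q'.comap (algebraMap A' (MvPolynomial σ A')) with hp'
  have hp : p'.comap φ' = p := by
    ext a
    simp [p', q', p, algebraMap_eq, ← hc]
  obtain ⟨d, hd, hdx⟩ := exists_smul_mem_sup p p' hp hx hx'
  let u : MvPolynomial σ A' := ∏ g : G, s' g
  have huq : u ∉ q' := fun h => by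
    obtain ⟨g, -, hg⟩ := (Ideal.IsPrime.prod_mem_iff).mp h
    exact hs'q g hg
  have hu : ∀ y ∈ baseN φ' (N ⊓ p.map (algebraMap A (MvPolynomial σ A)) • ⊤),
      u • y ∈ p'.map (algebraMap A' (MvPolynomial σ A')) • baseN φ' N := by
    intro y hy
    have hle : baseN φ' (p.map (algebraMap A (MvPolynomial σ A)) • N) ≤
        p'.map (algebraMap A' (MvPolynomial σ A')) • baseN φ' N := by
      rw [← smul_baseN]
      exact Submodule.smul_mono (Ideal.map_mono (Ideal.map_le_iff_le_comap.mpr hp.ge)) le_rfl
    induction hy using Submodule.span_induction with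
    | mem y hy =>
      obtain ⟨z, hz, rfl⟩ := hy
      rw [SetLike.mem_coe, ← hG] at hz
      induction hz using Submodule.span_induction with
      | mem g hg =>
        refine hle ?_
        rw [show u = (∏ g' ∈ Finset.univ.erase ⟨g, hg⟩, s' g') * s' ⟨g, hg⟩ from
          (Finset.prod_erase_mul _ _ (Finset.mem_univ _)).symm, mul_smul]
        exact Submodule.smul_mem _ _ (hs'mem ⟨g, hg⟩)
      | zero => rw [map_zero, smul_zero]; exact zero_mem _
      | add a b _ _ ha hb => rw [map_add, smul_add]; exact add_mem ha hb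
      | smul c a _ ha => rw [mapF_smul, smul_comm]; exact Submodule.smul_mem _ _ ha
    | zero => rw [smul_zero]; exact zero_mem _
    | add a b _ _ ha hb => rw [smul_add]; exact add_mem ha hb
    | smul c a _ ha => rw [smul_comm]; exact Submodule.smul_mem _ _ ha
  obtain ⟨y, hy, z, hz, hyz⟩ := Submodule.mem_sup.mp hdx
  refine ⟨u * algebraMap A' _ (φ' d), fun h => ((Ideal.IsPrime.mem_or_mem inferInstance h)).elim huq ?_, ?_⟩
  · intro h'
    exact hd (hp ▸ (h' : φ' d ∈ p'))
  · rw [mul_smul, algebraMap_smul, ← hyz, smul_add]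
    exact add_mem (Submodule.smul_mem _ _ hy) (hu z hz)

end Descent

end Groth.FlatDescent
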