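import Mathlib
import Groth.Agent.FlatDescent.Poly
import Groth.Agent.FlatDescent.Generic

/-!
# Openness of the flat locus, base change (EGA IV 11.3.1)

`isOpen_flatLocus_of_isNoetherianRing`, `flatAt_baseN`, `isOpen_flatLocus`.
-/

universe u

open TensorProduct

namespace Groth.FlatDescent

section Noetherian

/-- Openness by Noetherian induction. -/
theorem isOpen_of_forall_exists {P : Type u} [CommRing P] [IsNoetherianRing P] (U : Set (PrimeSpectrum P))
    (hgen : ∀ p q : PrimeSpectrum P, p.asIdeal ≤ q.asIdeal → q ∈ U → p ∈ U)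
    (hloc : ∀ q ∈ U, ∃ g : P, g ∉ q.asIdeal ∧
      ∀ Q : PrimeSpectrum P, q.asIdeal ≤ Q.asIdeal → g ∉ Q.asIdeal → Q ∈ U) : IsOpen U := by
  classical
  rw [← isClosed_compl_iff]
  refine closure_subset_iff_isClosed.mp fun Q hQ => ?_
  rw [← PrimeSpectrum.zeroLocus_vanishingIdeal_eq_closure, PrimeSpectrum.mem_zeroLocus] at hQ
  set I := PrimeSpectrum.vanishingIdeal Uᶜ with hI
  obtain ⟨η, hη, hηQ⟩ := Ideal.exists_minimalPrimes_le (I := I) (J := Q.asIdeal) hQ
  intro hQU
  have hηp : η.IsPrime := hη.1.1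
  let η' : PrimeSpectrum P := ⟨η, hηp⟩
  obtain ⟨g, hg, hg'⟩ := hloc η' (hgen η' Q hηQ hQU)
  have hfin := Ideal.finite_minimalPrimes_of_isNoetherianRing P I
  have hch : ∀ m ∈ hfin.toFinset.erase η, ∃ x ∈ m, x ∉ η := by
    intro m hm
    obtain ⟨hne, hm⟩ := Finset.mem_erase.mp hm
    rw [Set.Finite.mem_toFinset] at hm
    by_contra h
    push Not at h
    exact hne (le_antisymm (fun x hx => h x hx) (hη.2 hm.1 h))
  choose! x hxm hxη using hch
  let h := ∏ m ∈ hfin.toFinset.erase η, x m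
  have hhη : h ∉ η := fun hh => by
    obtain ⟨m, hm, hxm'⟩ := hηp.prod_mem_iff.mp hh
    exact hxη m hm hxm'
  refine (hηp.mem_or_mem (x := g) (y := h) (hη.1.2 ?_)).elim hg hhη
  rw [hI, PrimeSpectrum.mem_vanishingIdeal]
  intro Z hZ
  by_contra hgh
  obtain ⟨m, hm, hmZ⟩ := Ideal.exists_minimalPrimes_le (I := I) (J := Z.asIdeal)
    ((PrimeSpectrum.mem_zeroLocus _ _).mp (PrimeSpectrum.subset_zeroLocus_vanishingIdeal _ hZ))
  by_cases hmη : m = η
  · subst hmη
    exact hZ (hg' Z hmZ fun hgZ => hgh (Ideal.mul_mem_right _ _ hgZ))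
  · refine hgh (Ideal.mul_mem_left _ _ ?_)
    exact Z.isPrime.prod_mem_iff.mpr ⟨m, Finset.mem_erase.mpr ⟨hmη, hfin.mem_toFinset.mpr hm⟩,
      hmZ (hxm m (Finset.mem_erase.mpr ⟨hmη, hfin.mem_toFinset.mpr hm⟩))⟩

variable {A P : Type u} [CommRing A] [CommRing P] [Algebra A P] [IsNoetherianRing A] [Algebra.FiniteType A P]
  {F : Type u} [AddCommGroup F] [Module A F] [Module P F] [IsScalarTower A P F] [Module.Finite P F] [Module.Flat A F]

omit [Module.Flat A F] in
lemma exists_modulo (N : Submodule P F) (p : Ideal A) [p.IsPrime] :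
    ∃ a : A, a ∉ p ∧ ∀ (Q : Ideal P) [Q.IsPrime] (p' : Ideal A), p ≤ p' → algebraMap A P a ∉ Q →
      ∀ x, x ∈ N → x ∈ p'.map (algebraMap A P) • (⊤ : Submodule P F) →
        ∃ u : P, u ∉ Q ∧ u • x ∈ p'.map (algebraMap A P) • N ⊔ p.map (algebraMap A P) • (⊤ : Submodule P F) := by
  classical
  haveI : IsNoetherianRing P := Algebra.FiniteType.isNoetherianRing A P
  let J := p.map (algebraMap A P)
  let N' : Submodule P F := N ⊔ J • ⊤
  letI : Algebra (A ⧸ p) (P ⧸ J) := (Ideal.quotientMap J (algebraMap A P) Ideal.le_comap_map).toAlgebra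
  have hJ : Module.IsTorsionBySet P (F ⧸ N') J := by
    rintro m ⟨j, hj⟩
    obtain ⟨m, rfl⟩ := Submodule.Quotient.mk_surjective _ m
    rw [← Submodule.Quotient.mk_smul, Submodule.Quotient.mk_eq_zero]
    exact Submodule.mem_sup_right (Submodule.smul_mem_smul hj trivial)
  letI : Module (P ⧸ J) (F ⧸ N') := hJ.module
  haveI : IsScalarTower P (P ⧸ J) (F ⧸ N') := hJ.isScalarTower
  letI : Module (A ⧸ p) (F ⧸ N') := Module.compHom _ (algebraMap (A ⧸ p) (P ⧸ J))
  haveI : IsScalarTower (A ⧸ p) (P ⧸ J) (F ⧸ N') := IsScalarTower.of_algebraMap_smul fun _ _ => rfl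
  haveI : IsScalarTower A (A ⧸ p) (P ⧸ J) := IsScalarTower.of_algebraMap_eq fun _ => rfl
  haveI : Algebra.FiniteType (A ⧸ p) (P ⧸ J) := by
    haveI : Algebra.FiniteType A (P ⧸ J) := Algebra.FiniteType.of_surjective (Ideal.Quotient.mkₐ A J) Ideal.Quotient.mk_surjective
    exact Algebra.FiniteType.of_restrictScalars_finiteType A _ _
  haveI : Module.Finite (P ⧸ J) (F ⧸ N') := Module.Finite.of_restrictScalars_finite P _ _
  obtain ⟨a', ha', hflat⟩ := exists_flatOn (D := A ⧸ p) (C := P ⧸ J) (F ⧸ N')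
  obtain ⟨a, rfl⟩ := Ideal.Quotient.mk_surjective a'
  refine ⟨a, fun h => ha' (Ideal.Quotient.eq_zero_iff_mem.mpr h), ?_⟩
  intro Q hQp p' hpp' haQ x hxN hx
  obtain ⟨ζ, rfl⟩ := (range_mulI (P := P) (X := F) (I := p')).ge hx
  obtain ⟨S, rfl⟩ := TensorProduct.exists_finset ζ
  set b : P ⧸ J := algebraMap (A ⧸ p) (P ⧸ J) (Ideal.Quotient.mk p a) with hb
  have hbk : ∀ k : ℕ, b ^ k = Ideal.Quotient.mk J (algebraMap A P a ^ k) := fun k => by
    rw [map_pow]; rfl
  let X := LocalizedModule (Submonoid.powers b) (F ⧸ N')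
  let loc := LocalizedModule.mkLinearMap (Submonoid.powers b) (F ⧸ N')
  haveI : Module.Flat (A ⧸ p) X := (flatOn_powers_iff b).mp hflat
  have hAsmul : ∀ (r : A) (v : F), (Ideal.Quotient.mk p r) • (Submodule.Quotient.mk v : F ⧸ N') =
      Submodule.Quotient.mk (r • v) := fun r v => by
    rw [← algebraMap_smul P r v]; rfl
  let fs : S → A ⧸ p := fun t => Ideal.Quotient.mk p (t.1.2 : A)
  let ms : S → X := fun t => loc (Submodule.Quotient.mk t.1.1)
  have hrel : ∑ t, fs t • ms t = 0 := by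
    have h0 : (Submodule.Quotient.mk (∑ t : S, (t.1.2 : A) • t.1.1) : F ⧸ N') = 0 := by
      refine (Submodule.Quotient.mk_eq_zero _).mpr (Submodule.mem_sup_left ?_)
      convert hxN using 1
      simp only [map_sum, mulI_tmul]
      exact Finset.sum_coe_sort S fun t => (t.2 : A) • t.1
    have h1 := congrArg loc h0
    rw [map_zero] at h1
    rw [← h1, ← Submodule.mkQ_apply, map_sum, map_sum]
    refine Finset.sum_congr rfl fun t _ => ?_
    simp only [fs, ms]
    rw [Submodule.mkQ_apply, ← hAsmul, LinearMap.map_smul_of_tower]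
  obtain ⟨k, c, y, hy, hc⟩ := Module.Flat.isTrivialRelation_of_sum_smul_eq_zero hrel
  obtain ⟨⟨_, n, rfl⟩, hn⟩ := IsLocalizedModule.exist_integer_multiples_of_finite (Submonoid.powers b) loc y
  choose Y hY using hn
  choose Y' hY' using fun l => Submodule.Quotient.mk_surjective N' (Y l)
  choose c' hc' using fun t l => Ideal.Quotient.mk_surjective (c t l)
  have hz : ∀ t : S, ∃ m, algebraMap A P a ^ m • t.1.1 - ∑ l, c' t l • (algebraMap A P a ^ (m - n)) • Y' l ∈ N' ∧ n ≤ m := by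
    intro t
    have h2 : loc (b ^ n • Submodule.Quotient.mk t.1.1 - ∑ l, c t l • Y l) = 0 := by
      rw [map_sub, map_smul, map_sum, sub_eq_zero, show loc (Submodule.Quotient.mk t.1.1) = ms t from rfl, hy t,
        Finset.smul_sum]
      refine Finset.sum_congr rfl fun l _ => ?_
      rw [LinearMap.map_smul_of_tower, hY l, smul_comm]
    obtain ⟨⟨_, m, rfl⟩, hm⟩ := (IsLocalizedModule.eq_zero_iff (Submonoid.powers b) loc).mp h2
    refine ⟨m + n, (Submodule.Quotient.mk_eq_zero _).mp ?_, le_add_self⟩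
    rw [← hm, Submonoid.smul_def]
    dsimp only
    rw [smul_sub, smul_smul, ← pow_add, hbk, hbk, Nat.add_sub_cancel, Finset.smul_sum,
      ← Submodule.mkQ_apply, map_sub, map_sum]
    refine congrArg₂ (· - ·) rfl (Finset.sum_congr rfl fun l _ => ?_)
    rw [Submodule.mkQ_apply, ← hc' t l, ← hY' l, ← hAsmul, smul_comm]
    rfl
  choose m hm hnm using hz
  let M := ∑ t, m t
  have hM : ∀ t, m t ≤ M := fun t => Finset.single_le_sum (fun _ _ => Nat.zero_le _) (Finset.mem_univ t)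
  refine ⟨algebraMap A P a ^ (M + n), fun h => haQ (hQp.mem_of_pow_mem _ h), ?_⟩
  have hdec : ∀ t : S, algebraMap A P a ^ (M + n) • t.1.1 - ∑ l, c' t l • algebraMap A P a ^ M • Y' l ∈ N' := by
    intro t
    have := N'.smul_mem (algebraMap A P a ^ (M + n - m t)) (hm t)
    rw [smul_sub, smul_smul, ← pow_add, Nat.sub_add_cancel (le_add_right (hM t)), Finset.smul_sum] at this
    convert this using 3 with l
    rw [smul_comm (algebraMap A P a ^ (M + n - m t)) (c' t l),
      smul_smul (algebraMap A P a ^ (M + n - m t)), ← pow_add]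
    congr 3
    have := hnm t; have := hM t; omega
  simp only [map_sum, mulI_tmul]
  rw [← Finset.sum_coe_sort S fun t => (t.2 : A) • t.1]
  have hsplit : algebraMap A P a ^ (M + n) • ∑ t : S, (t.1.2 : A) • t.1.1 =
      (∑ t : S, (t.1.2 : A) • (algebraMap A P a ^ (M + n) • t.1.1 - ∑ l, c' t l • algebraMap A P a ^ M • Y' l)) +
        ∑ l, (∑ t : S, (t.1.2 : A) * c' t l) • algebraMap A P a ^ M • Y' l := by
    simp only [smul_sub, Finset.smul_sum, Finset.sum_sub_distrib, Finset.sum_smul, mul_smul]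
    rw [Finset.sum_comm (γ := S), sub_add_cancel]
    exact Finset.sum_congr rfl fun t _ => smul_comm _ _ _
  rw [hsplit]
  refine add_mem (sum_mem fun t _ => ?_) (sum_mem fun l _ => Submodule.mem_sup_right ?_)
  · obtain ⟨u, hu, v, hv, huv⟩ := Submodule.mem_sup.mp (hdec t)
    rw [← huv, smul_add, ← algebraMap_smul P (t.1.2 : A) u]
    exact add_mem (Submodule.mem_sup_left (Submodule.smul_mem_smul (Ideal.mem_map_of_mem _ t.1.2.2) hu))
      (Submodule.mem_sup_right (Submodule.smul_of_tower_mem _ _ hv))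
  · rw [← algebraMap_smul P (∑ t : S, (t.1.2 : A) * c' t l)]
    refine Submodule.smul_mem_smul (Ideal.mem_map_of_mem _ ?_) trivial
    rw [← Ideal.Quotient.eq_zero_iff_mem, map_sum]
    refine Eq.trans (Finset.sum_congr rfl fun t _ => ?_) (hc l)
    rw [map_mul, hc']

/-- **Openness of the flat locus**, Noetherian case. -/
theorem isOpen_flatLocus_of_isNoetherianRing (N : Submodule P F) :
    IsOpen {q : PrimeSpectrum P | FlatCA.FlatAt A q.asIdeal (F ⧸ N)} := by
  classical
  haveI : IsNoetherianRing P := Algebra.FiniteType.isNoetherianRing A P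
  refine isOpen_of_forall_exists _ (fun p q hpq hq => ?_) fun q hq => ?_
  · exact (flatOn_primeCompl_iff p.asIdeal).mp
      (((flatOn_primeCompl_iff q.asIdeal).mpr hq).of_le fun x hx hxp => hx (hpq hxp))
  set p := q.asIdeal.comap (algebraMap A P) with hp
  obtain ⟨G, hG⟩ : (N ⊓ p.map (algebraMap A P) • ⊤).FG := IsNoetherian.noetherian _
  have hs : ∀ g : G, ∃ s, s ∉ q.asIdeal ∧ s • (g : F) ∈ p.map (algebraMap A P) • N := fun g => by
    have := Submodule.mem_inf.mp (hG.le (Submodule.subset_span g.2))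
    exact torVan_of_flatAt N q.asIdeal hq p g this.1 this.2
  choose s hsq hsN using hs
  obtain ⟨a, ha, hmod⟩ := exists_modulo N p
  let u := ∏ g : G, s g
  refine ⟨algebraMap A P a * u, fun h => (q.isPrime.mem_or_mem h).elim ha fun hu => ?_, fun Q hQ hgQ => ?_⟩
  · obtain ⟨g, -, hg⟩ := q.isPrime.prod_mem_iff.mp hu
    exact hsq g hg
  refine flatAt_of_torVan N Q.asIdeal fun x hxN hx => ?_
  obtain ⟨v, hv, hvx⟩ := hmod Q.asIdeal _ (Ideal.comap_mono hQ) (fun h => hgQ (Ideal.mul_mem_right _ _ h)) x hxN hx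
  obtain ⟨y, hy, z, hz, hyz⟩ := Submodule.mem_sup.mp hvx
  refine ⟨u * v, fun h => (Q.isPrime.mem_or_mem h).elim (fun h => hgQ (Ideal.mul_mem_left _ _ h)) hv, ?_⟩
  rw [mul_smul, ← hyz, smul_add]
  refine add_mem (Submodule.smul_mem _ _ hy) ?_
  have hzN : z ∈ N ⊓ p.map (algebraMap A P) • ⊤ := by
    refine ⟨?_, hz⟩
    have := N.sub_mem (N.smul_mem v hxN) (Submodule.smul_le_right hy)
    rwa [← hyz, add_sub_cancel_left] at this
  clear hz hyz
  rw [← hG] at hzN
  refine Submodule.smul_mono (Ideal.map_mono (Ideal.comap_mono hQ)) le_rfl ?_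
  induction hzN using Submodule.span_induction with
  | mem g hg =>
    rw [show u = (∏ g' ∈ Finset.univ.erase ⟨g, hg⟩, s g') * s ⟨g, hg⟩ from
      (Finset.prod_erase_mul _ _ (Finset.mem_univ _)).symm, mul_smul]
    exact Submodule.smul_mem _ _ (hsN ⟨g, hg⟩)
  | zero => rw [smul_zero]; exact zero_mem _
  | add a b _ _ ha hb => rw [smul_add]; exact add_mem ha hb
  | smul c a _ ha => rw [smul_comm]; exact Submodule.smul_mem _ _ ha

end Noetherian

end Groth.FlatDescent
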