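import Mathlib
import Groth.Agent.FlatDescent.Open

/-!
# Base change of flatness at a prime; openness of the flat locus in general

`flatAt_baseN`: flatness at a prime is stable under base change.
`exists_finite_type_model`: a submodule with finitely many generators comes from a finite type `ℤ`-subalgebra, with
flatness at a given prime.
`isOpen_flatLocus`: openness of the flat locus for finitely presented quotients of free modules over `R[x]`.
-/

universe u

open TensorProduct MvPolynomial

namespace Groth.FlatDescent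

variable {σ κ : Type} [Finite σ] [Finite κ] {A R : Type u} [CommRing A] [CommRing R]

/-- Back from the base change to the tensor product. -/
theorem exists_back [Algebra A R] (N : Submodule (MvPolynomial σ A) (κ → MvPolynomial σ A)) :
    ∃ Θ : (κ → MvPolynomial σ R) →ₗ[R] R ⊗[A] ((κ → MvPolynomial σ A) ⧸ N),
      (∀ y, Θ (mapF (algebraMap A R) y) = 1 ⊗ₜ Submodule.Quotient.mk y) ∧
        ∀ v ∈ baseN (algebraMap A R) N, Θ v = 0 := by
  classical
  haveI := Fintype.ofFinite κ
  let PA := MvPolynomial σ A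
  let PR := MvPolynomial σ R
  let M := (κ → PA) ⧸ N
  let φ := algebraMap A R
  let β : Module.Basis (Σ _ : κ, σ →₀ ℕ) R (κ → PR) := Pi.basis fun _ => MvPolynomial.basisMonomials σ R
  let e : (Σ _ : κ, σ →₀ ℕ) → M := fun ie => Submodule.Quotient.mk (Pi.single ie.1 (monomial ie.2 (1 : A)))
  let Θ : (κ → PR) →ₗ[R] R ⊗[A] M := β.constr ℕ fun ie => 1 ⊗ₜ e ie
  have hΘ : ∀ y : κ → PA, Θ (mapF φ y) = 1 ⊗ₜ Submodule.Quotient.mk y := by
    intro y
    have hy : y = ∑ i, Pi.single i (y i) := (Finset.univ_sum_single y).symm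
    rw [hy, map_sum, map_sum, ← Submodule.mkQ_apply, map_sum, tmul_sum]
    refine Finset.sum_congr rfl fun i _ => ?_
    induction y i using MvPolynomial.induction_on' with
    | monomial d a =>
      have h1 : mapF φ (Pi.single i (monomial d a) : κ → PA) = φ a • β ⟨i, d⟩ := by
        funext j
        rw [mapF_apply, Pi.smul_apply, Pi.basis_apply]
        by_cases hj : j = i
        · subst hj; simp [smul_monomial, map_monomial, show MvPolynomial.basisMonomials σ R d = monomial d 1 from rfl]
          rw [MvPolynomial.smul_monomial, smul_eq_mul, mul_one]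
        · simp [Pi.single_eq_of_ne hj]
      have h2 : (Pi.single i (monomial d a) : κ → PA) = a • Pi.single i (monomial d (1 : A)) := by
        rw [← Pi.single_smul']; simp [smul_monomial]
      rw [h1, map_smul, Module.Basis.constr_basis, h2, LinearMap.map_smul_of_tower, tmul_smul, ← algebraMap_smul R a]
      rfl
    | add f g hf hg => rw [Pi.single_add, map_add, map_add, map_add, tmul_add, hf, hg]
  refine ⟨Θ, hΘ, ?_⟩
  intro v hv
  have hv' := mem_span_coeff_of_mem_baseN hv
  clear hv
  induction hv' using Submodule.span_induction with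
  | mem v hv =>
    obtain ⟨y, hy, rfl⟩ := hv
    rw [hΘ, (Submodule.Quotient.mk_eq_zero N).mpr hy, tmul_zero]
  | zero => exact map_zero _
  | add a b _ _ ha hb => rw [map_add, ha, hb, add_zero]
  | smul c a _ ha => rw [map_smul, ha, smul_zero]

/-- Flatness at a prime is stable under base change. -/
theorem flatAt_baseN (φ : A →+* R) (N : Submodule (MvPolynomial σ A) (κ → MvPolynomial σ A))
    (Q : Ideal (MvPolynomial σ R)) [Q.IsPrime]
    (h : FlatCA.FlatAt A (Q.comap (map φ)) ((κ → MvPolynomial σ A) ⧸ N)) :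
    FlatCA.FlatAt R Q ((κ → MvPolynomial σ R) ⧸ baseN φ N) := by
  classical
  haveI := Fintype.ofFinite κ
  letI := φ.toAlgebra
  let PA := MvPolynomial σ A
  let PR := MvPolynomial σ R
  let M := (κ → PA) ⧸ N
  let MR := (κ → PR) ⧸ baseN φ N
  -- the back map
  let β : Module.Basis (Σ _ : κ, σ →₀ ℕ) R (κ → PR) := Pi.basis fun _ => MvPolynomial.basisMonomials σ R
  let e : (Σ _ : κ, σ →₀ ℕ) → M := fun ie => Submodule.Quotient.mk (Pi.single ie.1 (monomial ie.2 (1 : A)))
  obtain ⟨Θ, hΘ, hΘ0⟩ := exists_back (R := R) N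
  replace hΘ : ∀ y : κ → PA, Θ (mapF φ y) = 1 ⊗ₜ Submodule.Quotient.mk y := hΘ
  replace hΘ0 : ∀ v ∈ baseN φ N, Θ v = 0 := hΘ0
  let θ : MR →ₗ[R] R ⊗[A] M := Submodule.liftQ ((baseN φ N).restrictScalars R) Θ fun v hv =>
    LinearMap.mem_ker.mpr (hΘ0 v hv)
  -- the forward map
  let ι : M →ₛₗ[map φ] MR := Submodule.liftQ N
    ({ toFun := fun y => Submodule.Quotient.mk (mapF φ y)
       map_add' := fun a b => by rw [map_add]; rfl
       map_smul' := fun r a => by rw [mapF_smul]; rfl } : (κ → PA) →ₛₗ[map φ] MR)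
    fun v hv => (Submodule.Quotient.mk_eq_zero _).mpr (mapF_mem_baseN hv)
  rw [← flatOn_primeCompl_iff]
  intro I x hx
  let ψ : M ⊗[A] (I.restrictScalars A) →+ MR ⊗[R] I := TensorProduct.liftAddHom
    ({ toFun := fun m => ({ toFun := fun i => ι m ⊗ₜ[R] (⟨i.1, i.2⟩ : I)
                            map_zero' := tmul_zero _ _
                            map_add' := fun a b => tmul_add _ _ _ } : (I.restrictScalars A) →+ MR ⊗[R] I)
       map_zero' := AddMonoidHom.ext fun i => by simp
       map_add' := fun a b => AddMonoidHom.ext fun i => by simp [map_add, add_tmul] })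
    (fun a m i => by
      show ι (a • m) ⊗ₜ[R] (⟨i.1, i.2⟩ : I) = ι m ⊗ₜ[R] (⟨(a • i).1, (a • i).2⟩ : I)
      rw [← algebraMap_smul PA a m, ι.map_smulₛₗ, MvPolynomial.algebraMap_eq, map_C,
        ← MvPolynomial.algebraMap_eq, algebraMap_smul, ← smul_tmul']
      rw [← tmul_smul]
      congr 1)
  have hψsmul : ∀ (s : PA) w, ψ (s • w) = map φ s • ψ w := by
    intro s w
    induction w with
    | zero => simp
    | add a b ha hb => rw [smul_add, map_add, map_add, smul_add, ha, hb]
    | tmul m i =>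
      show ι (s • m) ⊗ₜ[R] (⟨i.1, i.2⟩ : I) = _
      rw [ι.map_smulₛₗ, ← smul_tmul']
      rfl
  have hψ : Function.Surjective ψ := by
    intro z
    induction z with
    | zero => exact ⟨0, map_zero _⟩
    | add a b ha hb =>
      obtain ⟨a, rfl⟩ := ha; obtain ⟨b, rfl⟩ := hb
      exact ⟨a + b, map_add _ _ _⟩
    | tmul v i =>
      obtain ⟨v, rfl⟩ := Submodule.Quotient.mk_surjective _ v
      suffices ∀ i : I, ∃ w, ψ w = Submodule.Quotient.mk v ⊗ₜ[R] i from this i
      have hv : v ∈ Submodule.span R (Set.range β) := β.mem_span v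
      induction hv using Submodule.span_induction with
      | mem v hv =>
        obtain ⟨⟨j, d⟩, rfl⟩ := hv
        intro i
        refine ⟨e ⟨j, d⟩ ⊗ₜ ⟨i.1, i.2⟩, ?_⟩
        show Submodule.Quotient.mk (mapF φ (Pi.single j (monomial d (1 : A)))) ⊗ₜ[R] i = _
        congr 2
        funext k
        rw [mapF_apply, Pi.basis_apply]
        by_cases hk : k = j
        · subst hk; simp [map_monomial, show MvPolynomial.basisMonomials σ R d = monomial d 1 from rfl]
        · simp [Pi.single_eq_of_ne hk]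
      | zero => exact fun i => ⟨0, by simp⟩
      | add a b _ _ ha hb =>
        intro i
        obtain ⟨u, hu⟩ := ha i; obtain ⟨w, hw⟩ := hb i
        exact ⟨u + w, by rw [map_add, hu, hw, ← add_tmul]; rfl⟩
      | smul c a _ ha =>
        intro i
        obtain ⟨u, hu⟩ := ha (c • i)
        exact ⟨u, by rw [hu, tmul_smul, smul_tmul']; rfl⟩
  have hcomm : ∀ w, θ (mulI (MvPolynomial σ R) MR I (ψ w)) =
      (I.restrictScalars A).subtype.rTensor M (TensorProduct.comm A M _ w) := by
    intro w
    induction w with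
    | zero => simp
    | add a b ha hb => simp only [map_add, ha, hb]
    | tmul m i =>
      obtain ⟨m, rfl⟩ := Submodule.Quotient.mk_surjective _ m
      show θ (mulI (MvPolynomial σ R) MR I ((Submodule.Quotient.mk (mapF φ m) : MR) ⊗ₜ[R] (⟨i.1, i.2⟩ : I))) = i.1 ⊗ₜ[A] _
      rw [mulI_tmul, map_smul]
      show i.1 • Θ (mapF φ m) = _
      rw [hΘ, smul_tmul', smul_eq_mul, mul_one]
      rfl
  obtain ⟨w, rfl⟩ := hψ x
  let loc := LocalizedModule.mkLinearMap (Q.comap (map φ)).primeCompl M
  haveI : Module.Flat A (LocalizedModule (Q.comap (map φ)).primeCompl M) := h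
  have h0 : AlgebraTensorModule.rTensor A (I.restrictScalars A) loc w = 0 := by
    refine Module.Flat.lTensor_preserves_injective_linearMap (I.restrictScalars A).subtype Subtype.val_injective ?_
    rw [map_zero]
    have hnat : ∀ w : M ⊗[A] (I.restrictScalars A), (I.restrictScalars A).subtype.lTensor _ (AlgebraTensorModule.rTensor A (I.restrictScalars A) loc w) =
        TensorProduct.comm A R _ ((loc.restrictScalars A).lTensor R
          ((I.restrictScalars A).subtype.rTensor M (TensorProduct.comm A M _ w))) := by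
      intro w
      induction w with
      | zero => simp
      | add a b ha hb => simp only [map_add, ha, hb]
      | tmul m i => simp
    rw [hnat, ← hcomm, hx, map_zero, map_zero, map_zero]
  haveI : IsLocalizedModule (Q.comap (map φ)).primeCompl (AlgebraTensorModule.rTensor A (I.restrictScalars A) loc) :=
    inferInstance
  obtain ⟨s, hs⟩ := (IsLocalizedModule.eq_zero_iff (Q.comap (map φ)).primeCompl _).mp h0
  exact ⟨map φ s, s.2, by rw [← hψsmul, show (s : PA) • w = 0 from hs, map_zero]⟩

/-- A Noetherian model of finitely many relations, flat at a given prime. -/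
theorem exists_finite_type_model {N : Submodule (MvPolynomial σ R) (κ → MvPolynomial σ R)} (hN : N.FG) :
    ∃ (A₀ : Subalgebra ℤ R) (_ : A₀.FG) (N₀ : Submodule (MvPolynomial σ A₀) (κ → MvPolynomial σ A₀)),
      baseN A₀.val.toRingHom N₀ = N ∧
      ∀ (q : Ideal (MvPolynomial σ R)) [q.IsPrime], FlatCA.FlatAt R q ((κ → MvPolynomial σ R) ⧸ N) →
        ∃ (A₁ : Subalgebra ℤ R) (_ : A₁.FG) (hle : A₀ ≤ A₁), FlatCA.FlatAt A₁ (q.comap (map A₁.val.toRingHom))
          ((κ → MvPolynomial σ A₁) ⧸ baseN (Subalgebra.inclusion hle).toRingHom N₀) := by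
  classical
  haveI := Fintype.ofFinite κ
  obtain ⟨G, hG⟩ := hN
  let C : Finset R := G.biUnion fun g => Finset.univ.biUnion fun i => (g i).coeffs
  let A₀ := Algebra.adjoin ℤ (C : Set R)
  have hA₀ : A₀.FG := Subalgebra.fg_adjoin_finset C
  have hlift : ∀ g : G, ∃ g' : κ → MvPolynomial σ A₀, mapF A₀.val.toRingHom g' = (g : κ → MvPolynomial σ R) := by
    intro g
    have : ∀ i, ∃ gi, map A₀.val.toRingHom gi = (g : κ → MvPolynomial σ R) i := fun i =>
      mem_range_map_iff_coeffs_subset.mpr fun a ha => ⟨⟨a, Algebra.subset_adjoin (by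
        simp only [C, Finset.coe_biUnion, Set.mem_iUnion, Finset.mem_coe]
        exact ⟨g, g.2, i, Finset.mem_univ _, ha⟩)⟩, rfl⟩
    choose g' hg' using this
    exact ⟨g', funext hg'⟩
  choose g' hg' using hlift
  let N₀ := Submodule.span (MvPolynomial σ A₀) (Set.range g')
  have hN₀ : baseN A₀.val.toRingHom N₀ = N := by
    refine le_antisymm (Submodule.span_le.mpr ?_) (hG.ge.trans (Submodule.span_le.mpr ?_))
    · rintro _ ⟨y, hy, rfl⟩
      induction hy using Submodule.span_induction with
      | mem y hy => obtain ⟨g, rfl⟩ := hy; rw [hg', SetLike.mem_coe, ← hG]; exact Submodule.subset_span g.2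
      | zero => rw [map_zero]; exact zero_mem _
      | add a b _ _ ha hb => rw [map_add]; exact add_mem ha hb
      | smul c a _ ha => rw [mapF_smul]; exact N.smul_mem _ ha
    · intro g hg
      rw [← show mapF A₀.val.toRingHom (g' ⟨g, hg⟩) = g from hg' _]
      exact mapF_mem_baseN (Submodule.subset_span ⟨_, rfl⟩)
  refine ⟨A₀, hA₀, N₀, hN₀, fun q _ hq => ?_⟩
  haveI : Algebra.FiniteType ℤ A₀ := ⟨A₀.fg_top.mpr hA₀⟩
  haveI : IsNoetherianRing A₀ := Algebra.FiniteType.isNoetherianRing ℤ A₀
  rw [← hN₀] at hq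
  obtain ⟨T, hT⟩ := exists_finset_flatAt A₀.val.toRingHom q hq
  let A₁ := Algebra.adjoin ℤ ((C ∪ T : Finset R) : Set R)
  have hA₁ : A₁.FG := Subalgebra.fg_adjoin_finset _
  have hle : A₀ ≤ A₁ := Algebra.adjoin_mono (by rw [Finset.coe_union]; exact Set.subset_union_left)
  haveI : Algebra.FiniteType ℤ A₁ := ⟨A₁.fg_top.mpr hA₁⟩
  haveI : IsNoetherianRing A₁ := Algebra.FiniteType.isNoetherianRing ℤ A₁
  refine ⟨A₁, hA₁, hle, hT A₁ (Subalgebra.inclusion hle).toRingHom A₁.val.toRingHom Subtype.val_injective rfl ?_⟩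
  intro a ha
  exact ⟨⟨a, Algebra.subset_adjoin (by rw [Finset.coe_union]; exact Or.inr ha)⟩, rfl⟩

/-- **EGA IV 11.3.1**: the flat locus is open. -/
theorem isOpen_flatLocus {N : Submodule (MvPolynomial σ R) (κ → MvPolynomial σ R)} (hN : N.FG) :
    IsOpen {q : PrimeSpectrum (MvPolynomial σ R) | FlatCA.FlatAt R q.asIdeal ((κ → MvPolynomial σ R) ⧸ N)} := by
  obtain ⟨A₀, hA₀, N₀, hN₀, hdesc⟩ := exists_finite_type_model hN
  rw [isOpen_iff_forall_mem_open]
  intro q hq
  obtain ⟨A₁, hA₁, hle, hflat⟩ := hdesc q.asIdeal hq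
  haveI : Algebra.FiniteType ℤ A₁ := ⟨A₁.fg_top.mpr hA₁⟩
  haveI : IsNoetherianRing A₁ := Algebra.FiniteType.isNoetherianRing ℤ A₁
  haveI : Algebra.FiniteType A₁ (MvPolynomial σ A₁) := inferInstance
  refine ⟨PrimeSpectrum.comap (map A₁.val.toRingHom) ⁻¹'
    {q' : PrimeSpectrum (MvPolynomial σ A₁) | FlatCA.FlatAt A₁ q'.asIdeal
      ((κ → MvPolynomial σ A₁) ⧸ baseN (Subalgebra.inclusion hle).toRingHom N₀)}, fun Q hQ => ?_,
    (isOpen_flatLocus_of_isNoetherianRing _).preimage (PrimeSpectrum.continuous_comap _), hflat⟩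
  have := flatAt_baseN A₁.val.toRingHom _ Q.asIdeal hQ
  rwa [baseN_baseN, show A₁.val.toRingHom.comp (Subalgebra.inclusion hle).toRingHom = A₀.val.toRingHom from rfl,
    hN₀] at this

end Groth.FlatDescent
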