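import Mathlib
import Groth.Agent.FlatDescent.Descent

/-!
# Openness of the flat locus for finitely presented modules over finitely presented algebras
-/

universe u

open MvPolynomial

namespace Groth.FlatDescent

variable {A P P' : Type u} [CommRing A] [CommRing P] [CommRing P'] [Algebra A P] [Algebra A P'] [Algebra P P']
  [IsScalarTower A P P'] {M : Type u} [AddCommGroup M] [Module A M] [Module P M] [Module P' M] [IsScalarTower A P M]
  [IsScalarTower A P' M] [IsScalarTower P P' M]

lemma map_primeCompl_comap (hsurj : Function.Surjective (algebraMap P P')) (q : Ideal P') [q.IsPrime] :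
    (q.comap (algebraMap P P')).primeCompl.map (algebraMap P P') = q.primeCompl := by
  ext x
  refine ⟨?_, fun hx => ?_⟩
  · rintro ⟨y, hy, rfl⟩; exact hy
  · obtain ⟨y, rfl⟩ := hsurj x
    exact ⟨y, hx, rfl⟩

/-- Flatness at a prime does not depend on a surjectively mapping algebra. -/
theorem flatAt_comap_iff (hsurj : Function.Surjective (algebraMap P P')) (q : Ideal P') [q.IsPrime] :
    FlatCA.FlatAt A (q.comap (algebraMap P P')) M ↔ FlatCA.FlatAt A q M := by
  rw [← flatOn_primeCompl_iff, ← flatOn_primeCompl_iff, ← map_primeCompl_comap hsurj q, flatOn_map_iff]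

theorem flatAt_congr {N : Type u} [AddCommGroup N] [Module A N] [Module P N] [IsScalarTower A P N] (e : M ≃ₗ[P] N)
    (q : Ideal P) [q.IsPrime] : FlatCA.FlatAt A q M ↔ FlatCA.FlatAt A q N := by
  rw [← flatOn_primeCompl_iff, ← flatOn_primeCompl_iff]
  exact ⟨fun h => h.of_equiv e, fun h => h.of_equiv e.symm⟩

/-- A finitely presented module over a finitely presented algebra, over a polynomial ring. -/
theorem exists_presentation (R S : Type u) [CommRing R] [CommRing S] [Algebra R S] [Algebra.FinitePresentation R S]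
    (M : Type u) [AddCommGroup M] [Module S M] [Module.FinitePresentation S M] :
    ∃ (n k : ℕ) (π : MvPolynomial (Fin n) R →ₐ[R] S) (_ : Function.Surjective π)
      (N : Submodule (MvPolynomial (Fin n) R) (Fin k → MvPolynomial (Fin n) R)) (_ : N.FG)
      (f : (Fin k → MvPolynomial (Fin n) R) →+ M), Function.Surjective f ∧
        (∀ (r : MvPolynomial (Fin n) R) x, f (r • x) = π r • f x) ∧ ∀ x, f x = 0 ↔ x ∈ N := by
  obtain ⟨n, π, hπ, hker⟩ := Algebra.FinitePresentation.out (R := R) (A := S)
  let P := MvPolynomial (Fin n) R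
  letI : Algebra P S := π.toRingHom.toAlgebra
  letI : Module P M := Module.compHom M π.toRingHom
  haveI : IsScalarTower P S M := IsScalarTower.of_algebraMap_smul fun _ _ => rfl
  haveI : Module.FinitePresentation P S :=
    Module.finitePresentation_of_surjective (Algebra.linearMap P S) hπ hker
  haveI : Module.FinitePresentation P M := Module.FinitePresentation.trans P M S
  obtain ⟨k, N, e, hN⟩ := Module.FinitePresentation.exists_fin P M
  refine ⟨n, k, π, hπ, N, hN, (e.symm.toLinearMap.comp N.mkQ).toAddMonoidHom,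
    e.symm.surjective.comp N.mkQ_surjective, fun r x => (e.symm.toLinearMap.comp N.mkQ).map_smul r x, fun x => ?_⟩
  show e.symm (N.mkQ x) = 0 ↔ _
  rw [LinearEquiv.map_eq_zero_iff, Submodule.mkQ_apply, Submodule.Quotient.mk_eq_zero]

/-- **EGA IV 11.3.1**, module form. -/
theorem isOpen_flatLocus_fp (R : Type u) {S : Type u} [CommRing R] [CommRing S] [Algebra R S]
    [Algebra.FinitePresentation R S] (M : Type u) [AddCommGroup M] [Module S M] [Module R M] [IsScalarTower R S M]
    [Module.FinitePresentation S M] : IsOpen {q : PrimeSpectrum S | FlatCA.FlatAt R q.asIdeal M} := by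
  obtain ⟨n, k, π, hπ, N, hN, f, hf, hsmul, hker⟩ := exists_presentation R S M
  let P := MvPolynomial (Fin n) R
  letI : Algebra P S := π.toRingHom.toAlgebra
  haveI : IsScalarTower R P S := IsScalarTower.of_algebraMap_eq fun r => (π.commutes r).symm
  letI : Module P M := Module.compHom M π.toRingHom
  haveI : IsScalarTower P S M := IsScalarTower.of_algebraMap_smul fun _ _ => rfl
  haveI : IsScalarTower R P M := IsScalarTower.of_algebraMap_smul fun r m => by
    show π (algebraMap R P r) • m = r • m
    rw [π.commutes, algebraMap_smul]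
  let g : (Fin k → P) →ₗ[P] M := { f with map_smul' := hsmul }
  let e : ((Fin k → P) ⧸ N) ≃ₗ[P] M := (Submodule.quotEquivOfEq N (LinearMap.ker g) (by
    ext x; exact (hker x).symm)).trans (g.quotKerEquivOfSurjective hf)
  have : {q : PrimeSpectrum S | FlatCA.FlatAt R q.asIdeal M} =
      PrimeSpectrum.comap π.toRingHom ⁻¹' {q | FlatCA.FlatAt R q.asIdeal ((Fin k → P) ⧸ N)} := by
    ext q
    exact ((flatAt_congr e _).trans (flatAt_comap_iff (P := P) hπ q.asIdeal)).symm
  rw [this]
  exact (isOpen_flatLocus hN).preimage (PrimeSpectrum.continuous_comap _)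

/-- The flat locus of a module over an algebra of the algebra. -/
theorem flatAt_iff_forall {B C : Type u} [CommRing B] [CommRing C] [Algebra A B] [Algebra A C] [Algebra B C]
    [IsScalarTower A B C] {M : Type u} [AddCommGroup M] [Module A M] [Module B M] [Module C M]
    [IsScalarTower A B M] [IsScalarTower A C M] [IsScalarTower B C M] (q : Ideal B) [q.IsPrime] :
    FlatCA.FlatAt A q M ↔
      ∀ (Q : Ideal C) [Q.IsPrime], Q.comap (algebraMap B C) ≤ q → FlatCA.FlatAt A Q M := by
  refine ⟨fun h Q _ hQ => ?_, fun h => ?_⟩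
  · rw [← flatOn_primeCompl_iff] at h ⊢
    refine ((flatOn_map_iff q.primeCompl).mpr h).of_le ?_
    rintro _ ⟨b, hb, rfl⟩ hbQ
    exact hb (hQ hbQ)
  · rw [← flatOn_primeCompl_iff, ← flatOn_map_iff (P' := C)]
    intro I x hx
    let J : Ideal C := LinearMap.ker (LinearMap.toSpanSingleton C (TensorProduct A M I) x)
    by_contra hne
    have hJ : J.comap (algebraMap B C) ≤ q := fun b hb => by
      by_contra hbq
      exact hne ⟨algebraMap B C b, ⟨b, hbq, rfl⟩, hb⟩
    obtain ⟨Q, hJQ, hQp, hQ⟩ := Ideal.exists_ideal_comap_le_prime q J hJ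
    obtain ⟨s, hs, hsx⟩ := (flatOn_primeCompl_iff Q).mpr (h Q hQ) I x hx
    exact hs (hJQ hsx)

/-- Openness on an intermediate algebra. -/
theorem isOpen_flatLocus_tower (A : Type u) {B C : Type u} [CommRing A] [CommRing B] [CommRing C] [Algebra A B]
    [Algebra A C] [Algebra B C] [IsScalarTower A B C] [Algebra.FinitePresentation A C] (M : Type u) [AddCommGroup M]
    [Module A M] [Module B M] [Module C M] [IsScalarTower A B M] [IsScalarTower A C M] [IsScalarTower B C M]
    [Module.FinitePresentation C M] : IsOpen {q : PrimeSpectrum B | FlatCA.FlatAt A q.asIdeal M} := by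
  obtain ⟨s, hs⟩ := (PrimeSpectrum.isClosed_iff_zeroLocus _).mp (isOpen_flatLocus_fp A (S := C) M).isClosed_compl
  let I := Ideal.span s
  have hI : ∀ Q : PrimeSpectrum C, I ≤ Q.asIdeal ↔ ¬ FlatCA.FlatAt A Q.asIdeal M := fun Q => by
    rw [Ideal.span_le, ← PrimeSpectrum.mem_zeroLocus, ← hs]; rfl
  have : {q : PrimeSpectrum B | FlatCA.FlatAt A q.asIdeal M} = (PrimeSpectrum.zeroLocus (I.comap (algebraMap B C)))ᶜ := by
    ext q
    rw [Set.mem_setOf_eq, Set.mem_compl_iff, PrimeSpectrum.mem_zeroLocus, SetLike.coe_subset_coe,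
      flatAt_iff_forall (C := C) q.asIdeal]
    constructor
    · intro h hle
      obtain ⟨Q, hIQ, hQp, hQ⟩ := Ideal.exists_ideal_comap_le_prime q.asIdeal I hle
      exact (hI ⟨Q, hQp⟩).mp hIQ (h Q hQ)
    · intro h Q hQp hQ
      by_contra hf
      exact h ((Ideal.comap_mono ((hI ⟨Q, hQp⟩).mpr hf)).trans hQ)
  rw [this]
  exact (PrimeSpectrum.isClosed_zeroLocus _).isOpen_compl

end Groth.FlatDescent
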