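import Mathlib
import Groth.Agent.FlatDescent.Descent
import Groth.Agent.FlatDescent.Presentation

/-!
# The fibrewise criterion of flatness: Noetherian case and descent along flat maps

`flatAt_of_fibre`: the fibrewise criterion, Noetherian case, with any "fibre" map `π : S → T`.
`flatAt_of_baseN`: flatness at a prime descends along flat maps.
-/

universe u

open MvPolynomial TensorProduct

namespace Groth.FlatDescent

section Denominators

variable {R S T : Type u} [CommRing R] [CommRing S] [CommRing T] [Algebra R S] {σ κ : Type}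
  (π : S →+* T) (p : Ideal R) [p.IsPrime]

/-- Numerators of polynomials. -/
lemma exists_num_poly (hsurj : ∀ t : T, ∃ r : R, r ∉ p ∧ ∃ s, π s = π (algebraMap R S r) * t) (c : MvPolynomial σ T) :
    ∃ r : R, r ∉ p ∧ ∃ c' : MvPolynomial σ S, map π c' = C (π (algebraMap R S r)) * c := by
  induction c using MvPolynomial.induction_on' with
  | monomial d t =>
    obtain ⟨r, hr, s, hs⟩ := hsurj t
    exact ⟨r, hr, monomial d s, by rw [map_monomial, C_mul_monomial, hs]⟩
  | add f g hf hg =>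
    obtain ⟨r, hr, f', hf'⟩ := hf
    obtain ⟨r', hr', g', hg'⟩ := hg
    refine ⟨r * r', fun h => ((‹p.IsPrime›).mem_or_mem h).elim hr hr',
      C (algebraMap R S r') * f' + C (algebraMap R S r) * g', ?_⟩
    rw [map_add, map_mul, map_mul, map_C, map_C, hf', hg', map_mul, map_mul, map_mul]
    ring

/-- Numerators of elements of a base change. -/
lemma exists_num_baseN (hsurj : ∀ t : T, ∃ r : R, r ∉ p ∧ ∃ s, π s = π (algebraMap R S r) * t)
    (K : Submodule (MvPolynomial σ S) (κ → MvPolynomial σ S)) {v : κ → MvPolynomial σ T} (hv : v ∈ baseN π K) :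
    ∃ r : R, r ∉ p ∧ ∃ v' ∈ K, mapF π v' = (C (π (algebraMap R S r)) : MvPolynomial σ T) • v := by
  induction hv using Submodule.span_induction with
  | mem v hv =>
    obtain ⟨y, hy, rfl⟩ := hv
    exact ⟨1, fun h => (‹p.IsPrime›).ne_top ((Ideal.eq_top_iff_one _).mpr h), y, hy, by simp⟩
  | zero => exact ⟨1, fun h => (‹p.IsPrime›).ne_top ((Ideal.eq_top_iff_one _).mpr h), 0, K.zero_mem, by simp⟩
  | add a b _ _ ha hb =>
    obtain ⟨r, hr, a', haK, ha'⟩ := ha
    obtain ⟨r', hr', b', hbK, hb'⟩ := hb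
    refine ⟨r * r', fun h => ((‹p.IsPrime›).mem_or_mem h).elim hr hr',
      (C (algebraMap R S r') : MvPolynomial σ S) • a' + (C (algebraMap R S r) : MvPolynomial σ S) • b',
      K.add_mem (K.smul_mem _ haK) (K.smul_mem _ hbK), ?_⟩
    rw [map_add, mapF_smul, mapF_smul, map_C, map_C, ha', hb', smul_smul, smul_smul, smul_add, map_mul, map_mul,
      map_mul, mul_comm (C (π (algebraMap R S r'))) (C (π (algebraMap R S r)))]
  | smul c a _ ha =>
    obtain ⟨r, hr, a', haK, ha'⟩ := ha
    obtain ⟨r', hr', c', hc'⟩ := exists_num_poly π p hsurj c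
    refine ⟨r' * r, fun h => ((‹p.IsPrime›).mem_or_mem h).elim hr' hr, c' • a', K.smul_mem _ haK, ?_⟩
    rw [mapF_smul, hc', ha', smul_smul, smul_smul, map_mul, map_mul, map_mul]
    congr 1
    ring

/-- The kernel, up to elements outside `p`. -/
lemma exists_smul_mem_of_mapF_eq_zero [Finite κ] (hker : ∀ s, π s = 0 → ∃ r : R, r ∉ p ∧ r • s ∈ p.map (algebraMap R S))
    {z : κ → MvPolynomial σ S} (hz : mapF π z = 0) :
    ∃ r : R, r ∉ p ∧ (C (algebraMap R S r) : MvPolynomial σ S) • z ∈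
      p.map (algebraMap R (MvPolynomial σ S)) • (⊤ : Submodule (MvPolynomial σ S) (κ → MvPolynomial σ S)) := by
  classical
  haveI := Fintype.ofFinite κ
  choose! r hr hrs using hker
  let D := Finset.univ.biUnion fun i => (z i).support.image fun d => (i, d)
  refine ⟨∏ x ∈ D, r ((z x.1).coeff x.2), fun h => ?_, ?_⟩
  · obtain ⟨x, -, hx⟩ := (‹p.IsPrime›).prod_mem_iff.mp h
    exact hr _ (by rw [← coeff_map, ← mapF_apply, hz]; rfl) hx
  rw [IsScalarTower.algebraMap_eq R S (MvPolynomial σ S), ← Ideal.map_map, mem_smul_top_iff_coeff]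
  intro i d
  rw [Pi.smul_apply, smul_eq_mul, coeff_C_mul]
  by_cases hd : (z i).coeff d = 0
  · rw [hd, mul_zero]; exact zero_mem _
  have hmem : (i, d) ∈ D := by
    simp only [D, Finset.mem_biUnion, Finset.mem_univ, true_and, Finset.mem_image, mem_support_iff]
    exact ⟨i, d, hd, rfl⟩
  rw [← Finset.prod_erase_mul _ _ hmem, map_mul, mul_assoc, ← Algebra.smul_def (r _)]
  exact Ideal.mul_mem_left _ _ (hrs _ (by rw [← coeff_map, ← mapF_apply, hz]; rfl))

end Denominators

/-- **Fibrewise criterion of flatness**, Noetherian case. -/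
theorem flatAt_of_fibre {R S T : Type u} [CommRing R] [CommRing S] [CommRing T] [IsNoetherianRing S] [Algebra R S]
    {σ κ : Type} [Finite σ] [Finite κ] (N : Submodule (MvPolynomial σ S) (κ → MvPolynomial σ S))
    (q : Ideal (MvPolynomial σ S)) [q.IsPrime] (p : Ideal R) [p.IsPrime]
    (hp : p = q.comap (algebraMap R (MvPolynomial σ S))) (π : S →+* T)
    (hker : ∀ s, π s = 0 → ∃ r : R, r ∉ p ∧ r • s ∈ p.map (algebraMap R S))
    (hsurj : ∀ t : T, ∃ r : R, r ∉ p ∧ ∃ s, π s = π (algebraMap R S r) * t)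
    (hM : FlatCA.FlatAt R q ((κ → MvPolynomial σ S) ⧸ N))
    (Q : Ideal (MvPolynomial σ T)) [Q.IsPrime] (hQ : Q.comap (map π) = q)
    (h : FlatCA.FlatAt T Q ((κ → MvPolynomial σ T) ⧸ baseN π N)) :
    FlatCA.FlatAt S q ((κ → MvPolynomial σ S) ⧸ N) := by
  refine flatAt_of_torVan N q fun x hxN hx => ?_
  set y := q.comap (algebraMap S (MvPolynomial σ S)) with hy
  have hpy : p.map (algebraMap R (MvPolynomial σ S)) • N ≤ y.map (algebraMap S (MvPolynomial σ S)) • N := by
    refine Submodule.smul_mono ?_ le_rfl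
    rw [IsScalarTower.algebraMap_eq R S (MvPolynomial σ S), ← Ideal.map_map]
    refine Ideal.map_mono (Ideal.map_le_iff_le_comap.mpr fun a ha => ?_)
    rw [hp, Ideal.mem_comap, IsScalarTower.algebraMap_apply R S] at ha
    exact ha
  have hC : ∀ r : R, (C (algebraMap R S r) : MvPolynomial σ S) = algebraMap R (MvPolynomial σ S) r :=
    fun r => (IsScalarTower.algebraMap_apply R S (MvPolynomial σ S) r).symm
  have hout : ∀ r : R, r ∉ p → (C (algebraMap R S r) : MvPolynomial σ S) ∉ q := fun r hr hq => hr (by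
    rw [hp, Ideal.mem_comap, ← hC]; exact hq)
  obtain ⟨t, htQ, ht⟩ := torVan_of_flatAt _ Q h (y.map π) (mapF π x) (mapF_mem_baseN hxN) (mapF_mem_smul_top le_rfl hx)
  rw [smul_baseN] at ht
  obtain ⟨r₁, hr₁, t', ht'⟩ := exists_num_poly π p hsurj t
  obtain ⟨r₂, hr₂, v', hv', hv⟩ := exists_num_baseN π p hsurj _
    (Submodule.smul_mem _ (C (π (algebraMap R S r₁))) ht)
  have ht'q : t' ∉ q := by
    rw [← hQ, Ideal.mem_comap, ht']
    refine fun hm => (Ideal.IsPrime.mem_or_mem inferInstance hm).elim (fun h' => hout r₁ hr₁ ?_) htQ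
    rw [← hQ, Ideal.mem_comap, map_C]
    exact h'
  let z := ((C (algebraMap R S r₂) : MvPolynomial σ S) * t') • x - v'
  have hz : mapF π z = 0 := by
    rw [map_sub, mapF_smul, map_mul, map_C, ht', hv, smul_smul, smul_smul, mul_assoc, sub_self]
  obtain ⟨r₃, hr₃, hr₃z⟩ := exists_smul_mem_of_mapF_eq_zero π p hker hz
  have hv'N : v' ∈ N := (Submodule.smul_le_right : y.map (algebraMap S (MvPolynomial σ S)) • N ≤ N) hv'
  obtain ⟨s, hs, hsz⟩ := torVan_of_flatAt N q hM p _ (N.smul_mem _ (sub_mem (N.smul_mem _ hxN) hv'N)) hr₃z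
  refine ⟨s * (C (algebraMap R S r₃) * (C (algebraMap R S r₂) * t')), ?_, ?_⟩
  · exact fun hm => (Ideal.IsPrime.mem_or_mem inferInstance hm).elim hs fun hm =>
      (Ideal.IsPrime.mem_or_mem inferInstance hm).elim (hout r₃ hr₃) fun hm =>
        (Ideal.IsPrime.mem_or_mem inferInstance hm).elim (hout r₂ hr₂) ht'q
  have hsplit : (s * (C (algebraMap R S r₃) * (C (algebraMap R S r₂) * t'))) • x =
      s • (C (algebraMap R S r₃) : MvPolynomial σ S) • z + (s * C (algebraMap R S r₃)) • v' := by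
    simp only [z, smul_sub, smul_smul, mul_assoc]
    exact (sub_add_cancel _ _).symm
  rw [hsplit]
  exact add_mem (hpy hsz) (Submodule.smul_mem _ _ hv')

/-- Flatness at a prime descends along flat maps. -/
theorem flatAt_of_baseN {A R : Type u} [CommRing A] [CommRing R] [IsNoetherianRing A] (φ : A →+* R) (hφ : φ.Flat)
    {σ κ : Type} [Finite σ] [Finite κ] (N : Submodule (MvPolynomial σ A) (κ → MvPolynomial σ A))
    (Q : Ideal (MvPolynomial σ R)) [Q.IsPrime]
    (h : FlatCA.FlatAt R Q ((κ → MvPolynomial σ R) ⧸ baseN φ N)) :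
    FlatCA.FlatAt A (Q.comap (map φ)) ((κ → MvPolynomial σ A) ⧸ N) := by
  letI := φ.toAlgebra
  haveI : Module.Flat A R := hφ
  refine flatAt_of_torVan N _ fun x hxN hx => ?_
  set q := Q.comap (map φ) with hq
  set p := q.comap (algebraMap A (MvPolynomial σ A)) with hp
  let K := p.map (algebraMap A (MvPolynomial σ A)) • N
  obtain ⟨t, htQ, ht⟩ := torVan_of_flatAt _ Q h (p.map φ) (mapF φ x) (mapF_mem_baseN hxN) (mapF_mem_smul_top le_rfl hx)
  rw [smul_baseN] at ht
  obtain ⟨Θ, hΘ, hΘ0⟩ := exists_back (R := R) K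
  let μ : MvPolynomial σ A →ₗ[A] (κ → MvPolynomial σ A) ⧸ K :=
    ((K.mkQ).comp (LinearMap.toSpanSingleton (MvPolynomial σ A) _ x)).restrictScalars A
  let e : R ⊗[A] MvPolynomial σ A →ₗ[R] MvPolynomial σ R :=
    LinearMap.liftBaseChange R (MvPolynomial.mapAlgHom (Algebra.ofId A R)).toLinearMap
  have he : ∀ r f, e (r ⊗ₜ f) = r • map φ f := fun r f => LinearMap.liftBaseChange_tmul _ _ _ _
  have hesurj : ∀ f, ∃ w, e w = f := by
    intro f
    induction f using MvPolynomial.induction_on' with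
    | monomial d r =>
      refine ⟨r ⊗ₜ monomial d (1 : A), ?_⟩
      rw [he, map_monomial, map_one, smul_monomial, smul_eq_mul, mul_one]
    | add f g hf hg =>
      obtain ⟨a, rfl⟩ := hf; obtain ⟨b, rfl⟩ := hg
      exact ⟨a + b, map_add _ _ _⟩
  have hkey : ∀ w, Θ (e w • mapF φ x) = μ.lTensor R w := by
    intro w
    induction w with
    | zero => simp
    | add a b ha hb => rw [map_add, add_smul, map_add, map_add, ha, hb]
    | tmul r f =>
      rw [he, smul_assoc, ← mapF_smul, map_smul, LinearMap.lTensor_tmul]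
      refine (congrArg (r • ·) (hΘ (f • x))).trans ?_
      rw [smul_tmul', smul_eq_mul, mul_one]
      rfl
  obtain ⟨w, rfl⟩ := hesurj t
  have hw : μ.lTensor R w = 0 := by rw [← hkey]; exact hΘ0 _ ht
  let J := LinearMap.ker μ
  obtain ⟨v, hv⟩ : w ∈ LinearMap.range (J.subtype.lTensor R) :=
    ((Module.Flat.lTensor_exact R (LinearMap.exact_subtype_ker_map μ)) w).mp hw
  suffices ¬ ∀ f ∈ J, f ∈ q by
    push Not at this
    obtain ⟨f, hf, hfq⟩ := this
    exact ⟨f, hfq, (Submodule.Quotient.mk_eq_zero K).mp hf⟩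
  intro hJ
  refine htQ ?_
  rw [← hv]
  clear hv
  induction v with
  | zero => simp
  | add a b ha hb => rw [map_add, map_add]; exact Q.add_mem ha hb
  | tmul r f =>
    rw [LinearMap.lTensor_tmul, he, ← algebraMap_smul (MvPolynomial σ R) r, smul_eq_mul]
    exact Q.mul_mem_left _ (hJ _ f.2)

end Groth.FlatDescent
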