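import Mathlib
import Groth.Agent.FlatDescent.Fibre

/-!
# The fibrewise criterion of flatness over an arbitrary base (EGA IV 11.3.10), polynomial form

`S` a finitely presented `R`-algebra and `M = S[σ]^κ ⧸ N` with `N` finitely generated: if `M` is flat over `R`
at `q` and the fibre module is flat over the fibre ring at `q`, then `M` is flat over `S` at `q`.
-/

universe u

open MvPolynomial
open scoped TensorProduct

namespace Groth.FlatDescent

/-- Transfer along a surjection of algebras. -/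
theorem flatAt_iff_of_surjective {R P₀ P : Type u} [CommRing R] [CommRing P₀] [CommRing P] [Algebra R P₀] [Algebra R P]
    (f : P₀ →ₐ[R] P) (hf : Function.Surjective f) {κ : Type} [Finite κ] (N₀ : Submodule P₀ (κ → P₀))
    (N : Submodule P (κ → P)) (hN : ∀ x : κ → P₀, x ∈ N₀ ↔ (fun i => f (x i)) ∈ N) (Q : Ideal P) [Q.IsPrime] :
    FlatCA.FlatAt R (Q.comap f.toRingHom) ((κ → P₀) ⧸ N₀) ↔ FlatCA.FlatAt R Q ((κ → P) ⧸ N) := by
  letI : Algebra P₀ P := f.toRingHom.toAlgebra
  haveI : IsScalarTower R P₀ P := IsScalarTower.of_algebraMap_eq fun r => (f.commutes r).symm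
  let g : (κ → P₀) →ₗ[P₀] (κ → P) ⧸ N :=
    (N.mkQ.restrictScalars P₀).comp ((Algebra.linearMap P₀ P).compLeft κ)
  have hg : Function.Surjective g := by
    intro y
    obtain ⟨y, rfl⟩ := Submodule.Quotient.mk_surjective _ y
    choose x hx using fun i => hf (y i)
    exact ⟨x, congrArg _ (funext hx)⟩
  have hker : N₀ = LinearMap.ker g := by
    ext x
    rw [hN, LinearMap.mem_ker]
    exact (Submodule.Quotient.mk_eq_zero N).symm
  let e : ((κ → P₀) ⧸ N₀) ≃ₗ[P₀] (κ → P) ⧸ N :=
    (Submodule.quotEquivOfEq N₀ _ hker).trans (g.quotKerEquivOfSurjective hg)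
  exact (flatAt_congr e _).trans (flatAt_comap_iff (P := P₀) hf Q)

/-- Flat maps stay flat modulo ideals. -/
theorem flat_of_surjective_of_ker {A B A' B' : Type u} [CommRing A] [CommRing B] [CommRing A'] [CommRing B']
    (f : A →+* B) (hf : f.Flat) (a : A →+* A') (ha : Function.Surjective a) (b : B →+* B') (hb : Function.Surjective b)
    (hker : (RingHom.ker a).map f = RingHom.ker b) (g : A' →+* B') (hg : g.comp a = b.comp f) : g.Flat := by
  letI := f.toAlgebra
  haveI : Module.Flat A B := hf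
  let I := RingHom.ker a
  letI : Algebra (A ⧸ I) (B ⧸ I.map f) := (Ideal.quotientMap (I.map f) f Ideal.le_comap_map).toAlgebra
  haveI : IsScalarTower A (A ⧸ I) (B ⧸ I.map f) := IsScalarTower.of_algebraMap_eq fun _ => rfl
  let e : (B ⧸ I.map f) ≃ₗ[A] (A ⧸ I) ⊗[A] B :=
    ((Algebra.TensorProduct.quotIdealMapEquivTensorQuot B I).toLinearEquiv.restrictScalars A).trans
      (TensorProduct.comm A B (A ⧸ I))
  have h0 : (Ideal.quotientMap (I.map f) f Ideal.le_comap_map).Flat :=
    show Module.Flat (A ⧸ I) (B ⧸ I.map f) from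
      Module.Flat.of_linearEquiv (LinearEquiv.extendScalarsOfSurjective Ideal.Quotient.mk_surjective e)
  let ea := RingHom.quotientKerEquivOfSurjective ha
  let eb := (Ideal.quotEquivOfEq hker).trans (RingHom.quotientKerEquivOfSurjective hb)
  have : g = ((eb : _ →+* B').comp (Ideal.quotientMap (I.map f) f Ideal.le_comap_map)).comp
      (ea.symm : A' →+* A ⧸ I) := by
    refine RingHom.ext fun x => ?_
    obtain ⟨x, rfl⟩ := ha x
    have h1 : ea.symm (a x) = Ideal.Quotient.mk I x := ea.symm_apply_eq.mpr rfl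
    simp only [RingHom.comp_apply, RingHom.coe_coe, h1, Ideal.quotientMap_mk]
    exact RingHom.congr_fun hg x
  rw [this]
  exact RingHom.Flat.comp (RingHom.Flat.of_bijective ea.symm.bijective)
    (RingHom.Flat.comp h0 (RingHom.Flat.of_bijective eb.bijective))

/-- Polynomial rings over flat algebras. -/
theorem flat_map {k K : Type u} [CommRing k] [CommRing K] [Algebra k K] [Module.Flat k K] (τ : Type) :
    (map (σ := τ) (algebraMap k K)).Flat := by
  letI := MvPolynomial.algebraMvPolynomial (σ := τ) (R := k) (S := K)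
  show Module.Flat (MvPolynomial τ k) (MvPolynomial τ K)
  exact Module.Flat.isBaseChange k (MvPolynomial τ k) K _
    (Algebra.IsPushout.out (R := k) (S := MvPolynomial τ k) (R' := K) (S' := MvPolynomial τ K))

/-- A quotient as an opaque ring. -/
theorem exists_quotient {A : Type u} [CommRing A] {τ : Type} (H : Ideal (MvPolynomial τ A)) :
    ∃ (S : Type u) (_ : CommRing S) (_ : Algebra A S) (a : MvPolynomial τ A →ₐ[A] S),
      Function.Surjective a ∧ RingHom.ker a.toRingHom = H :=
  ⟨MvPolynomial τ A ⧸ H, inferInstance, inferInstance, Ideal.Quotient.mkₐ A H, Ideal.Quotient.mk_surjective,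
    Ideal.mk_ker⟩

section Flatten

variable {σ τ : Type} {A : Type u} [CommRing A] {S : Type u} [CommRing S] [Algebra A S]

/-- `A[σ ⊕ τ] → S[σ]`. -/
noncomputable def flatten (a : MvPolynomial τ A →ₐ[A] S) : MvPolynomial (σ ⊕ τ) A →ₐ[A] MvPolynomial σ S :=
  (MvPolynomial.mapAlgHom a).comp (sumAlgEquiv A σ τ).toAlgHom

lemma flatten_surjective {a : MvPolynomial τ A →ₐ[A] S} (ha : Function.Surjective a) :
    Function.Surjective (flatten (σ := σ) a) :=
  (MvPolynomial.map_surjective _ ha).comp (sumAlgEquiv A σ τ).surjective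

lemma ker_flatten (a : MvPolynomial τ A →ₐ[A] S) :
    RingHom.ker (flatten (σ := σ) a).toRingHom =
      (RingHom.ker a.toRingHom).map (rename (Sum.inr : τ → σ ⊕ τ)).toRingHom := by
  refine le_antisymm (fun x hx => ?_) (Ideal.map_le_iff_le_comap.mpr fun h hh => ?_)
  · have hx' : sumAlgEquiv A σ τ x ∈
        (RingHom.ker a.toRingHom).map (C : MvPolynomial τ A →+* MvPolynomial σ (MvPolynomial τ A)) := by
      rw [← MvPolynomial.ker_map]
      exact hx
    have h2 := Ideal.mem_map_of_mem (sumAlgEquiv A σ τ).symm.toAlgHom.toRingHom hx'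
    rw [Ideal.map_map] at h2
    have : (sumAlgEquiv A σ τ).symm.toAlgHom.toRingHom.comp (C : MvPolynomial τ A →+* MvPolynomial σ (MvPolynomial τ A)) =
        (rename (Sum.inr : τ → σ ⊕ τ)).toRingHom := by
      refine MvPolynomial.ringHom_ext (fun r => ?_) (fun i => ?_)
      · simp
      · simp
    rw [this] at h2
    simpa using h2
  · rw [Ideal.mem_comap, RingHom.mem_ker]
    show map a.toRingHom (sumAlgEquiv A σ τ (rename Sum.inr h)) = 0
    have h1 : sumAlgEquiv A σ τ (rename Sum.inr h) = C h :=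
      AlgHom.congr_fun (sumAlgEquiv_comp_rename_inr A σ τ) h
    rw [h1, map_C, RingHom.mem_ker.mp hh, C_0]

lemma flatten_natural {B T : Type u} [CommRing B] [CommRing T] [Algebra B T] (φ : A →+* B)
    (a : MvPolynomial τ A →ₐ[A] S) (b : MvPolynomial τ B →ₐ[B] T) (g : S →+* T)
    (h : ∀ x, g (a x) = b (map φ x)) (x : MvPolynomial (σ ⊕ τ) A) :
    map g (flatten (σ := σ) a x) = flatten (σ := σ) b (map φ x) := by
  suffices (map g).comp (flatten (σ := σ) a).toRingHom = (flatten (σ := σ) b).toRingHom.comp (map φ) from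
    RingHom.congr_fun this x
  have hg : ∀ r, g (algebraMap A S r) = algebraMap B T (φ r) := fun r => by
    rw [← a.commutes, h, MvPolynomial.algebraMap_eq, map_C, ← MvPolynomial.algebraMap_eq, b.commutes]
  refine MvPolynomial.ringHom_ext (fun r => ?_) (fun i => ?_)
  · simp [flatten, hg]
  · rcases i with i | i <;> simp [flatten, h]

end Flatten

/-- The fibre map of a quotient of a polynomial ring. -/
theorem fibreMap_spec {B S T : Type u} [CommRing B] [CommRing S] [CommRing T] [Algebra B S] {τ : Type}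
    (p : Ideal B) [p.IsPrime] (a : MvPolynomial τ B →ₐ[B] S) (ha : Function.Surjective a)
    (b : MvPolynomial τ p.ResidueField →+* T) (hb : Function.Surjective b)
    (hker : (RingHom.ker a.toRingHom).map (map (algebraMap B p.ResidueField)) = RingHom.ker b)
    (π : S →+* T) (hπ : ∀ x, π (a x) = b (map (algebraMap B p.ResidueField) x)) :
    (∀ s, π s = 0 → ∃ r : B, r ∉ p ∧ r • s ∈ p.map (algebraMap B S)) ∧
      ∀ t : T, ∃ r : B, r ∉ p ∧ ∃ s, π s = π (algebraMap B S r) * t := by
  have hpoly : ∀ c : MvPolynomial τ p.ResidueField, ∃ r : B, r ∉ p ∧ ∃ c' : MvPolynomial τ B,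
      map (algebraMap B p.ResidueField) c' = C (algebraMap B p.ResidueField r) * c := by
    refine exists_num_poly (R := B) (S := B) (algebraMap B p.ResidueField) p fun t => ?_
    obtain ⟨c, d, hd, rfl⟩ := IsFractionRing.div_surjective (A := B ⧸ p) t
    obtain ⟨c, rfl⟩ := Ideal.Quotient.mk_surjective c
    obtain ⟨d, rfl⟩ := Ideal.Quotient.mk_surjective d
    refine ⟨d, fun h => nonZeroDivisors.ne_zero hd (Ideal.Quotient.eq_zero_iff_mem.mpr h), c, ?_⟩
    show algebraMap B p.ResidueField c = algebraMap B p.ResidueField d * _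
    rw [IsScalarTower.algebraMap_apply B (B ⧸ p) p.ResidueField c,
      IsScalarTower.algebraMap_apply B (B ⧸ p) p.ResidueField d, Ideal.Quotient.algebraMap_eq, mul_comm, div_mul_cancel₀]
    exact (map_ne_zero_iff _ (IsFractionRing.injective (B ⧸ p) p.ResidueField)).mpr (nonZeroDivisors.ne_zero hd)
  have haC : ∀ r, a (C r) = algebraMap B S r := fun r => a.commutes r
  constructor
  · intro s hs
    obtain ⟨s, rfl⟩ := ha s
    rw [hπ, ← RingHom.mem_ker, ← hker] at hs
    have key : ∀ v ∈ (RingHom.ker a.toRingHom).map (map (algebraMap B p.ResidueField)),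
        ∃ r : B, r ∉ p ∧ ∃ v', a v' = 0 ∧ map (algebraMap B p.ResidueField) v' = C (algebraMap B p.ResidueField r) * v := by
      intro v hv
      induction hv using Submodule.span_induction with
      | mem v hv =>
        obtain ⟨h, hh, rfl⟩ := hv
        exact ⟨1, fun h => (‹p.IsPrime›).ne_top ((Ideal.eq_top_iff_one _).mpr h), h, hh, by simp⟩
      | zero => exact ⟨1, fun h => (‹p.IsPrime›).ne_top ((Ideal.eq_top_iff_one _).mpr h), 0, map_zero _, by simp⟩
      | add c d _ _ ha hb =>
        obtain ⟨r, hr, a', haK, ha'⟩ := ha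
        obtain ⟨r', hr', b', hbK, hb'⟩ := hb
        refine ⟨r * r', fun h => ((‹p.IsPrime›).mem_or_mem h).elim hr hr', C r' * a' + C r * b',
          by rw [map_add, map_mul, map_mul, haK, hbK, mul_zero, mul_zero, add_zero], ?_⟩
        rw [map_add, map_mul, map_mul, map_C, map_C, ha', hb', map_mul, map_mul]
        ring
      | smul c v _ ha =>
        obtain ⟨r, hr, a', haK, ha'⟩ := ha
        obtain ⟨r', hr', c', hc'⟩ := hpoly c
        refine ⟨r' * r, fun h => ((‹p.IsPrime›).mem_or_mem h).elim hr' hr, c' * a', by rw [map_mul, haK, mul_zero], ?_⟩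
        rw [map_mul, hc', ha', smul_eq_mul, map_mul, map_mul]
        ring
    obtain ⟨r, hr, v, hv, hvs⟩ := key _ hs
    refine ⟨r, hr, ?_⟩
    have hmem : C r * s - v ∈ p.map (C : B →+* MvPolynomial τ B) := by
      rw [mem_map_C_iff]
      intro d
      rw [← Ideal.algebraMap_residueField_eq_zero, ← coeff_map, map_sub, map_mul, map_C, hvs, sub_self, coeff_zero]
    have h2 := Ideal.mem_map_of_mem a.toRingHom hmem
    rw [Ideal.map_map, show a.toRingHom.comp C = algebraMap B S from RingHom.ext haC] at h2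
    rw [Algebra.smul_def, ← haC, ← map_mul, ← sub_zero (a (C r * s)), ← hv, ← map_sub]
    exact h2
  · intro t
    obtain ⟨t, rfl⟩ := hb t
    obtain ⟨r, hr, c, hc⟩ := hpoly t
    refine ⟨r, hr, a c, ?_⟩
    rw [← haC, hπ, hπ, map_C, hc, map_mul]

variable {R : Type u} [CommRing R] {σ τ κ : Type} [Finite σ] [Finite τ] [Finite κ] {S : Type u} [CommRing S]
  [Algebra R S]

/-- A Noetherian model of a finitely presented algebra and module, flat over the base at a given prime. -/
theorem exists_model (π₀ : MvPolynomial τ R →ₐ[R] S) (hπ₀ : Function.Surjective π₀)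
    (hH : (RingHom.ker π₀.toRingHom).FG) (N : Submodule (MvPolynomial σ S) (κ → MvPolynomial σ S)) (hN : N.FG)
    (q : Ideal (MvPolynomial σ S)) [q.IsPrime] (hM : FlatCA.FlatAt R q ((κ → MvPolynomial σ S) ⧸ N)) :
    ∃ (A : Type u) (_ : CommRing A) (_ : IsNoetherianRing A) (ψ : A →+* R) (S₁ : Type u) (_ : CommRing S₁)
      (_ : Algebra A S₁) (a : MvPolynomial τ A →ₐ[A] S₁) (ψS : S₁ →+* S)
      (N₁ : Submodule (MvPolynomial σ S₁) (κ → MvPolynomial σ S₁)),
      Function.Surjective a ∧ (∀ x, ψS (a x) = π₀ (map ψ x)) ∧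
        (RingHom.ker a.toRingHom).map (map ψ) = RingHom.ker π₀.toRingHom ∧ baseN ψS N₁ = N ∧
          FlatCA.FlatAt A (q.comap (map ψS)) ((κ → MvPolynomial σ S₁) ⧸ N₁) := by
  classical
  haveI := Fintype.ofFinite κ
  -- generators and their coefficients
  obtain ⟨GH, hGH⟩ := hH
  obtain ⟨GN, hGN⟩ := hN
  choose L hL using fun g : κ → MvPolynomial σ S =>
    (show ∃ g₀ : κ → MvPolynomial (σ ⊕ τ) R, (fun i => flatten π₀ (g₀ i)) = g from by
      choose g₀ hg₀ using fun i => flatten_surjective (σ := σ) hπ₀ (g i)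
      exact ⟨g₀, funext hg₀⟩)
  let C₀ : Finset R := GH.biUnion (fun h => h.coeffs) ∪ GN.biUnion fun g => Finset.univ.biUnion fun i => (L g i).coeffs
  let A₀ := Algebra.adjoin ℤ (C₀ : Set R)
  have hC₀ : ∀ a ∈ C₀, a ∈ Set.range A₀.val.toRingHom := fun a ha => ⟨⟨a, Algebra.subset_adjoin ha⟩, rfl⟩
  haveI : Algebra.FiniteType ℤ A₀ := ⟨A₀.fg_top.mpr (Subalgebra.fg_adjoin_finset _)⟩
  haveI : IsNoetherianRing A₀ := Algebra.FiniteType.isNoetherianRing ℤ A₀
  have hH₀ : ∀ h : GH, ∃ h', map A₀.val.toRingHom h' = (h : MvPolynomial τ R) := fun h =>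
    mem_range_map_iff_coeffs_subset.mpr fun a ha => hC₀ a (Finset.mem_union_left _ (Finset.mem_biUnion.mpr ⟨h, h.2, ha⟩))
  choose h₀ hh₀ using hH₀
  have hN₀ : ∀ g : GN, ∃ g', mapF A₀.val.toRingHom g' = L g := fun g => by
    have : ∀ i, ∃ gi, map A₀.val.toRingHom gi = L g i := fun i => mem_range_map_iff_coeffs_subset.mpr fun a ha =>
      hC₀ a (Finset.mem_union_right _ (Finset.mem_biUnion.mpr ⟨g, g.2, Finset.mem_biUnion.mpr ⟨i, Finset.mem_univ _, ha⟩⟩))
    choose g' hg' using this
    exact ⟨g', funext hg'⟩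
  choose g₀ hg₀ using hN₀
  let H₀ : Ideal (MvPolynomial τ A₀) := Ideal.span (Set.range h₀)
  have hH₀H : H₀.map (map A₀.val.toRingHom) = RingHom.ker π₀.toRingHom := by
    rw [Ideal.map_span, ← Set.range_comp, ← hGH]
    congr 1
    ext x
    exact ⟨fun ⟨h, hx⟩ => by rw [← hx, Function.comp_apply, hh₀]; exact h.2, fun hx => ⟨⟨x, hx⟩, hh₀ _⟩⟩
  let K₀ : Ideal (MvPolynomial (σ ⊕ τ) A₀) := H₀.map (rename (Sum.inr : τ → σ ⊕ τ)).toRingHom
  let N₀ : Submodule (MvPolynomial (σ ⊕ τ) A₀) (κ → MvPolynomial (σ ⊕ τ) A₀) :=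
    Submodule.span _ (Set.range g₀) ⊔ K₀ • ⊤
  let P := κ → MvPolynomial (σ ⊕ τ) R
  let fR : P →ₗ[R] κ → MvPolynomial σ S := (flatten (σ := σ) π₀).toLinearMap.compLeft κ
  have hfR : ∀ (c : MvPolynomial (σ ⊕ τ) R) (x : P), fR (c • x) = flatten π₀ c • fR x := fun c x =>
    funext fun i => map_mul (flatten π₀) c (x i)
  have hK₀ : ∀ c ∈ K₀, flatten (σ := σ) π₀ (map A₀.val.toRingHom c) = 0 := by
    intro c hc
    have h2 := Ideal.mem_map_of_mem (map A₀.val.toRingHom) hc
    rw [Ideal.map_map, show (map A₀.val.toRingHom).comp (rename (Sum.inr : τ → σ ⊕ τ)).toRingHom =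
      (rename (Sum.inr : τ → σ ⊕ τ)).toRingHom.comp (map A₀.val.toRingHom) from RingHom.ext fun z => map_rename _ _ z,
      ← Ideal.map_map, hH₀H, ← ker_flatten] at h2
    exact h2
  -- the preimage of `N`
  have hmemN : ∀ x : P, x ∈ baseN A₀.val.toRingHom N₀ ↔ fR x ∈ N := by
    have hker : ∀ z : P, fR z = 0 → z ∈ baseN A₀.val.toRingHom N₀ := by
      intro z hz
      have hz' : ∀ i, z i ∈ RingHom.ker (flatten (σ := σ) π₀).toRingHom := fun i => congrFun hz i
      have : z = ∑ i, z i • Pi.single i (1 : MvPolynomial (σ ⊕ τ) R) := by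
        funext j; simp [Finset.sum_apply, Pi.single_apply]
      rw [this]
      refine sum_mem fun i _ => ?_
      have hi := hz' i
      rw [ker_flatten, ← hH₀H, Ideal.map_map] at hi
      generalize z i = c₀ at hi ⊢
      induction hi using Submodule.span_induction with
      | mem c hc =>
        obtain ⟨h, hh, rfl⟩ := hc
        have he : (((rename (Sum.inr : τ → σ ⊕ τ)).toRingHom.comp (map A₀.val.toRingHom)) h) •
            (Pi.single i 1 : P) = mapF A₀.val.toRingHom
              ((rename (Sum.inr : τ → σ ⊕ τ) h) • (Pi.single i 1 : κ → MvPolynomial (σ ⊕ τ) A₀)) := by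
          funext j
          by_cases hj : j = i
          · subst hj; simp [map_rename]
          · simp [Pi.single_eq_of_ne hj]
        rw [he]
        exact mapF_mem_baseN (Submodule.mem_sup_right (Submodule.smul_mem_smul (Ideal.mem_map_of_mem _ hh) trivial))
      | zero => rw [zero_smul]; exact zero_mem _
      | add a b _ _ ha hb => rw [add_smul]; exact add_mem ha hb
      | smul c a _ ha => rw [smul_assoc]; exact Submodule.smul_mem _ _ ha
    have hle : ∀ x : P, x ∈ baseN A₀.val.toRingHom N₀ → fR x ∈ N := by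
      intro x hx
      induction hx using Submodule.span_induction with
      | mem x hx =>
        obtain ⟨y, hy, rfl⟩ := hx
        obtain ⟨a, ha, b, hb, rfl⟩ := Submodule.mem_sup.mp hy
        rw [map_add, map_add]
        refine N.add_mem ?_ ?_
        · clear hy
          induction ha using Submodule.span_induction with
          | mem a ha =>
            obtain ⟨g, rfl⟩ := ha
            rw [hg₀, ← hGN, show fR (L g) = (g : κ → _) from hL g]
            exact Submodule.subset_span g.2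
          | zero => rw [map_zero, map_zero]; exact zero_mem _
          | add u v _ _ hu hv => rw [map_add, map_add]; exact add_mem hu hv
          | smul c a _ ha => rw [mapF_smul, hfR]; exact N.smul_mem _ ha
        · have : fR (mapF A₀.val.toRingHom b) = 0 := by
            clear hy
            induction hb using Submodule.smul_induction_on' with
            | smul c hc y _ => rw [mapF_smul, hfR, hK₀ c hc, zero_smul]
            | add u _ v _ hu hv => rw [map_add, map_add, hu, hv, add_zero]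
          rw [this]; exact zero_mem _
      | zero => rw [map_zero]; exact zero_mem _
      | add a b _ _ ha hb => rw [map_add]; exact add_mem ha hb
      | smul c a _ ha => rw [hfR]; exact N.smul_mem _ ha
    intro x
    refine ⟨hle x, fun hx => ?_⟩
    have : ∃ y ∈ baseN A₀.val.toRingHom N₀, fR y = fR x := by
      rw [← hGN] at hx
      generalize fR x = v at hx ⊢
      induction hx using Submodule.span_induction with
      | mem v hv =>
        exact ⟨L v, by rw [← show mapF A₀.val.toRingHom (g₀ ⟨v, hv⟩) = L v from hg₀ _]; exact mapF_mem_baseN (Submodule.mem_sup_left (Submodule.subset_span ⟨_, rfl⟩)), hL v⟩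
      | zero => exact ⟨0, zero_mem _, map_zero _⟩
      | add a b _ _ ha hb =>
        obtain ⟨u, hu, rfl⟩ := ha; obtain ⟨v, hv, rfl⟩ := hb
        exact ⟨u + v, add_mem hu hv, map_add _ _ _⟩
      | smul c a _ ha =>
        obtain ⟨u, hu, rfl⟩ := ha
        obtain ⟨c, rfl⟩ := flatten_surjective hπ₀ c
        exact ⟨c • u, Submodule.smul_mem _ _ hu, hfR c u⟩
    obtain ⟨y, hy, hyx⟩ := this
    have := add_mem hy (hker (x - y) (by rw [map_sub, hyx, sub_self]))
    rwa [add_sub_cancel] at this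
  -- descent of flatness over the base
  have hM₀ := (flatAt_iff_of_surjective (flatten π₀) (flatten_surjective hπ₀) _ N hmemN q).mpr hM
  obtain ⟨T₀, hT₀⟩ := exists_finset_flatAt A₀.val.toRingHom _ hM₀
  let A₁ := Algebra.adjoin ℤ ((C₀ ∪ T₀ : Finset R) : Set R)
  have hle : A₀ ≤ A₁ := Algebra.adjoin_mono fun x hx => Finset.mem_union_left T₀ hx
  haveI : Algebra.FiniteType ℤ A₁ := ⟨A₁.fg_top.mpr (Subalgebra.fg_adjoin_finset _)⟩
  haveI : IsNoetherianRing A₁ := Algebra.FiniteType.isNoetherianRing ℤ A₁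
  let ι := (Subalgebra.inclusion hle).toRingHom
  let ψ := A₁.val.toRingHom
  have hψι : ψ.comp ι = A₀.val.toRingHom := rfl
  have hflat₁ := hT₀ A₁ ι ψ Subtype.val_injective hψι fun a ha => ⟨⟨a, Algebra.subset_adjoin (by
    rw [Finset.coe_union]; exact Or.inr ha)⟩, rfl⟩
  obtain ⟨S₁, _, _, a, ha, hkera⟩ := exists_quotient (H₀.map (map ι))
  have hH₁H : (RingHom.ker a.toRingHom).map (map ψ) = RingHom.ker π₀.toRingHom := by
    rw [hkera, ← hH₀H, Ideal.map_map]
    congr 1
    ext x <;> simp [ι, ψ]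
  have hlift : RingHom.ker a.toRingHom ≤ RingHom.ker (π₀.toRingHom.comp (map ψ)) := fun x hx => by
    rw [RingHom.mem_ker, RingHom.comp_apply, ← RingHom.mem_ker, ← hH₁H]
    exact Ideal.mem_map_of_mem _ hx
  let ψS : S₁ →+* S := RingHom.liftOfSurjective a.toRingHom ha ⟨π₀.toRingHom.comp (map ψ), hlift⟩
  have hψS : ∀ x, ψS (a x) = π₀ (map ψ x) :=
    RingHom.liftOfRightInverse_comp_apply a.toRingHom _ _ ⟨π₀.toRingHom.comp (map ψ), hlift⟩
  let f₁ : (κ → MvPolynomial (σ ⊕ τ) A₁) →ₗ[A₁] κ → MvPolynomial σ S₁ := (flatten (σ := σ) a).toLinearMap.compLeft κ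
  let N₁ : Submodule (MvPolynomial σ S₁) (κ → MvPolynomial σ S₁) := Submodule.span _ (f₁ '' (baseN ι N₀ : Set _))
  have hN₁ : baseN ψS N₁ = N := by
    have hcomm : ∀ z, mapF ψS (f₁ z) = fR (mapF ψ z) := fun z => funext fun i => flatten_natural ψ a π₀ ψS hψS (z i)
    refine le_antisymm (Submodule.span_le.mpr ?_) ?_
    · rintro _ ⟨y, hy, rfl⟩
      induction hy using Submodule.span_induction with
      | mem y hy =>
        obtain ⟨z, hz, rfl⟩ := hy
        rw [SetLike.mem_coe, hcomm, ← hmemN, ← hψι, ← baseN_baseN]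
        exact mapF_mem_baseN hz
      | zero => rw [map_zero]; exact zero_mem _
      | add a b _ _ ha hb => rw [map_add]; exact add_mem ha hb
      | smul c a _ ha => rw [mapF_smul]; exact N.smul_mem _ ha
    · rw [← hGN, Submodule.span_le]
      intro g hg
      have : mapF ψS (f₁ (mapF ι (g₀ ⟨g, hg⟩))) = g := by
        rw [hcomm, mapF_mapF, hψι, hg₀]
        exact hL g
      rw [← this]
      exact mapF_mem_baseN (Submodule.subset_span ⟨_, mapF_mem_baseN (Submodule.mem_sup_left (Submodule.subset_span ⟨_, rfl⟩)), rfl⟩)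
  have hmem₁ : ∀ x, x ∈ baseN ι N₀ ↔ f₁ x ∈ N₁ := by
    have hf₁ : ∀ (c : MvPolynomial (σ ⊕ τ) A₁) x, f₁ (c • x) = flatten a c • f₁ x := fun c x =>
      funext fun i => map_mul (flatten a) c (x i)
    intro x
    refine ⟨fun hx => Submodule.subset_span ⟨x, hx, rfl⟩, fun hx => ?_⟩
    have : ∃ y ∈ baseN ι N₀, f₁ y = f₁ x := by
      generalize f₁ x = v at hx ⊢
      induction hx using Submodule.span_induction with
      | mem v hv => exact hv
      | zero => exact ⟨0, zero_mem _, map_zero _⟩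
      | add c d _ _ hc hd =>
        obtain ⟨u, hu, rfl⟩ := hc; obtain ⟨v, hv, rfl⟩ := hd
        exact ⟨u + v, add_mem hu hv, map_add _ _ _⟩
      | smul c d _ hd =>
        obtain ⟨u, hu, rfl⟩ := hd
        obtain ⟨c, rfl⟩ := flatten_surjective ha c
        exact ⟨c • u, Submodule.smul_mem _ _ hu, hf₁ c u⟩
    obtain ⟨y, hy, hyx⟩ := this
    suffices x - y ∈ baseN ι N₀ by
      have := add_mem hy this
      rwa [add_sub_cancel] at this
    have hz : ∀ i, (x - y) i ∈ RingHom.ker (flatten (σ := σ) a).toRingHom := fun i => by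
      have := congrFun (show f₁ (x - y) = 0 by rw [map_sub, hyx, sub_self]) i
      exact this
    have : x - y = ∑ i, (x - y) i • Pi.single i (1 : MvPolynomial (σ ⊕ τ) A₁) := by
      funext j; simp [Finset.sum_apply, Pi.single_apply]
    rw [this]
    refine sum_mem fun i _ => ?_
    have hi := hz i
    rw [ker_flatten, hkera, Ideal.map_map] at hi
    generalize (x - y) i = c₀ at hi ⊢
    induction hi using Submodule.span_induction with
    | mem c hc =>
      obtain ⟨h, hh, rfl⟩ := hc
      have he : (((rename (Sum.inr : τ → σ ⊕ τ)).toRingHom.comp (map ι)) h) •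
          (Pi.single i 1 : κ → MvPolynomial (σ ⊕ τ) A₁) = mapF ι
            ((rename (Sum.inr : τ → σ ⊕ τ) h) • (Pi.single i 1 : κ → MvPolynomial (σ ⊕ τ) A₀)) := by
        funext j
        by_cases hj : j = i
        · subst hj; simp [map_rename]
        · simp [Pi.single_eq_of_ne hj]
      rw [he]
      exact mapF_mem_baseN (Submodule.mem_sup_right (Submodule.smul_mem_smul (Ideal.mem_map_of_mem _ hh) trivial))
    | zero => rw [zero_smul]; exact zero_mem _
    | add a b _ _ ha hb => rw [add_smul]; exact add_mem ha hb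
    | smul c a _ ha => rw [smul_assoc]; exact Submodule.smul_mem _ _ ha
  refine ⟨A₁, inferInstance, inferInstance, ψ, S₁, _, _, a, ψS, N₁, ha, hψS, hH₁H, hN₁, ?_⟩
  have hcomap : (q.comap (flatten (σ := σ) π₀).toRingHom).comap (map ψ) =
      (q.comap (map ψS)).comap (flatten (σ := σ) a).toRingHom := by
    ext x
    simp only [Ideal.mem_comap, AlgHom.toRingHom_eq_coe, RingHom.coe_coe]
    rw [flatten_natural ψ a π₀ ψS hψS]
  rw [← flatAt_iff_of_surjective (flatten a) (flatten_surjective ha) _ N₁ hmem₁]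
  simp only [← hcomap]
  exact hflat₁

/-- The extension of a prime to the fibre. -/
theorem map_fibre_isPrime {T : Type u} [CommRing T] (π : S →+* T) (p : Ideal R) [p.IsPrime]
    (hker : ∀ s, π s = 0 → ∃ r : R, r ∉ p ∧ r • s ∈ p.map (algebraMap R S))
    (hsurj : ∀ t : T, ∃ r : R, r ∉ p ∧ ∃ s, π s = π (algebraMap R S r) * t)
    (hunit : ∀ r : R, r ∉ p → IsUnit (π (algebraMap R S r)))
    (q : Ideal (MvPolynomial σ S)) [q.IsPrime] (hp : p = q.comap (algebraMap R (MvPolynomial σ S))) :
    (q.map (map π)).IsPrime ∧ (q.map (map π)).comap (map π) = q := by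
  let Q := q.map (map π)
  have hqS : ∀ r : R, r ∉ p → (C (algebraMap R S r) : MvPolynomial σ S) ∉ q := fun r hr h => hr (by
    rw [hp, Ideal.mem_comap, IsScalarTower.algebraMap_apply R S]
    exact h)
  have hnum : ∀ v ∈ Q, ∃ r : R, r ∉ p ∧ ∃ u ∈ q, map π u = C (π (algebraMap R S r)) * v := by
    intro v hv
    induction hv using Submodule.span_induction with
    | mem v hv =>
      obtain ⟨u, hu, rfl⟩ := hv
      exact ⟨1, fun h => (‹p.IsPrime›).ne_top ((Ideal.eq_top_iff_one _).mpr h), u, hu, by simp⟩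
    | zero => exact ⟨1, fun h => (‹p.IsPrime›).ne_top ((Ideal.eq_top_iff_one _).mpr h), 0, q.zero_mem, by simp⟩
    | add a b _ _ ha hb =>
      obtain ⟨r, hr, a', haK, ha'⟩ := ha
      obtain ⟨r', hr', b', hbK, hb'⟩ := hb
      refine ⟨r * r', fun h => ((‹p.IsPrime›).mem_or_mem h).elim hr hr', C (algebraMap R S r') * a' + C (algebraMap R S r) * b',
        q.add_mem (q.mul_mem_left _ haK) (q.mul_mem_left _ hbK), ?_⟩
      rw [map_add, map_mul, map_mul, map_C, map_C, ha', hb', map_mul, map_mul, map_mul]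
      ring
    | smul c a _ ha =>
      obtain ⟨r, hr, a', haK, ha'⟩ := ha
      obtain ⟨r', hr', c', hc'⟩ := exists_num_poly π p hsurj c
      refine ⟨r' * r, fun h => ((‹p.IsPrime›).mem_or_mem h).elim hr' hr, c' * a', q.mul_mem_left _ haK, ?_⟩
      rw [map_mul, hc', ha', smul_eq_mul, map_mul, map_mul, map_mul]
      ring
  have hQq : Q.comap (map π) = q := by
    refine le_antisymm (fun u hu => ?_) Ideal.le_comap_map
    obtain ⟨r, hr, u', hu', he⟩ := hnum _ hu
    have hz : mapF (κ := Unit) π (fun _ => C (algebraMap R S r) * u - u') = 0 := funext fun _ => by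
      rw [mapF_apply, map_sub, map_mul, map_C, he, sub_self]; rfl
    obtain ⟨r', hr', hmem⟩ := exists_smul_mem_of_mapF_eq_zero π p hker hz
    rw [IsScalarTower.algebraMap_eq R S (MvPolynomial σ S), ← Ideal.map_map, mem_smul_top_iff_coeff] at hmem
    have h1 : C (algebraMap R S r') * (C (algebraMap R S r) * u - u') ∈
        (p.map (algebraMap R S)).map (algebraMap S (MvPolynomial σ S)) :=
      mem_map_C_iff.mpr fun d => hmem () d
    have hpq : (p.map (algebraMap R S)).map (algebraMap S (MvPolynomial σ S)) ≤ q := by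
      rw [Ideal.map_map, Ideal.map_le_iff_le_comap, ← IsScalarTower.algebraMap_eq, hp]
    have h2 := (Ideal.IsPrime.mem_or_mem inferInstance (hpq h1)).resolve_left (hqS r' hr')
    have h3 : C (algebraMap R S r) * u ∈ q := by simpa using q.add_mem h2 hu'
    exact (Ideal.IsPrime.mem_or_mem inferInstance h3).resolve_left (hqS r hr)
  refine ⟨⟨fun h => (‹q.IsPrime›).ne_top (by rw [← hQq]; show Ideal.comap _ (q.map (map π)) = ⊤; rw [h, Ideal.comap_top]),
    fun {a b} hab => ?_⟩, hQq⟩
  obtain ⟨r, hr, a', ha'⟩ := exists_num_poly π p hsurj a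
  obtain ⟨r', hr', b', hb'⟩ := exists_num_poly π p hsurj b
  have : a' * b' ∈ q := by
    rw [← hQq, Ideal.mem_comap, map_mul, ha', hb', mul_mul_mul_comm]
    exact Q.mul_mem_left _ hab
  rcases (Ideal.IsPrime.mem_or_mem inferInstance this) with h | h
  · left
    have := Ideal.mem_map_of_mem (map π) h
    rw [ha'] at this
    exact (Q.unit_mul_mem_iff_mem ((hunit r hr).map C)).mp this
  · right
    have := Ideal.mem_map_of_mem (map π) h
    rw [hb'] at this
    exact (Q.unit_mul_mem_iff_mem ((hunit r' hr').map C)).mp this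

/-- **EGA IV 11.3.10**: fibrewise criterion over an arbitrary base. -/
theorem flatAt_of_fibre_general [Algebra.FinitePresentation R S]
    (N : Submodule (MvPolynomial σ S) (κ → MvPolynomial σ S)) (hN : N.FG)
    (q : Ideal (MvPolynomial σ S)) [q.IsPrime] (p : Ideal R)
    (hp : p = q.comap (algebraMap R (MvPolynomial σ S)))
    (hM : FlatCA.FlatAt R q ((κ → MvPolynomial σ S) ⧸ N))
    (Qb : Ideal (MvPolynomial σ (S ⧸ p.map (algebraMap R S)))) [Qb.IsPrime]
    (hQb : Qb.comap (map (Ideal.Quotient.mk _)) = q)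
    (hfib : FlatCA.FlatAt (S ⧸ p.map (algebraMap R S)) Qb
      ((κ → MvPolynomial σ (S ⧸ p.map (algebraMap R S))) ⧸ baseN (Ideal.Quotient.mk _) N)) :
    FlatCA.FlatAt S q ((κ → MvPolynomial σ S) ⧸ N) := by
  haveI : p.IsPrime := by rw [hp]; infer_instance
  obtain ⟨n, π₀, hπ₀, hH⟩ := Algebra.FinitePresentation.out (R := R) (A := S)
  obtain ⟨A, _, _, ψ, S₁, _, _, a, ψS, N₁, ha, hψS, hker₀, hN₁, hM₁⟩ :=
    exists_model π₀ hπ₀ hH N hN q hM
  haveI : Algebra.FiniteType A S₁ := Algebra.FiniteType.of_surjective a ha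
  haveI : IsNoetherianRing S₁ := Algebra.FiniteType.isNoetherianRing A S₁
  let p₁ := p.comap ψ
  let ρ : p₁.ResidueField →+* p.ResidueField := Ideal.ResidueField.map p₁ p ψ rfl
  letI := ρ.toAlgebra
  let ρR : MvPolynomial (Fin n) R →+* MvPolynomial (Fin n) p.ResidueField := map (algebraMap R p.ResidueField)
  let ρ₁ : MvPolynomial (Fin n) A →+* MvPolynomial (Fin n) p₁.ResidueField := map (algebraMap A p₁.ResidueField)
  let ρk : MvPolynomial (Fin n) p₁.ResidueField →+* MvPolynomial (Fin n) p.ResidueField :=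
    map (algebraMap p₁.ResidueField p.ResidueField)
  obtain ⟨T, _, _, b, hb, hkerb⟩ := exists_quotient ((RingHom.ker π₀.toRingHom).map ρR)
  obtain ⟨T₁, _, _, b₁, hb₁, hkerb₁⟩ := exists_quotient ((RingHom.ker a.toRingHom).map ρ₁)
  have hρ : ρk.comp ρ₁ = ρR.comp (map ψ) := by
    refine MvPolynomial.ringHom_ext (fun r => ?_) fun i => by simp [ρ₁, ρR, ρk]
    simp only [ρ₁, ρR, ρk, RingHom.comp_apply, map_C]
    rw [show algebraMap p₁.ResidueField p.ResidueField = ρ from rfl,
      show ρ (algebraMap A p₁.ResidueField r) = algebraMap R p.ResidueField (ψ r) from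
        Ideal.ResidueField.map_algebraMap _ _ _ _ _]
  have hHK : (RingHom.ker b₁.toRingHom).map ρk = RingHom.ker b.toRingHom := by
    rw [hkerb₁, hkerb, ← hker₀, Ideal.map_map, Ideal.map_map, hρ]
  have hlift : RingHom.ker π₀.toRingHom ≤ RingHom.ker (b.toRingHom.comp ρR) := fun x hx => by
    rw [RingHom.mem_ker, RingHom.comp_apply, ← RingHom.mem_ker, hkerb]
    exact Ideal.mem_map_of_mem _ hx
  let π : S →+* T := RingHom.liftOfSurjective π₀.toRingHom hπ₀ ⟨b.toRingHom.comp ρR, hlift⟩
  have hπ : ∀ x, π (π₀ x) = b (ρR x) :=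
    RingHom.liftOfRightInverse_comp_apply π₀.toRingHom _ _ ⟨b.toRingHom.comp ρR, hlift⟩
  have hlift₁ : RingHom.ker a.toRingHom ≤ RingHom.ker (b₁.toRingHom.comp ρ₁) := fun x hx => by
    rw [RingHom.mem_ker, RingHom.comp_apply, ← RingHom.mem_ker, hkerb₁]
    exact Ideal.mem_map_of_mem _ hx
  let π₁ : S₁ →+* T₁ := RingHom.liftOfSurjective a.toRingHom ha ⟨b₁.toRingHom.comp ρ₁, hlift₁⟩
  have hπ₁ : ∀ x, π₁ (a x) = b₁ (ρ₁ x) :=
    RingHom.liftOfRightInverse_comp_apply a.toRingHom _ _ ⟨b₁.toRingHom.comp ρ₁, hlift₁⟩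
  have hlift₂ : RingHom.ker b₁.toRingHom ≤ RingHom.ker (b.toRingHom.comp ρk) := fun x hx => by
    rw [RingHom.mem_ker, RingHom.comp_apply, ← RingHom.mem_ker, ← hHK]
    exact Ideal.mem_map_of_mem _ hx
  let ρT : T₁ →+* T := RingHom.liftOfSurjective b₁.toRingHom hb₁ ⟨b.toRingHom.comp ρk, hlift₂⟩
  have hρT' : ∀ x, ρT (b₁ x) = b (ρk x) :=
    RingHom.liftOfRightInverse_comp_apply b₁.toRingHom _ _ ⟨b.toRingHom.comp ρk, hlift₂⟩
  have hρT : ρT.Flat := flat_of_surjective_of_ker ρk (flat_map _) b₁.toRingHom hb₁ b.toRingHom hb hHK ρT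
    (RingHom.ext hρT')
  have hπρ : π.comp ψS = ρT.comp π₁ := by
    refine RingHom.ext fun x => ?_
    obtain ⟨x, rfl⟩ := ha x
    rw [RingHom.comp_apply, RingHom.comp_apply, hψS, hπ, hπ₁, hρT', ← RingHom.comp_apply, ← RingHom.comp_apply, hρ]
  obtain ⟨hkerπ, hsurjπ⟩ := fibreMap_spec p π₀ hπ₀ b.toRingHom hb hkerb.symm π hπ
  obtain ⟨hkerπ₁, hsurjπ₁⟩ := fibreMap_spec p₁ a ha b₁.toRingHom hb₁ hkerb₁.symm π₁ hπ₁
  have hπC : ∀ r : R, π (algebraMap R S r) = b (C (algebraMap R p.ResidueField r)) := fun r => by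
    rw [← π₀.commutes, hπ, MvPolynomial.algebraMap_eq, map_C]
  have hunit : ∀ r : R, r ∉ p → IsUnit (π (algebraMap R S r)) := fun r hr => by
    rw [hπC]
    exact ((isUnit_iff_ne_zero.mpr fun h => hr (Ideal.algebraMap_residueField_eq_zero.mp h)).map C).map b
  obtain ⟨hQp, hQq⟩ := map_fibre_isPrime π p hkerπ hsurjπ hunit q hp
  haveI := hQp
  let Q := q.map (map π)
  let J := p.map (algebraMap R S)
  have hJπ : ∀ j ∈ J, π j = 0 := fun j hj => by
    have : J ≤ RingHom.ker π := Ideal.map_le_iff_le_comap.mpr fun r hr => by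
      rw [Ideal.mem_comap, RingHom.mem_ker, hπC, Ideal.algebraMap_residueField_eq_zero.mpr hr, C_0, map_zero]
    exact this hj
  let πb := Ideal.Quotient.lift J π hJπ
  have hfibK : FlatCA.FlatAt T Q ((κ → MvPolynomial σ T) ⧸ baseN π N) := by
    have hQQ : Q.comap (map πb) = Qb := by
      refine Ideal.comap_injective_of_surjective (map (Ideal.Quotient.mk J)) (MvPolynomial.map_surjective _ Ideal.Quotient.mk_surjective) ?_
      rw [hQb, Ideal.comap_comap, show (map πb).comp (map (Ideal.Quotient.mk J)) = map π from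
        RingHom.ext fun x => by
          rw [RingHom.comp_apply, map_map]
          rfl]
      exact hQq
    have := flatAt_baseN πb (baseN (Ideal.Quotient.mk J) N) Q (by simp only [hQQ]; exact hfib)
    rwa [baseN_baseN, show πb.comp (Ideal.Quotient.mk J) = π from rfl] at this
  haveI : IsNoetherianRing T₁ := isNoetherianRing_of_surjective _ _ b₁.toRingHom hb₁
  have hfib₁ := flatAt_of_baseN ρT hρT (baseN π₁ N₁) Q (by
    rw [baseN_baseN, ← hπρ, ← baseN_baseN, hN₁]; exact hfibK)
  have hQ₁ : (Q.comap (map ρT)).comap (map π₁) = q.comap (map ψS) := by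
    conv_rhs => rw [← hQq]
    rw [Ideal.comap_comap, Ideal.comap_comap]
    congr 1
    exact RingHom.ext fun x => by rw [RingHom.comp_apply, RingHom.comp_apply, map_map, map_map, hπρ]
  have hp₁ : p₁ = (q.comap (map ψS)).comap (algebraMap A (MvPolynomial σ S₁)) := by
    ext r
    simp only [p₁, Ideal.mem_comap, hp, IsScalarTower.algebraMap_apply A S₁ (MvPolynomial σ S₁),
      IsScalarTower.algebraMap_apply R S (MvPolynomial σ S), MvPolynomial.algebraMap_eq, map_C]
    rw [← a.commutes, hψS, MvPolynomial.algebraMap_eq, map_C, show π₀ (C (ψ r)) = algebraMap R S (ψ r) from π₀.commutes _]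
  have hS₁ := flatAt_of_fibre N₁ _ p₁ hp₁ π₁ hkerπ₁ hsurjπ₁ hM₁ _ hQ₁ hfib₁
  have := flatAt_baseN ψS N₁ q hS₁
  rwa [hN₁] at this

end Groth.FlatDescent
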