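import Mathlib
import Groth.Agent.FlatDescent.Critere

/-!
# The fibrewise criterion of flatness (EGA IV 11.3.10), intrinsic form

`flat_fibre_criterion_fp`, `flat_fibre_criterion_ft`: for `R → S → C` and a `C`-module `M`, flatness of `M_Q` over
`R` and of `M_Q / p M_Q` over `S / p S` give flatness of `M_Q` over `S`; then `S` is flat over `R` below `Q` if
`M_Q ≠ 0` (`flatAt_base_of_flatAt`).
-/

universe u

open MvPolynomial
open scoped TensorProduct

namespace Groth.FlatDescent

section Bridge

variable {S P P' : Type u} [CommRing S] [CommRing P] [CommRing P'] [Algebra S P] (J : Ideal S) [Algebra (S ⧸ J) P']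
  {M L M' : Type u} [AddCommGroup M] [Module S M] [Module P M] [IsScalarTower S P M]
  [AddCommGroup L] [Module S L] [Module P L] [IsScalarTower S P L]
  [AddCommGroup M'] [Module (S ⧸ J) M'] [Module P' M'] [IsScalarTower (S ⧸ J) P' M']

/-- Flatness at a prime of a quotient module. -/
theorem flatAt_of_flat_quotient (ρ : P →+* P')
    (hρC : ∀ c, ρ (algebraMap S P c) = algebraMap (S ⧸ J) P' (Ideal.Quotient.mk J c))
    (Q : Ideal P') [Q.IsPrime] (f : M →ₗ[P] L) [IsLocalizedModule (Q.comap ρ).primeCompl f]
    (g : M →ₛₗ[ρ] M') (hg : Function.Surjective g)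
    (hker : ∀ x, g x = 0 → x ∈ J.map (algebraMap S P) • (⊤ : Submodule P M))
    (h : Module.Flat (S ⧸ J) (L ⧸ J • (⊤ : Submodule S L))) : FlatCA.FlatAt (S ⧸ J) Q M' := by
  let X := L ⧸ J • (⊤ : Submodule S L)
  let mk : L →ₗ[S] X := Submodule.mkQ _
  have hJ : ∀ x ∈ J.map (algebraMap S P) • (⊤ : Submodule P M), mk (f x) = 0 := by
    intro x hx
    rw [Submodule.mkQ_apply, Submodule.Quotient.mk_eq_zero]
    have h1 : f x ∈ J.map (algebraMap S P) • (⊤ : Submodule P L) := by
      have h2 : f x ∈ (J.map (algebraMap S P) • (⊤ : Submodule P M)).map f := Submodule.mem_map_of_mem hx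
      rw [Submodule.map_smul''] at h2
      exact Submodule.smul_mono le_rfl le_top h2
    have h3 : f x ∈ (J.map (algebraMap S P) • (⊤ : Submodule P L)).restrictScalars S := h1
    rwa [Submodule.restrictScalars_map_smul_eq, Submodule.restrictScalars_top] at h3
  choose v hv using hg
  have hd : ∀ a b, g a = g b → mk (f a) = mk (f b) := fun a b hab => by
    rw [← sub_eq_zero, ← map_sub, ← map_sub]
    exact hJ _ (hker _ (by rw [map_sub, hab, sub_self]))
  have hgS : ∀ (c : S) m, g (c • m) = Ideal.Quotient.mk J c • g m := fun c m => by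
    rw [← algebraMap_smul P c m, g.map_smulₛₗ, hρC, algebraMap_smul]
  let φ : M' →ₗ[S ⧸ J] X :=
    { toFun := fun m => mk (f (v m))
      map_add' := fun a b => by
        rw [← map_add, ← map_add]
        exact hd _ _ (by rw [map_add, hv, hv, hv])
      map_smul' := fun c m => by
        obtain ⟨c, rfl⟩ := Ideal.Quotient.mk_surjective c
        rw [RingHom.id_apply]
        refine (hd _ (c • v m) (by rw [hgS, hv, hv])).trans ?_
        rw [f.map_smul_of_tower, map_smul]
        rfl }
  let Y := LocalizedModule Q.primeCompl M'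
  let loc := LocalizedModule.mkLinearMap Q.primeCompl M'
  letI : Module P Y := Module.compHom Y ρ
  let g' : M →ₗ[P] Y :=
    { toFun := fun m => loc (g m)
      map_add' := fun a b => by rw [map_add, map_add]
      map_smul' := fun c m => by rw [g.map_smulₛₗ, map_smul]; rfl }
  have hu : ∀ s : (Q.comap ρ).primeCompl, IsUnit (algebraMap P (Module.End P Y) s) := fun s => by
    have := (Module.End.isUnit_iff _).mp (IsLocalizedModule.map_units loc (⟨ρ s, s.2⟩ : Q.primeCompl))
    exact (Module.End.isUnit_iff _).mpr this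
  let ψ₀ : L →ₗ[P] Y := IsLocalizedModule.lift (Q.comap ρ).primeCompl f g' hu
  have hψ₀ : ∀ (c : S) (l : L), ψ₀ (c • l) = Ideal.Quotient.mk J c • ψ₀ l := fun c l => by
    rw [← algebraMap_smul P c l, map_smul]
    show ρ (algebraMap S P c) • ψ₀ l = _
    rw [hρC, algebraMap_smul]
  have hψJ : ∀ l ∈ J • (⊤ : Submodule S L), ψ₀ l = 0 := by
    intro l hl
    induction hl using Submodule.smul_induction_on' with
    | smul c hc y _ => rw [hψ₀, Ideal.Quotient.eq_zero_iff_mem.mpr hc, zero_smul]
    | add a _ b _ ha hb => rw [map_add, ha, hb, add_zero]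
  choose w hw using Submodule.Quotient.mk_surjective (J • (⊤ : Submodule S L))
  have hd' : ∀ a b : L, mk a = mk b → ψ₀ a = ψ₀ b := fun a b hab => by
    rw [← sub_eq_zero, ← map_sub]
    exact hψJ _ ((Submodule.Quotient.eq _).mp hab)
  let ψ : X →ₗ[S ⧸ J] Y :=
    { toFun := fun x => ψ₀ (w x)
      map_add' := fun a b => by
        rw [← map_add]
        refine hd' _ _ ?_
        rw [map_add]
        show (Submodule.Quotient.mk _ : X) = Submodule.Quotient.mk _ + Submodule.Quotient.mk _
        rw [hw, hw, hw]
      map_smul' := fun c x => by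
        obtain ⟨c, rfl⟩ := Ideal.Quotient.mk_surjective c
        rw [RingHom.id_apply, ← hψ₀]
        refine hd' _ _ ?_
        rw [map_smul]
        show (Submodule.Quotient.mk _ : X) = c • (Submodule.Quotient.mk _ : X)
        rw [hw, hw]
        rfl }
  have hψφ : ∀ m, ψ (φ m) = loc m := fun m => by
    show ψ₀ (w (mk (f (v m)))) = _
    rw [hd' _ (f (v m)) (hw _)]
    show IsLocalizedModule.lift (Q.comap ρ).primeCompl f g' hu (f (v m)) = _
    rw [IsLocalizedModule.lift_apply]
    exact congrArg loc (hv m)
  haveI : Module.Flat (S ⧸ J) X := h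
  rw [← flatOn_primeCompl_iff]
  intro I x hx
  have h0 : φ.rTensor I x = 0 := by
    refine Module.Flat.lTensor_preserves_injective_linearMap I.subtype Subtype.val_injective ?_
    rw [map_zero]
    refine (TensorProduct.rid (S ⧸ J) X).injective ?_
    rw [map_zero]
    have hnat : ∀ x, TensorProduct.rid (S ⧸ J) X (I.subtype.lTensor X (φ.rTensor I x)) = φ (mulI P' M' I x) := by
      intro x
      induction x with
      | zero => simp
      | add a b ha hb => simp only [map_add, ha, hb]
      | tmul m i => simp
    rw [hnat, hx, map_zero]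
  have h1 : TensorProduct.AlgebraTensorModule.rTensor (S ⧸ J) I loc x = 0 := by
    have : loc.restrictScalars (S ⧸ J) = ψ.comp φ := LinearMap.ext fun m => (hψφ m).symm
    show (loc.restrictScalars (S ⧸ J)).rTensor I x = 0
    rw [this, LinearMap.rTensor_comp_apply, h0, map_zero]
  haveI : IsLocalizedModule Q.primeCompl (TensorProduct.AlgebraTensorModule.rTensor (S ⧸ J) I loc) := inferInstance
  obtain ⟨s, hs⟩ := (IsLocalizedModule.eq_zero_iff Q.primeCompl _).mp h1
  exact ⟨s, s.2, hs⟩

end Bridge

section Criterion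

variable (R : Type u) (S : Type u) {C M : Type u} [CommRing R] [CommRing S] [CommRing C] [Algebra R S] [Algebra S C]
  [Algebra R C] [IsScalarTower R S C] [AddCommGroup M] [Module R M] [Module S M] [Module C M] [IsScalarTower R C M]
  [IsScalarTower S C M]

/-- **Fibrewise criterion of flatness**, finitely presented algebras. -/
theorem flat_fibre_criterion_fp [Algebra.FinitePresentation R S] [Algebra.FinitePresentation R C]
    [Module.FinitePresentation C M] (Q : Ideal C) [Q.IsPrime] (hM : FlatCA.FlatAt R Q M)
    (hfib : Module.Flat (S ⧸ (Q.comap (algebraMap R C)).map (algebraMap R S))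
      (LocalizedModule Q.primeCompl M ⧸
        (Q.comap (algebraMap R C)).map (algebraMap R S) • (⊤ : Submodule S (LocalizedModule Q.primeCompl M)))) :
    FlatCA.FlatAt S Q M := by
  haveI : Algebra.FinitePresentation S C := Algebra.FinitePresentation.of_restrict_scalars_finitePresentation R S C
  obtain ⟨n, k, π, hπ, N, hN, f, hf, hsmul, hker⟩ := exists_presentation S C M
  let P := MvPolynomial (Fin n) S
  letI : Algebra P C := π.toRingHom.toAlgebra
  haveI : IsScalarTower S P C := IsScalarTower.of_algebraMap_eq fun r => (π.commutes r).symm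
  haveI : IsScalarTower R P C := IsScalarTower.of_algebraMap_eq fun r => by
    rw [IsScalarTower.algebraMap_apply R S C, IsScalarTower.algebraMap_apply R S P, ← IsScalarTower.algebraMap_apply S P C]
  letI : Module P M := Module.compHom M π.toRingHom
  haveI : IsScalarTower P C M := IsScalarTower.of_algebraMap_smul fun _ _ => rfl
  haveI : IsScalarTower S P M := IsScalarTower.of_algebraMap_smul fun r m => by
    rw [← algebraMap_smul C (algebraMap S P r) m, ← IsScalarTower.algebraMap_apply S P C, algebraMap_smul]
  haveI : IsScalarTower R P M := IsScalarTower.of_algebraMap_smul fun r m => by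
    rw [← algebraMap_smul C (algebraMap R P r) m, ← IsScalarTower.algebraMap_apply R P C, algebraMap_smul]
  let g : (Fin k → P) →ₗ[P] M := { f with map_smul' := hsmul }
  let e : ((Fin k → P) ⧸ N) ≃ₗ[P] M := (Submodule.quotEquivOfEq N (LinearMap.ker g) (by
    ext x; exact (hker x).symm)).trans (g.quotKerEquivOfSurjective hf)
  refine (flatAt_comap_iff (A := S) (P := P) hπ Q).mp ((flatAt_congr e (Q.comap (algebraMap P C))).mp ?_)
  let p := Q.comap (algebraMap R C)
  let q := Q.comap (algebraMap P C)
  have hp : p = q.comap (algebraMap R P) := by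
    ext r; simp [p, q, ← IsScalarTower.algebraMap_apply R P C]
  have hMq : FlatCA.FlatAt R q ((Fin k → P) ⧸ N) :=
    (flatAt_congr e q).mpr ((flatAt_comap_iff (A := R) (P := P) hπ Q).mpr hM)
  let J := p.map (algebraMap R S)
  let ρ : P →+* MvPolynomial (Fin n) (S ⧸ J) := MvPolynomial.map (Ideal.Quotient.mk J)
  have hρ : Function.Surjective ρ := MvPolynomial.map_surjective _ Ideal.Quotient.mk_surjective
  have hkerq : RingHom.ker ρ ≤ q := by
    rw [MvPolynomial.ker_map, Ideal.mk_ker, Ideal.map_le_iff_le_comap, Ideal.map_le_iff_le_comap, hp]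
    intro r hr
    rw [Ideal.mem_comap, Ideal.mem_comap, ← MvPolynomial.algebraMap_eq, ← IsScalarTower.algebraMap_apply R S P]
    exact hr
  haveI hQb : (q.map ρ).IsPrime := Ideal.map_isPrime_of_surjective hρ hkerq
  have hcomap : (q.map ρ).comap ρ = q := by
    rw [Ideal.comap_map_of_surjective ρ hρ, sup_eq_left]
    exact hkerq
  refine flatAt_of_fibre_general N hN q p hp hMq (q.map ρ) hcomap ?_
  let LQ := LocalizedModule Q.primeCompl M
  haveI : IsScalarTower P C LQ := inferInstance
  haveI : IsScalarTower S P LQ := IsScalarTower.of_algebraMap_smul fun r m => by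
    rw [← algebraMap_smul C (algebraMap S P r) m, ← IsScalarTower.algebraMap_apply S P C, algebraMap_smul]
  let floc : ((Fin k → P) ⧸ N) →ₗ[P] LQ :=
    ((LocalizedModule.mkLinearMap Q.primeCompl M).restrictScalars P).comp e.toLinearMap
  haveI hloc : IsLocalizedModule ((q.map ρ).comap ρ).primeCompl floc := by
    simp only [hcomap]
    haveI : IsLocalizedModule (Algebra.algebraMapSubmonoid C q.primeCompl) (LocalizedModule.mkLinearMap Q.primeCompl M) := by
      rw [show Algebra.algebraMapSubmonoid C q.primeCompl = Q.primeCompl from map_primeCompl_comap hπ Q]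
      infer_instance
    haveI := IsLocalizedModule.restrictScalars q.primeCompl (LocalizedModule.mkLinearMap Q.primeCompl M) (R := P)
    exact IsLocalizedModule.of_linearEquiv_right q.primeCompl _ e
  let π' : S →+* S ⧸ J := Ideal.Quotient.mk J
  let g₀ : (Fin k → P) →ₛₗ[ρ] (Fin k → MvPolynomial (Fin n) (S ⧸ J)) ⧸ baseN π' N :=
    { toFun := fun y => Submodule.Quotient.mk (mapF π' y)
      map_add' := fun a b => by rw [map_add]; rfl
      map_smul' := fun r a => by rw [mapF_smul]; rfl }
  let g₁ := Submodule.liftQ N g₀ fun v hv => (Submodule.Quotient.mk_eq_zero _).mpr (mapF_mem_baseN hv)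
  refine flatAt_of_flat_quotient J ρ (fun c => ?_) (q.map ρ) floc g₁ ?_ ?_ hfib
  · show MvPolynomial.map (Ideal.Quotient.mk J) (MvPolynomial.C c) = MvPolynomial.C (Ideal.Quotient.mk J c)
    rw [map_C]
  · intro y
    obtain ⟨y, rfl⟩ := Submodule.Quotient.mk_surjective _ y
    choose x hx using fun i => hρ (y i)
    exact ⟨Submodule.Quotient.mk x, congrArg Submodule.Quotient.mk (funext hx)⟩
  · intro x hx
    obtain ⟨x, rfl⟩ := Submodule.Quotient.mk_surjective _ x
    have hx' : mapF π' x ∈ baseN π' N := (Submodule.Quotient.mk_eq_zero _).mp hx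
    have himg : ∃ y ∈ N, mapF π' y = mapF π' x := by
      generalize mapF π' x = v at hx' ⊢
      induction hx' using Submodule.span_induction with
      | mem v hv => exact hv
      | zero => exact ⟨0, N.zero_mem, map_zero _⟩
      | add a b _ _ ha hb =>
        obtain ⟨a', ha', rfl⟩ := ha; obtain ⟨b', hb', rfl⟩ := hb
        exact ⟨a' + b', N.add_mem ha' hb', map_add _ _ _⟩
      | smul c a _ ha =>
        obtain ⟨a', ha', rfl⟩ := ha
        obtain ⟨c, rfl⟩ := hρ c
        exact ⟨c • a', N.smul_mem _ ha', mapF_smul _ _ _⟩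
    obtain ⟨y, hy, hyx⟩ := himg
    have hxy : x - y ∈ J.map (algebraMap S P) • (⊤ : Submodule P (Fin k → P)) := by
      refine (mem_smul_top_iff_coeff J _).mpr fun i d => ?_
      rw [← Ideal.Quotient.eq_zero_iff_mem, ← coeff_map, show map (Ideal.Quotient.mk J) ((x - y) i) = mapF π' (x - y) i from rfl,
        map_sub, hyx, sub_self]
      rfl
    have h2 := Submodule.mem_map_of_mem (f := N.mkQ) hxy
    rw [Submodule.map_smul'', map_sub, Submodule.mkQ_apply, Submodule.mkQ_apply, (Submodule.Quotient.mk_eq_zero N).mpr hy,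
      sub_zero] at h2
    exact Submodule.smul_mono le_rfl le_top h2

end Criterion

section Base

/-- Flatness over a ring through a surjection onto it. -/
theorem flatAt_of_surjective_base {S₀ S C M : Type u} [CommRing S₀] [CommRing S] [CommRing C] [Algebra S₀ C] [Algebra S C]
    [Algebra S₀ S] [IsScalarTower S₀ S C]
    [AddCommGroup M] [Module S₀ M] [Module S M] [Module C M] [IsScalarTower S₀ C M] [IsScalarTower S C M]
    (hsurj : Function.Surjective (algebraMap S₀ S))
    (Q : Ideal C) [Q.IsPrime] (h : FlatCA.FlatAt S₀ Q M) : FlatCA.FlatAt S Q M := by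
  haveI : Module.Flat S₀ (LocalizedModule Q.primeCompl M) := h
  haveI : IsScalarTower S₀ S (LocalizedModule Q.primeCompl M) := IsScalarTower.of_algebraMap_smul fun a x => by
    rw [← algebraMap_smul C (algebraMap S₀ S a) x, ← IsScalarTower.algebraMap_apply S₀ S C, algebraMap_smul]
  show Module.Flat S (LocalizedModule Q.primeCompl M)
  refine Module.Flat.of_forall_isTrivialRelation fun {l f x} hfx => ?_
  choose f' hf' using fun i => hsurj (f i)
  have h0 : ∑ i, f' i • x i = 0 := by
    rw [← hfx]
    exact Finset.sum_congr rfl fun i _ => by rw [← hf' i, algebraMap_smul]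
  obtain ⟨k, a, y, hy, ha⟩ := Module.Flat.isTrivialRelation_of_sum_smul_eq_zero h0
  refine ⟨k, fun i j => algebraMap S₀ S (a i j), y, fun i => ?_, fun j => ?_⟩
  · rw [hy i]
    exact Finset.sum_congr rfl fun j _ => (algebraMap_smul S _ _).symm
  · have := congrArg (algebraMap S₀ S) (ha j)
    rw [map_sum, map_zero] at this
    rw [← this]
    exact Finset.sum_congr rfl fun i _ => by rw [map_mul, hf']

/-- If a nonzero finite module is flat over `R` and over `S`, then `S` is flat over `R` there. -/
theorem flatAt_base_of_flatAt (R : Type u) {S C M : Type u} [CommRing R] [CommRing S] [CommRing C] [Algebra R S]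
    [Algebra S C] [Algebra R C] [IsScalarTower R S C]
    [AddCommGroup M] [Module R M] [Module S M] [Module C M] [IsScalarTower R C M] [IsScalarTower S C M]
    [Module.Finite C M] (Q : Ideal C) [Q.IsPrime] [Nontrivial (LocalizedModule Q.primeCompl M)]
    (hR : FlatCA.FlatAt R Q M) (hS : FlatCA.FlatAt S Q M) :
    FlatCA.FlatAt R (Q.comap (algebraMap S C)) S := by
  let y := Q.comap (algebraMap S C)
  let Sy := Localization.AtPrime y
  let CQ := Localization.AtPrime Q
  let L := LocalizedModule Q.primeCompl M
  haveI : Module.Flat R L := hR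
  haveI : Module.Flat S L := hS
  let φ : Sy →+* CQ := Localization.localRingHom y Q (algebraMap S C) rfl
  letI : Module Sy L := Module.compHom L φ
  haveI : IsScalarTower S Sy L := IsScalarTower.of_algebraMap_smul fun r x => by
    show φ (algebraMap S Sy r) • x = r • x
    rw [Localization.localRingHom_to_map, algebraMap_smul, algebraMap_smul]
  haveI : IsScalarTower R Sy L := IsScalarTower.of_algebraMap_smul fun r x => by
    rw [IsScalarTower.algebraMap_apply R S Sy, algebraMap_smul, ← algebraMap_smul C (algebraMap R S r) x,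
      ← IsScalarTower.algebraMap_apply R S C, algebraMap_smul]
  haveI : Module.Flat Sy L := (Module.flat_iff_of_isLocalization Sy y.primeCompl L).mpr hS
  haveI : Module.FaithfullyFlat Sy L := by
    refine ⟨fun {m} hm h => ?_⟩
    rw [IsLocalRing.eq_maximalIdeal hm] at h
    have h2 : (⊤ : Submodule CQ L) ≤ IsLocalRing.maximalIdeal CQ • ⊤ := by
      intro x hx0
      clear hx0
      have hx : x ∈ IsLocalRing.maximalIdeal Sy • (⊤ : Submodule Sy L) := by rw [h]; trivial
      induction hx using Submodule.smul_induction_on' with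
      | smul r hr z _ =>
        show φ r • z ∈ _
        refine Submodule.smul_mem_smul ?_ trivial
        haveI := Localization.isLocalHom_localRingHom y Q (algebraMap S C) rfl
        exact map_nonunit φ r hr
      | add a _ b _ ha hb => exact add_mem ha hb
    haveI : Module.Finite CQ L := inferInstance
    exact top_ne_bot (Submodule.eq_bot_of_le_smul_of_le_jacobson_bot _ _ Module.Finite.fg_top h2
      (IsLocalRing.jacobson_eq_maximalIdeal _ bot_ne_top).ge)
  have := flat_of_faithfullyFlat_of_flat (R := R) (S := Sy) (M := L)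
  rw [← flatOn_primeCompl_iff]
  exact (flatOn_iff_flat y.primeCompl (Algebra.linearMap S Sy)).mpr this

/-- Converse: transitivity. -/
theorem flatAt_trans (R : Type u) {S C M : Type u} [CommRing R] [CommRing S] [CommRing C] [Algebra R S]
    [Algebra S C] [Algebra R C] [IsScalarTower R S C]
    [AddCommGroup M] [Module R M] [Module S M] [Module C M] [IsScalarTower R C M] [IsScalarTower S C M]
    (Q : Ideal C) [Q.IsPrime] (hy : FlatCA.FlatAt R (Q.comap (algebraMap S C)) S) (hS : FlatCA.FlatAt S Q M) :
    FlatCA.FlatAt R Q M := by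
  let y := Q.comap (algebraMap S C)
  let Sy := Localization.AtPrime y
  let CQ := Localization.AtPrime Q
  let L := LocalizedModule Q.primeCompl M
  let φ : Sy →+* CQ := Localization.localRingHom y Q (algebraMap S C) rfl
  letI : Module Sy L := Module.compHom L φ
  haveI : IsScalarTower S Sy L := IsScalarTower.of_algebraMap_smul fun r x => by
    show φ (algebraMap S Sy r) • x = r • x
    rw [Localization.localRingHom_to_map, algebraMap_smul, algebraMap_smul]
  haveI : IsScalarTower R Sy L := IsScalarTower.of_algebraMap_smul fun r x => by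
    rw [IsScalarTower.algebraMap_apply R S Sy, algebraMap_smul, ← algebraMap_smul C (algebraMap R S r) x,
      ← IsScalarTower.algebraMap_apply R S C, algebraMap_smul]
  haveI : Module.Flat Sy L := (Module.flat_iff_of_isLocalization Sy y.primeCompl L).mpr hS
  haveI : Module.Flat R Sy := (flatOn_iff_flat y.primeCompl (Algebra.linearMap S Sy)).mp ((flatOn_primeCompl_iff y).mpr hy)
  exact Module.Flat.trans R Sy L

/-- **Fibrewise criterion of flatness**, `S` only of finite type. -/
theorem flat_fibre_criterion_ft (R S : Type u) {C M : Type u} [CommRing R] [CommRing S] [CommRing C] [Algebra R S]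
    [Algebra S C] [Algebra R C] [IsScalarTower R S C] [AddCommGroup M] [Module R M] [Module S M] [Module C M]
    [IsScalarTower R C M] [IsScalarTower S C M]
    [Algebra.FiniteType R S] [Algebra.FinitePresentation R C]
    [Module.FinitePresentation C M] (Q : Ideal C) [Q.IsPrime] (hM : FlatCA.FlatAt R Q M)
    (hfib : Module.Flat (S ⧸ (Q.comap (algebraMap R C)).map (algebraMap R S))
      (LocalizedModule Q.primeCompl M ⧸
        (Q.comap (algebraMap R C)).map (algebraMap R S) • (⊤ : Submodule S (LocalizedModule Q.primeCompl M)))) :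
    FlatCA.FlatAt S Q M := by
  classical
  obtain ⟨n, π, hπ⟩ := Algebra.FiniteType.iff_quotient_mvPolynomial''.mp ‹Algebra.FiniteType R S›
  set p := Q.comap (algebraMap R C) with hpdef
  let ρR : MvPolynomial (Fin n) R →+* MvPolynomial (Fin n) p.ResidueField := map (algebraMap R p.ResidueField)
  let H := RingHom.ker π.toRingHom
  obtain ⟨s, hsH, hs⟩ := (Submodule.fg_span_iff_fg_span_finset_subset (R := MvPolynomial (Fin n) p.ResidueField)
    (ρR '' (H : Set (MvPolynomial (Fin n) R)))).mp (IsNoetherian.noetherian (H.map ρR))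
  choose! pre hpre using fun x (hx : x ∈ s) => hsH hx
  let H₀ := Ideal.span (pre '' (s : Set _))
  have hH₀ : H₀.map ρR = H.map ρR := by
    rw [Ideal.map_span, ← Set.image_comp]
    refine (Eq.trans ?_ hs.symm)
    congr 1
    ext x
    exact ⟨fun ⟨y, hy, h⟩ => by rw [← h, Function.comp_apply, (hpre y hy).2]; exact hy, fun hx => ⟨x, hx, (hpre x hx).2⟩⟩
  have hle : H₀ ≤ H := Ideal.span_le.mpr (by rintro _ ⟨y, hy, rfl⟩; exact (hpre y hy).1)
  obtain ⟨S₀, _, _, a, ha, hkera⟩ := exists_quotient H₀
  let θ : S₀ →ₐ[R] S := AlgHom.liftOfSurjective a ha π (by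
    intro x hx
    exact hle (hkera.le hx))
  have hθ : ∀ x, θ (a x) = π x := fun x => AlgHom.liftOfSurjective_apply a ha π _ x
  have hθs : Function.Surjective θ := fun x => by
    obtain ⟨y, rfl⟩ := hπ x
    exact ⟨a y, hθ y⟩
  letI : Algebra S₀ S := θ.toRingHom.toAlgebra
  haveI : IsScalarTower R S₀ S := IsScalarTower.of_algebraMap_eq fun r => (θ.commutes r).symm
  letI : Algebra S₀ C := ((algebraMap S C).comp θ.toRingHom).toAlgebra
  haveI : IsScalarTower S₀ S C := IsScalarTower.of_algebraMap_eq fun _ => rfl
  haveI : IsScalarTower R S₀ C := IsScalarTower.of_algebraMap_eq fun r => by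
    rw [IsScalarTower.algebraMap_apply R S C, IsScalarTower.algebraMap_apply R S₀ S, ← IsScalarTower.algebraMap_apply S₀ S C]
  letI : Module S₀ M := Module.compHom M θ.toRingHom
  haveI : IsScalarTower S₀ C M := IsScalarTower.of_algebraMap_smul fun a x => algebraMap_smul C (θ a) x
  haveI : Algebra.FiniteType R S₀ := Algebra.FiniteType.of_surjective a ha
  haveI : Algebra.FinitePresentation R S₀ := Algebra.FinitePresentation.of_surjective ha (by
    show (RingHom.ker a.toRingHom).FG
    rw [hkera]
    exact ⟨s.image pre, by simp [H₀]⟩)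
  refine flatAt_of_surjective_base (S₀ := S₀) hθs Q (flat_fibre_criterion_fp R S₀ Q hM ?_)
  let L := LocalizedModule Q.primeCompl M
  let J := p.map (algebraMap R S)
  let J₀ := p.map (algebraMap R S₀)
  have hLs : ∀ (c : S₀) (x : L), c • x = θ c • x := fun c x => by
    rw [← algebraMap_smul C c x, ← algebraMap_smul C (θ c) x]
    rfl
  have hJJ : J₀.map θ.toRingHom = J := by
    rw [Ideal.map_map]
    congr 1
    exact RingHom.ext fun r => θ.commutes r
  have hsub : ∀ x, x ∈ J₀ • (⊤ : Submodule S₀ L) ↔ x ∈ J • (⊤ : Submodule S L) := fun x => by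
    constructor
    · intro hx
      induction hx using Submodule.smul_induction_on' with
      | smul c hc y _ =>
        rw [hLs]
        exact Submodule.smul_mem_smul (hJJ ▸ Ideal.mem_map_of_mem _ hc) trivial
      | add u _ v _ hu hv => exact add_mem hu hv
    · intro hx
      induction hx using Submodule.smul_induction_on' with
      | smul c hc y _ =>
        rw [← hJJ] at hc
        obtain ⟨c', hc', rfl⟩ := (Ideal.mem_map_iff_of_surjective _ hθs).mp hc
        show θ c' • y ∈ _
        rw [← hLs]
        exact Submodule.smul_mem_smul hc' trivial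
      | add u _ v _ hu hv => exact add_mem hu hv
  let X := L ⧸ J • (⊤ : Submodule S L)
  haveI : Module.Flat (S ⧸ J) X := hfib
  refine Module.Flat.of_forall_isTrivialRelation fun {l f x} hfx => ?_
  choose f' hf' using fun i => Ideal.Quotient.mk_surjective (f i)
  choose x' hx' using fun i => Submodule.Quotient.mk_surjective _ (x i)
  have h0 : ∑ i, Ideal.Quotient.mk J (θ (f' i)) • (Submodule.Quotient.mk (x' i) : X) = 0 := by
    have h1 : ∑ i, f' i • x' i ∈ J₀ • (⊤ : Submodule S₀ L) := by
      rw [← Submodule.Quotient.mk_eq_zero, ← hfx, ← Submodule.mkQ_apply, map_sum]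
      refine Finset.sum_congr rfl fun i _ => ?_
      rw [← hf' i, ← hx' i]
      rfl
    have h2 := (Submodule.Quotient.mk_eq_zero _).mpr ((hsub _).mp h1)
    rw [← Submodule.mkQ_apply, map_sum] at h2
    refine Eq.trans (Finset.sum_congr rfl fun i _ => ?_) h2
    rw [hLs]
    rfl
  obtain ⟨k, c, y, hy, hc⟩ := Module.Flat.isTrivialRelation_of_sum_smul_eq_zero h0
  choose c' hc' using fun i j => Ideal.Quotient.mk_surjective (c i j)
  choose y' hy' using fun j => Submodule.Quotient.mk_surjective _ (y j)
  choose c'' hc'' using fun i j => hθs (c' i j)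
  -- the kernel of the surjection dies away from the prime
  let ρ := p.ResidueField
  obtain ⟨T, _, _, b, hb, hkerb⟩ := exists_quotient (H.map ρR)
  have hlift : RingHom.ker a.toRingHom ≤ RingHom.ker (b.toRingHom.comp ρR) := fun x hx => by
    rw [RingHom.mem_ker, RingHom.comp_apply, ← RingHom.mem_ker, hkerb]
    exact Ideal.mem_map_of_mem _ (hle (hkera.le hx))
  let πT : S₀ →+* T := RingHom.liftOfSurjective a.toRingHom ha ⟨b.toRingHom.comp ρR, hlift⟩
  have hπT : ∀ x, πT (a x) = b (ρR x) :=
    RingHom.liftOfRightInverse_comp_apply a.toRingHom _ _ ⟨b.toRingHom.comp ρR, hlift⟩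
  obtain ⟨hkerT, -⟩ := fibreMap_spec p a ha b.toRingHom hb (by rw [hkera, hH₀, hkerb]) πT hπT
  have hkill : ∀ z : S₀, θ z ∈ J → ∃ r : R, r ∉ p ∧ r • z ∈ J₀ := by
    intro z hz
    rw [← hJJ] at hz
    obtain ⟨j, hj, hjz⟩ := (Ideal.mem_map_iff_of_surjective _ hθs).mp hz
    obtain ⟨w, hw⟩ := ha (z - j)
    have hwH : w ∈ H := by
      rw [RingHom.mem_ker]
      show π w = 0
      rw [← hθ, hw, map_sub]
      exact sub_eq_zero.mpr hjz.symm
    obtain ⟨r, hr, hrz⟩ := hkerT (z - j) (by
      rw [← hw, hπT]
      exact RingHom.mem_ker.mp (hkerb.symm.le (Ideal.mem_map_of_mem _ hwH)))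
    refine ⟨r, hr, ?_⟩
    have := J₀.add_mem hrz (Submodule.smul_of_tower_mem J₀ r hj)
    rwa [← smul_add, sub_add_cancel] at this
  choose r hr hrz using fun j => hkill (∑ i, f' i * c'' i j) (by
    rw [← Ideal.Quotient.eq_zero_iff_mem, map_sum, map_sum, ← hc j]
    exact Finset.sum_congr rfl fun i _ => by rw [map_mul, map_mul, hc'', hc'])
  let d := ∏ j, r j
  have hd : d ∉ p := fun h => by
    obtain ⟨j, -, hj⟩ := (Ideal.IsPrime.prod_mem_iff).mp h
    exact hr j hj
  have hunit : Function.Bijective fun z : L => d • z := by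
    have := (Module.End.isUnit_iff _).mp (IsLocalizedModule.map_units (LocalizedModule.mkLinearMap Q.primeCompl M)
      (⟨algebraMap R C d, hd⟩ : Q.primeCompl))
    convert this using 1
    exact funext fun z => (algebraMap_smul C d z).symm
  choose y'' hy'' using fun j => hunit.2 (y' j)
  refine ⟨k, fun i j => Ideal.Quotient.mk J₀ (d • c'' i j), fun j => Submodule.Quotient.mk (y'' j), fun i => ?_, fun j => ?_⟩
  · rw [← hx' i, ← Submodule.mkQ_apply, show x' i = x' i from rfl]
    have h1 : (Submodule.Quotient.mk (∑ j, c'' i j • y' j) : L ⧸ J₀ • (⊤ : Submodule S₀ L)) = Submodule.Quotient.mk (x' i) := by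
      rw [Submodule.Quotient.eq, hsub, ← Submodule.Quotient.eq]
      refine Eq.trans ?_ (hy i).symm
      rw [← Submodule.mkQ_apply, map_sum]
      refine Finset.sum_congr rfl fun j _ => ?_
      rw [hLs, hc'', ← hy' j, ← hc' i j]
      rfl
    rw [Submodule.mkQ_apply, ← h1, ← Submodule.mkQ_apply, map_sum]
    refine Finset.sum_congr rfl fun j _ => ?_
    show Submodule.Quotient.mk (c'' i j • y' j) = (Submodule.Quotient.mk ((d • c'' i j) • y'' j) : L ⧸ J₀ • (⊤ : Submodule S₀ L))
    have hy2 : d • y'' j = y' j := hy'' j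
    rw [smul_assoc, smul_comm d, hy2]
  · have h1 : d • ∑ i, f' i * c'' i j ∈ J₀ := by
      rw [show d = (∏ j' ∈ Finset.univ.erase j, r j') * r j from (Finset.prod_erase_mul _ _ (Finset.mem_univ _)).symm,
        mul_smul]
      exact Submodule.smul_of_tower_mem J₀ _ (hrz j)
    rw [← Ideal.Quotient.eq_zero_iff_mem] at h1
    rw [← h1, Finset.smul_sum, map_sum]
    refine Finset.sum_congr rfl fun i _ => ?_
    rw [← hf' i, ← map_mul, mul_smul_comm]

end Base

end Groth.FlatDescent
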