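import Mathlib
import Groth.Agent.FlatDescent.Criterion

/-!
# Flatness at points of schemes: charts, fibres, openness, fibrewise criterion
-/

universe u

open AlgebraicGeometry CategoryTheory Limits

namespace Groth.FlatDescent

section Algebra

theorem flat_quotientMap_congr {A B : Type u} [CommRing A] [CommRing B] (f : A →+* B) {I I' : Ideal A} (h : I = I') :
    (Ideal.quotientMap (I.map f) f Ideal.le_comap_map).Flat ↔ (Ideal.quotientMap (I'.map f) f Ideal.le_comap_map).Flat := by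
  subst h; rfl

/-- Transfer of flatness to quotient maps. -/
theorem flat_iff_quotientMap {A B A' B' : Type u} [CommRing A] [CommRing B] [CommRing A'] [CommRing B']
    (f : A →+* B) (a : A →+* A') (ha : Function.Surjective a) (b : B →+* B') (hb : Function.Surjective b)
    (hker : (RingHom.ker a).map f = RingHom.ker b) (g : A' →+* B') (hg : g.comp a = b.comp f) :
    g.Flat ↔ (Ideal.quotientMap ((RingHom.ker a).map f) f Ideal.le_comap_map).Flat := by
  let q := Ideal.quotientMap ((RingHom.ker a).map f) f Ideal.le_comap_map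
  let ea := RingHom.quotientKerEquivOfSurjective ha
  let eb := (Ideal.quotEquivOfEq hker).trans (RingHom.quotientKerEquivOfSurjective hb)
  have h : g.comp (ea : _ →+* A') = (eb : _ →+* B').comp q := by
    refine Ideal.Quotient.ringHom_ext (RingHom.ext fun x => ?_)
    exact RingHom.congr_fun hg x
  constructor
  · intro hf
    have : q = ((eb.symm : B' →+* _).comp g).comp (ea : _ →+* A') := by
      rw [RingHom.comp_assoc, h]
      exact RingHom.ext fun x => (eb.symm_apply_apply _).symm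
    show q.Flat
    rw [this]
    exact RingHom.Flat.comp (RingHom.Flat.of_bijective ea.bijective)
      (RingHom.Flat.comp hf (RingHom.Flat.of_bijective eb.symm.bijective))
  · intro hf
    have : g = ((eb : _ →+* B').comp q).comp (ea.symm : A' →+* _) := by
      rw [← h]
      exact RingHom.ext fun x => congrArg g (ea.apply_symm_apply x).symm
    rw [this]
    exact RingHom.Flat.comp (RingHom.Flat.of_bijective ea.symm.bijective)
      (RingHom.Flat.comp hf (RingHom.Flat.of_bijective eb.bijective))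

/-- The fibre hypothesis of the criterion from local rings. -/
theorem flat_quotient_of_localization {B C By Cx : Type u} [CommRing B] [CommRing C] [CommRing By] [CommRing Cx]
    [Algebra B C] [Algebra B By] [Algebra C Cx] [Algebra B Cx] [IsScalarTower B C Cx] (Q : Ideal C) [Q.IsPrime]
    [IsLocalization.AtPrime Cx Q] (hflat : (algebraMap B By).Flat) (φ : By →+* Cx)
    (hφ : φ.comp (algebraMap B By) = algebraMap B Cx) (J : Ideal B)
    (h : (Ideal.quotientMap ((J.map (algebraMap B By)).map φ) φ Ideal.le_comap_map).Flat) :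
    Module.Flat (B ⧸ J) (LocalizedModule Q.primeCompl C ⧸ J • (⊤ : Submodule B (LocalizedModule Q.primeCompl C))) := by
  let K := (J.map (algebraMap B By)).map φ
  have hK : J.map (algebraMap B Cx) = K := by rw [← hφ, ← Ideal.map_map]
  let θ : B ⧸ J →+* By ⧸ J.map (algebraMap B By) := Ideal.quotientMap _ (algebraMap B By) Ideal.le_comap_map
  have hθ : θ.Flat := flat_of_surjective_of_ker (algebraMap B By) hflat (Ideal.Quotient.mk J) Ideal.Quotient.mk_surjective
    (Ideal.Quotient.mk _) Ideal.Quotient.mk_surjective (by rw [Ideal.mk_ker, Ideal.mk_ker]) θ (RingHom.ext fun _ => rfl)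
  let χ : B ⧸ J →+* Cx ⧸ K := (Ideal.quotientMap K φ Ideal.le_comap_map).comp θ
  have hχ : χ.Flat := RingHom.Flat.comp hθ h
  letI : Algebra (B ⧸ J) (Cx ⧸ K) := χ.toAlgebra
  haveI : Module.Flat (B ⧸ J) (Cx ⧸ K) := hχ
  haveI : IsScalarTower B (B ⧸ J) (Cx ⧸ K) := IsScalarTower.of_algebraMap_eq fun b => by
    rw [IsScalarTower.algebraMap_apply B Cx (Cx ⧸ K), ← hφ]
    rfl
  let L := LocalizedModule Q.primeCompl C
  let e : L ≃ₗ[B] Cx := (IsLocalizedModule.iso Q.primeCompl (Algebra.linearMap C Cx)).restrictScalars B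
  have h1 : (J • (⊤ : Submodule B L)).map (e : L →ₗ[B] Cx) = K.restrictScalars B := by
    rw [Submodule.map_smul'', Submodule.map_top, LinearEquiv.range, Ideal.smul_top_eq_map, hK]
  let e' : (L ⧸ J • (⊤ : Submodule B L)) ≃ₗ[B] Cx ⧸ K :=
    (Submodule.Quotient.equiv _ _ e h1).trans (Submodule.Quotient.restrictScalarsEquiv B K)
  exact Module.Flat.of_linearEquiv (LinearEquiv.extendScalarsOfSurjective (R := B) (S := B ⧸ J) Ideal.Quotient.mk_surjective e')

end Algebra

section Chart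

/-- Flatness of a stalk map in affine charts. -/
theorem flat_stalkMap_iff {X Y : Scheme.{u}} (f : X ⟶ Y) {V : Y.Opens} (hV : IsAffineOpen V) {U : X.Opens}
    (hU : IsAffineOpen U) (e : U ≤ f ⁻¹ᵁ V) {x : X} (hx : x ∈ U) :
    (f.stalkMap x).hom.Flat ↔
      letI := (f.appLE V U e).hom.toAlgebra
      FlatCA.FlatAt Γ(Y, V) (hU.primeIdealOf ⟨x, hx⟩).asIdeal Γ(X, U) := by
  letI := (f.appLE V U e).hom.toAlgebra
  letI := Y.presheaf.algebra_section_stalk (U := V) ⟨f x, e hx⟩
  haveI := hV.isLocalization_stalk ⟨f x, e hx⟩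
  letI := X.presheaf.algebra_section_stalk (U := U) ⟨x, hx⟩
  haveI := hU.isLocalization_stalk ⟨x, hx⟩
  letI : Algebra (Y.presheaf.stalk (f x)) (X.presheaf.stalk x) := (f.stalkMap x).hom.toAlgebra
  letI : Algebra Γ(Y, V) (X.presheaf.stalk x) :=
    ((algebraMap (Y.presheaf.stalk (f x)) (X.presheaf.stalk x)).comp (algebraMap Γ(Y, V) (Y.presheaf.stalk (f x)))).toAlgebra
  haveI : IsScalarTower Γ(Y, V) (Y.presheaf.stalk (f x)) (X.presheaf.stalk x) := IsScalarTower.of_algebraMap_eq fun _ => rfl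
  haveI : IsScalarTower Γ(Y, V) Γ(X, U) (X.presheaf.stalk x) := IsScalarTower.of_algebraMap_eq fun b => by
    show (f.stalkMap x) (Y.presheaf.germ V (f x) (e hx) b) = X.presheaf.germ U x hx (f.appLE V U e b)
    rw [Scheme.Hom.germ_stalkMap_apply, Scheme.Hom.appLE, CommRingCat.comp_apply, TopCat.Presheaf.germ_res_apply]
  rw [← flatOn_primeCompl_iff, flatOn_iff_flat (A := Γ(Y, V)) (hU.primeIdealOf ⟨x, hx⟩).asIdeal.primeCompl
    (Algebra.linearMap Γ(X, U) (X.presheaf.stalk x))]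
  exact Module.flat_iff_of_isLocalization (Y.presheaf.stalk (f x))
    (hV.primeIdealOf ⟨f x, e hx⟩).asIdeal.primeCompl (X.presheaf.stalk x)

/-- The flat locus inside a finitely presented chart is open. -/
theorem isOpen_flatLocus_inter {X Y : Scheme.{u}} (f : X ⟶ Y) {V : Y.Opens} (hV : IsAffineOpen V) {U : X.Opens}
    (hU : IsAffineOpen U) (e : U ≤ f ⁻¹ᵁ V) (hfp : (f.appLE V U e).hom.FinitePresentation) :
    IsOpen {x : X | x ∈ U ∧ (f.stalkMap x).hom.Flat} := by
  letI := (f.appLE V U e).hom.toAlgebra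
  haveI : Algebra.FinitePresentation Γ(Y, V) Γ(X, U) := hfp
  let O : Set (PrimeSpectrum Γ(X, U)) := {P | FlatCA.FlatAt Γ(Y, V) P.asIdeal Γ(X, U)}
  have hO : IsOpen O := isOpen_flatLocus_fp Γ(Y, V) Γ(X, U)
  have key : {x : X | x ∈ U ∧ (f.stalkMap x).hom.Flat} = hU.fromSpec '' O := by
    ext x
    constructor
    · rintro ⟨hx, h⟩
      exact ⟨hU.primeIdealOf ⟨x, hx⟩, (flat_stalkMap_iff f hV hU e hx).mp h, hU.fromSpec_primeIdealOf ⟨x, hx⟩⟩
    · rintro ⟨P, hP, rfl⟩
      have hx : hU.fromSpec P ∈ U := hU.range_fromSpec.le ⟨P, rfl⟩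
      refine ⟨hx, (flat_stalkMap_iff f hV hU e hx).mpr ?_⟩
      have : hU.primeIdealOf ⟨hU.fromSpec P, hx⟩ = P :=
        hU.fromSpec.isOpenEmbedding.injective (hU.fromSpec_primeIdealOf _)
      simp only [this]
      exact hP
  rw [key]
  exact hU.fromSpec.isOpenEmbedding.isOpenMap _ hO

/-- **Openness of the flat locus.** -/
theorem isOpen_flatLocus_hom {X Y : Scheme.{u}} (f : X ⟶ Y) [LocallyOfFinitePresentation f] :
    IsOpen {x : X | (f.stalkMap x).hom.Flat} := by
  refine isOpen_iff_forall_mem_open.mpr fun x hx => ?_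
  obtain ⟨_, ⟨V, hV, rfl⟩, hxV, -⟩ := Y.isBasis_affineOpens.exists_subset_of_mem_open (Set.mem_univ (f x)) isOpen_univ
  obtain ⟨_, ⟨U, hU, rfl⟩, hxU, e⟩ := X.isBasis_affineOpens.exists_subset_of_mem_open hxV (f ⁻¹ᵁ V).2
  exact ⟨_, fun z hz => hz.2,
    isOpen_flatLocus_inter f hV hU e (HasRingHomProperty.appLE @LocallyOfFinitePresentation f inferInstance ⟨V, hV⟩ ⟨U, hU⟩ e),
    hxU, hx⟩

end Chart

section Fiber

variable {X Y S : Scheme.{u}}

lemma stalkCongr_cycle {x y : X} (h : x = y) (h' : y = x) {T : CommRingCat.{u}} (m : X.presheaf.stalk x ⟶ T) :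
    (X.presheaf.stalkCongr (.of_eq h)).hom ≫ (X.presheaf.stalkCongr (.of_eq h')).hom ≫ m = m := by
  subst h; simp

/-- The extension of the maximal ideal of the base. -/
noncomputable def maxExt (g : Y ⟶ S) (y : Y) : Ideal (Y.presheaf.stalk y) :=
  (IsLocalRing.maximalIdeal (S.presheaf.stalk (g y))).map (g.stalkMap y).hom

/-- Local rings of fibres. -/
theorem ker_stalkMap_fiberι (g : Y ⟶ S) (s : S) (z : g.fiber s) :
    RingHom.ker ((g.fiberι s).stalkMap z).hom = maxExt g (g.fiberι s z) := by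
  let y := g.fiberι s z
  let φ := ((g.fiberι s).stalkMap z).hom
  have hs : g y = s := (g.range_fiberι s).le ⟨z, rfl⟩
  refine le_antisymm (fun a ha => ?_) ?_
  · let I := maxExt g y
    have hI : I ≠ ⊤ := fun h => (IsLocalRing.maximalIdeal.isMaximal (Y.presheaf.stalk y)).ne_top
      (top_le_iff.mp (h.symm.le.trans (Ideal.map_le_iff_le_comap.mpr fun c hc => map_nonunit (g.stalkMap y).hom c hc)))
    haveI : Nontrivial (Y.presheaf.stalk y ⧸ I) := Ideal.Quotient.nontrivial_iff.mpr hI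
    haveI : IsLocalRing (Y.presheaf.stalk y ⧸ I) :=
      IsLocalRing.of_surjective' (Ideal.Quotient.mk I) Ideal.Quotient.mk_surjective
    let T := CommRingCat.of (Y.presheaf.stalk y ⧸ I)
    haveI : IsLocalRing T := inferInstanceAs (IsLocalRing (Y.presheaf.stalk y ⧸ I))
    let mk : Y.presheaf.stalk y ⟶ T := CommRingCat.ofHom (Ideal.Quotient.mk I)
    haveI : IsLocalHom mk.hom := IsLocalHom.of_surjective (Ideal.Quotient.mk I) Ideal.Quotient.mk_surjective
    let ρ : S.residueField (g y) ⟶ T :=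
      CommRingCat.ofHom (Ideal.Quotient.lift (IsLocalRing.maximalIdeal (S.presheaf.stalk (g y)))
        ((Ideal.Quotient.mk I).comp (g.stalkMap y).hom)
        fun c hc => Ideal.Quotient.eq_zero_iff_mem.mpr (Ideal.mem_map_of_mem _ hc))
    have hρ : S.residue (g y) ≫ ρ = g.stalkMap y ≫ mk := rfl
    let j : Spec T ⟶ Y := Spec.map mk ≫ Y.fromSpecStalk y
    have hj : j ≫ g = Spec.map ((S.residueFieldCongr hs.symm).hom ≫ ρ) ≫ S.fromSpecResidueField s := by
      simp only [j, Spec.map_comp, Category.assoc]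
      rw [Scheme.residueFieldCongr_fromSpecResidueField, Scheme.fromSpecResidueField,
        ← Spec.map_comp_assoc, hρ, Spec.map_comp, Category.assoc, Scheme.SpecMap_stalkMap_fromSpecStalk]
    let ψ : Spec T ⟶ g.fiber s := pullback.lift j _ hj
    have hψ : ψ ≫ g.fiberι s = j := pullback.lift_fst _ _ _
    have hinv : SpecToEquivOfLocalRing Y T (ψ ≫ g.fiberι s) = ⟨y, mk, inferInstance⟩ := by
      rw [hψ]
      exact (SpecToEquivOfLocalRing Y T).apply_symm_apply ⟨y, mk, inferInstance⟩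
    obtain ⟨h₁, h₂⟩ := SpecToEquivOfLocalRing_eq_iff.mp hinv
    have h₁' : g.fiberι s (ψ (IsLocalRing.closedPoint T)) = y := h₁
    have hc : z = ψ (IsLocalRing.closedPoint T) := ((g.fiberι s).isEmbedding.injective h₁').symm
    change Scheme.stalkClosedPointTo (ψ ≫ g.fiberι s) = _ at h₂
    rw [Scheme.stalkClosedPointTo_comp] at h₂
    have h3 : (g.fiberι s).stalkMap z ≫ ((g.fiber s).presheaf.stalkCongr (.of_eq hc)).hom ≫
        Scheme.stalkClosedPointTo ψ = mk := by
      rw [Scheme.Hom.stalkMap_congr_point_assoc _ _ _ hc, h₂]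
      exact stalkCongr_cycle h₁'.symm h₁' mk
    have h4 := congr($h3 a)
    simp only [CommRingCat.comp_apply] at h4
    rw [show ((g.fiberι s).stalkMap z).hom a = 0 from ha, map_zero, map_zero] at h4
    exact Ideal.Quotient.eq_zero_iff_mem.mp h4.symm
  · show Ideal.map _ _ ≤ _
    rw [Ideal.map_le_iff_le_comap]
    intro c hc
    let t := g.fiberToSpecResidueField s
    have hfield : ∀ (w : Spec (S.residueField s)) (d : (Spec (S.residueField s)).presheaf.stalk w),
        ¬ IsUnit d → d = 0 := by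
      intro w d hd
      let e := (Spec.stalkIso (S.residueField s) w).commRingCatIsoToRingEquiv
      obtain ⟨⟨n, m⟩, h⟩ := IsLocalization.surj w.asIdeal.primeCompl (e d)
      by_contra hne
      rcases eq_or_ne n 0 with hn | hn
      · rw [hn, map_zero] at h
        exact hne (e.injective (((IsLocalization.map_units _ m).mul_left_eq_zero.mp h).trans (map_zero e).symm))
      · exact hd ((isUnit_map_iff e d).mp (isUnit_of_mul_isUnit_left (h ▸ (Ne.isUnit hn).map _)))
    have hcomp : (g.fiberι s ≫ g) = t ≫ S.fromSpecResidueField s := g.fiber_fac s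
    have h0 := Scheme.Hom.stalkMap_congr_hom _ _ hcomp z
    rw [Scheme.Hom.stalkMap_comp, Scheme.Hom.stalkMap_comp] at h0
    have e : g (g.fiberι s z) = S.fromSpecResidueField s (t z) := by
      rw [← Scheme.Hom.comp_apply, hcomp]; rfl
    have h : ((g.fiberι s).stalkMap z) ((g.stalkMap (g.fiberι s z)) c) =
        (t.stalkMap z) (((S.fromSpecResidueField s).stalkMap (t z)) ((S.presheaf.stalkCongr (.of_eq e)).hom c)) :=
      congr($h0 c)
    rw [Ideal.mem_comap, RingHom.mem_ker]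
    refine h.trans ?_
    rw [hfield (t z) (((S.fromSpecResidueField s).stalkMap (t z)) ((S.presheaf.stalkCongr (.of_eq e)).hom c))
      fun hu => ?_, map_zero]
    exact (IsLocalRing.mem_maximalIdeal c).mp hc
      (isUnit_of_map_unit (S.presheaf.stalkCongr (.of_eq e)).hom.hom c
        (isUnit_of_map_unit ((S.fromSpecResidueField s).stalkMap (t z)).hom _ hu))

/-- The property of the fibre at `x` on local rings. -/
def FibFlat (f : X ⟶ Y) (g : Y ⟶ S) (x : X) : Prop :=
  (Ideal.quotientMap ((maxExt g (f x)).map (f.stalkMap x).hom) (f.stalkMap x).hom Ideal.le_comap_map).Flat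

theorem maxExt_comp (f : X ⟶ Y) (g : Y ⟶ S) (x : X) :
    maxExt (f ≫ g) x = (maxExt g (f x)).map (f.stalkMap x).hom := by
  rw [maxExt, maxExt, Ideal.map_map, Scheme.Hom.stalkMap_comp]
  rfl

/-- Flatness of the map of fibres on local rings. -/
theorem flat_fiberMap_iff (f : X ⟶ Y) (g : Y ⟶ S) (s : S) (φ : (f ≫ g).fiber s ⟶ g.fiber s)
    (hφ : φ ≫ g.fiberι s = (f ≫ g).fiberι s ≫ f) (z : (f ≫ g).fiber s) :
    (φ.stalkMap z).hom.Flat ↔ FibFlat f g ((f ≫ g).fiberι s z) := by
  let x := (f ≫ g).fiberι s z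
  have hy : g.fiberι s (φ z) = f x := by rw [← Scheme.Hom.comp_apply, hφ]; rfl
  let a := (Y.presheaf.stalkCongr (.of_eq hy.symm)).hom ≫ (g.fiberι s).stalkMap (φ z)
  let b := ((f ≫ g).fiberι s).stalkMap z
  have ha : Function.Surjective a.hom := by
    refine ((g.fiberι s).stalkMap_surjective (φ z)).comp ?_
    exact (ConcreteCategory.bijective_of_isIso (Y.presheaf.stalkCongr (.of_eq hy.symm)).hom).2
  have hka : RingHom.ker a.hom = maxExt g (f x) := by
    have key : ∀ (y : Y) (h : g.fiberι s (φ z) = y),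
        RingHom.ker ((Y.presheaf.stalkCongr (.of_eq h.symm)).hom ≫ (g.fiberι s).stalkMap (φ z)).hom = maxExt g y := by
      rintro _ rfl
      rw [show (Y.presheaf.stalkCongr (.of_eq (rfl : g.fiberι s (φ z) = _))).hom = 𝟙 _ by simp, Category.id_comp]
      exact ker_stalkMap_fiberι g s (φ z)
    exact key _ hy
  have hkb : RingHom.ker b.hom = (maxExt g (f x)).map (f.stalkMap x).hom := by
    rw [ker_stalkMap_fiberι (f ≫ g) s z, maxExt_comp]
  have hsq : a ≫ φ.stalkMap z = f.stalkMap x ≫ b := by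
    have h := Scheme.Hom.stalkMap_congr_hom _ _ hφ.symm z
    rw [Scheme.Hom.stalkMap_comp, Scheme.Hom.stalkMap_comp] at h
    exact (Category.assoc _ _ _).trans h.symm
  rw [flat_iff_quotientMap (f.stalkMap x).hom a.hom ha b.hom ((f ≫ g).fiberι s |>.stalkMap_surjective z)
    (by rw [hka, hkb]) (φ.stalkMap z).hom (congrArg CommRingCat.Hom.hom hsq)]
  exact flat_quotientMap_congr (f.stalkMap x).hom hka

/-- Flatness goes down to fibres. -/
theorem fibFlat_of_flat (f : X ⟶ Y) (g : Y ⟶ S) (x : X) (h : (f.stalkMap x).hom.Flat) : FibFlat f g x :=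
  flat_of_surjective_of_ker _ h (Ideal.Quotient.mk _) Ideal.Quotient.mk_surjective (Ideal.Quotient.mk _)
    Ideal.Quotient.mk_surjective (by rw [Ideal.mk_ker, Ideal.mk_ker]) _ (RingHom.ext fun _ => rfl)

/-- **Fibrewise criterion of flatness.** -/
theorem flat_of_fibFlat (f : X ⟶ Y) (g : Y ⟶ S) [LocallyOfFinitePresentation (f ≫ g)] [LocallyOfFiniteType g] (x : X)
    (hfg : ((f ≫ g).stalkMap x).hom.Flat) (hfib : FibFlat f g x) :
    (g.stalkMap (f x)).hom.Flat ∧ (f.stalkMap x).hom.Flat := by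
  obtain ⟨_, ⟨W, hW, rfl⟩, hsW, -⟩ := S.isBasis_affineOpens.exists_subset_of_mem_open (Set.mem_univ (g (f x))) isOpen_univ
  obtain ⟨_, ⟨V, hV, rfl⟩, hyV, eVW⟩ := Y.isBasis_affineOpens.exists_subset_of_mem_open hsW (g ⁻¹ᵁ W).2
  obtain ⟨_, ⟨U, hU, rfl⟩, hxU, eUV⟩ := X.isBasis_affineOpens.exists_subset_of_mem_open hyV (f ⁻¹ᵁ V).2
  have eUW : U ≤ (f ≫ g) ⁻¹ᵁ W := fun z hz => eVW (eUV hz)
  letI := (g.appLE W V eVW).hom.toAlgebra
  letI := (f.appLE V U eUV).hom.toAlgebra
  letI := ((f ≫ g).appLE W U eUW).hom.toAlgebra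
  haveI : IsScalarTower Γ(S, W) Γ(Y, V) Γ(X, U) :=
    IsScalarTower.of_algebraMap_eq' congr(($((Scheme.Hom.appLE_comp_appLE f g W V U eVW eUV).symm)).hom)
  haveI : Algebra.FiniteType Γ(S, W) Γ(Y, V) :=
    HasRingHomProperty.appLE @LocallyOfFiniteType g inferInstance ⟨W, hW⟩ ⟨V, hV⟩ eVW
  haveI : Algebra.FinitePresentation Γ(S, W) Γ(X, U) :=
    HasRingHomProperty.appLE @LocallyOfFinitePresentation (f ≫ g) inferInstance ⟨W, hW⟩ ⟨U, hU⟩ eUW
  let P := (hU.primeIdealOf ⟨x, hxU⟩).asIdeal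
  have hM : FlatCA.FlatAt Γ(S, W) P Γ(X, U) := (flat_stalkMap_iff (f ≫ g) hW hU eUW hxU).mp hfg
  letI := Y.presheaf.algebra_section_stalk (U := V) ⟨f x, hyV⟩
  haveI := hV.isLocalization_stalk ⟨f x, hyV⟩
  letI := X.presheaf.algebra_section_stalk (U := U) ⟨x, hxU⟩
  haveI := hU.isLocalization_stalk ⟨x, hxU⟩
  letI : Algebra Γ(Y, V) (X.presheaf.stalk x) :=
    ((algebraMap Γ(X, U) (X.presheaf.stalk x)).comp (algebraMap Γ(Y, V) Γ(X, U))).toAlgebra
  haveI : IsScalarTower Γ(Y, V) Γ(X, U) (X.presheaf.stalk x) := IsScalarTower.of_algebraMap_eq fun _ => rfl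
  have hφ : (f.stalkMap x).hom.comp (algebraMap Γ(Y, V) (Y.presheaf.stalk (f x))) =
      algebraMap Γ(Y, V) (X.presheaf.stalk x) := by
    ext b
    show (f.stalkMap x) (Y.presheaf.germ V (f x) hyV b) = X.presheaf.germ U x hxU (f.appLE V U eUV b)
    rw [Scheme.Hom.germ_stalkMap_apply, Scheme.Hom.appLE, CommRingCat.comp_apply, TopCat.Presheaf.germ_res_apply]
  let J := (P.comap (algebraMap Γ(S, W) Γ(X, U))).map (algebraMap Γ(S, W) Γ(Y, V))
  have hJ : J.map (algebraMap Γ(Y, V) (Y.presheaf.stalk (f x))) = maxExt g (f x) := by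
    letI := S.presheaf.algebra_section_stalk (U := W) ⟨g (f x), hsW⟩
    haveI := hW.isLocalization_stalk ⟨g (f x), hsW⟩
    have hp : P.comap (algebraMap Γ(S, W) Γ(X, U)) = (hW.primeIdealOf ⟨g (f x), hsW⟩).asIdeal :=
      congrArg PrimeSpectrum.asIdeal (IsAffineOpen.comap_primeIdealOf_appLE (f := f ≫ g) W hW U hU eUW hxU)
    rw [maxExt, ← IsLocalization.AtPrime.map_eq_maximalIdeal (hW.primeIdealOf ⟨g (f x), hsW⟩).asIdeal
      (S.presheaf.stalk (g (f x))), ← hp, Ideal.map_map, Ideal.map_map]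
    congr 1
    ext b
    show Y.presheaf.germ V (f x) hyV (g.appLE W V eVW b) = (g.stalkMap (f x)) (S.presheaf.germ W (g (f x)) hsW b)
    rw [Scheme.Hom.germ_stalkMap_apply, Scheme.Hom.appLE, CommRingCat.comp_apply, TopCat.Presheaf.germ_res_apply]
  have hf : FlatCA.FlatAt Γ(Y, V) P Γ(X, U) := by
    refine flat_fibre_criterion_ft Γ(S, W) Γ(Y, V) P hM ?_
    refine flat_quotient_of_localization P ?_ (f.stalkMap x).hom hφ J ?_
    · haveI := IsLocalization.flat (Y.presheaf.stalk (f x)) (hV.primeIdealOf ⟨f x, hyV⟩).asIdeal.primeCompl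
      exact RingHom.flat_algebraMap_iff.mpr inferInstance
    · exact (flat_quotientMap_congr _ hJ).mpr hfib
  refine ⟨?_, (flat_stalkMap_iff f hV hU eUV hxU).mpr hf⟩
  haveI : Nontrivial (LocalizedModule P.primeCompl Γ(X, U)) :=
    (IsLocalizedModule.iso P.primeCompl (Algebra.linearMap Γ(X, U) (X.presheaf.stalk x))).toEquiv.nontrivial
  have hg := flatAt_base_of_flatAt Γ(S, W) (S := Γ(Y, V)) P hM hf
  refine (flat_stalkMap_iff g hW hV eVW hyV).mpr ?_
  have hq : (hV.primeIdealOf ⟨f x, hyV⟩).asIdeal = P.comap (algebraMap Γ(Y, V) Γ(X, U)) :=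
    (congrArg PrimeSpectrum.asIdeal (IsAffineOpen.comap_primeIdealOf_appLE (f := f) V hV U hU eUV hxU)).symm
  simp only [hq]
  exact hg

/-- Openness for a morphism over a base. -/
theorem isOpen_flatLocus_over (f : X ⟶ Y) (g : Y ⟶ S) [LocallyOfFinitePresentation (f ≫ g)] [LocallyOfFiniteType g] :
    IsOpen {x : X | (f.stalkMap x).hom.Flat} := by
  refine isOpen_iff_forall_mem_open.mpr fun x hx => ?_
  obtain ⟨_, ⟨W, hW, rfl⟩, hsW, -⟩ := S.isBasis_affineOpens.exists_subset_of_mem_open (Set.mem_univ (g (f x))) isOpen_univ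
  obtain ⟨_, ⟨V, hV, rfl⟩, hyV, eVW⟩ := Y.isBasis_affineOpens.exists_subset_of_mem_open hsW (g ⁻¹ᵁ W).2
  obtain ⟨_, ⟨U, hU, rfl⟩, hxU, eUV⟩ := X.isBasis_affineOpens.exists_subset_of_mem_open hyV (f ⁻¹ᵁ V).2
  refine ⟨_, fun z hz => hz.2, isOpen_flatLocus_inter f hV hU eUV ?_, hxU, hx⟩
  have eUW : U ≤ (f ≫ g) ⁻¹ᵁ W := fun z hz => eVW (eUV hz)
  refine RingHom.FinitePresentation.of_comp_finiteType (g.appLE W V eVW).hom ?_
    (HasRingHomProperty.appLE @LocallyOfFiniteType g inferInstance ⟨W, hW⟩ ⟨V, hV⟩ eVW)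
  have := HasRingHomProperty.appLE @LocallyOfFinitePresentation (f ≫ g) inferInstance ⟨W, hW⟩ ⟨U, hU⟩ eUW
  rwa [← Scheme.Hom.appLE_comp_appLE f g W V U eVW eUV] at this

end Fiber

end Groth.FlatDescent
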