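import Mathlib
import Groth.Agent.FlatDescent.Scheme

/-!
# Flatness at a point: base change, cancellation
-/

universe u

open AlgebraicGeometry CategoryTheory Limits

namespace Groth.FlatDescent

variable {X Y Z : Scheme.{u}}

theorem flat_fromSpecStalk (x : X) : Flat (X.fromSpecStalk x) := by
  obtain ⟨_, ⟨U, hU, rfl⟩, hxU, -⟩ := X.isBasis_affineOpens.exists_subset_of_mem_open (Set.mem_univ x) isOpen_univ
  rw [← hU.fromSpecStalk_eq_fromSpecStalk hxU, IsAffineOpen.fromSpecStalk]
  letI := X.presheaf.algebra_section_stalk (U := U) ⟨x, hxU⟩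
  haveI := hU.isLocalization_stalk ⟨x, hxU⟩
  haveI : Flat (Spec.map (X.presheaf.germ U x hxU)) := Flat.SpecMap_iff.mpr
    (RingHom.flat_algebraMap_iff.mpr (IsLocalization.flat (X.presheaf.stalk x) (hU.primeIdealOf ⟨x, hxU⟩).asIdeal.primeCompl))
  infer_instance

/-- Stalk maps of flat preimmersions are bijective. -/
theorem bijective_stalkMap (j : X ⟶ Y) [Flat j] [IsPreimmersion j] (x : X) :
    Function.Bijective (j.stalkMap x).hom := by
  refine ⟨?_, j.stalkMap_surjective x⟩
  letI := (j.stalkMap x).hom.toAlgebra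
  haveI : Module.Flat (Y.presheaf.stalk (j x)) (X.presheaf.stalk x) := Flat.stalkMap j x
  haveI : IsLocalHom (algebraMap (Y.presheaf.stalk (j x)) (X.presheaf.stalk x)) := j.toLRSHom.prop x
  haveI : Module.FaithfullyFlat (Y.presheaf.stalk (j x)) (X.presheaf.stalk x) := .of_flat_of_isLocalHom
  exact FaithfulSMul.algebraMap_injective (Y.presheaf.stalk (j x)) (X.presheaf.stalk x)

/-- Flatness at a point after a flat preimmersion. -/
theorem flat_stalkMap_of_preimmersion (j : X ⟶ Y) [Flat j] [IsPreimmersion j] (f : Y ⟶ Z) (x : X)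
    (h : ((j ≫ f).stalkMap x).hom.Flat) : (f.stalkMap (j x)).hom.Flat := by
  rw [Scheme.Hom.stalkMap_comp] at h
  have e : (f.stalkMap (j x)).hom =
      ((RingEquiv.ofBijective _ (bijective_stalkMap j x)).symm : _ →+* _).comp
        ((f.stalkMap (j x) ≫ j.stalkMap x).hom) :=
    RingHom.ext fun a => ((RingEquiv.ofBijective _ (bijective_stalkMap j x)).symm_apply_apply _).symm
  rw [e]
  exact RingHom.Flat.comp h (RingHom.Flat.of_bijective (RingEquiv.bijective _))

/-- Flatness at a point via the spectrum of the local ring. -/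
theorem flat_stalkMap_iff_fromSpecStalk (f : X ⟶ Y) (x : X) :
    (f.stalkMap x).hom.Flat ↔ Flat (X.fromSpecStalk x ≫ f) := by
  haveI := flat_fromSpecStalk x
  constructor
  · intro h
    haveI := flat_fromSpecStalk (f x)
    haveI : Flat (Spec.map (f.stalkMap x)) := Flat.SpecMap_iff.mpr h
    rw [← Scheme.SpecMap_stalkMap_fromSpecStalk]
    infer_instance
  · intro h
    have := flat_stalkMap_of_preimmersion (X.fromSpecStalk x) f (IsLocalRing.closedPoint (X.presheaf.stalk x))
      (Flat.stalkMap _ _)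
    rwa [Scheme.fromSpecStalk_closedPoint] at this

/-- Cancellation of flat morphisms that are surjective. -/
theorem flat_stalkMap_of_comp (p : X ⟶ Y) (f : Y ⟶ Z) (x : X) (hp : (p.stalkMap x).hom.Flat)
    (h : ((p ≫ f).stalkMap x).hom.Flat) : (f.stalkMap (p x)).hom.Flat := by
  rw [Scheme.Hom.stalkMap_comp] at h
  letI := (f.stalkMap (p x)).hom.toAlgebra
  letI := (p.stalkMap x).hom.toAlgebra
  letI := ((p.stalkMap x).hom.comp (f.stalkMap (p x)).hom).toAlgebra
  haveI : IsScalarTower (Z.presheaf.stalk (f (p x))) (Y.presheaf.stalk (p x)) (X.presheaf.stalk x) :=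
    IsScalarTower.of_algebraMap_eq fun _ => rfl
  haveI : Module.Flat (Y.presheaf.stalk (p x)) (X.presheaf.stalk x) := hp
  haveI : Module.Flat (Z.presheaf.stalk (f (p x))) (X.presheaf.stalk x) := h
  haveI : IsLocalHom (algebraMap (Y.presheaf.stalk (p x)) (X.presheaf.stalk x)) := p.toLRSHom.prop x
  haveI : Module.FaithfullyFlat (Y.presheaf.stalk (p x)) (X.presheaf.stalk x) := .of_flat_of_isLocalHom
  show Module.Flat (Z.presheaf.stalk (f (p x))) (Y.presheaf.stalk (p x))
  exact flat_of_faithfullyFlat_of_flat (M := X.presheaf.stalk x)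

theorem flat_stalkMap_comp (p : X ⟶ Y) (f : Y ⟶ Z) (x : X) (hp : (p.stalkMap x).hom.Flat)
    (hf : (f.stalkMap (p x)).hom.Flat) : ((p ≫ f).stalkMap x).hom.Flat := by
  rw [Scheme.Hom.stalkMap_comp]
  exact RingHom.Flat.comp hf hp

/-- Base change of flatness at a point. -/
theorem flat_stalkMap_of_isPullback {X' Y' : Scheme.{u}} {gX : X' ⟶ X} {f' : X' ⟶ Y'} {f : X ⟶ Y} {gY : Y' ⟶ Y}
    (sq : IsPullback gX f' f gY) (x' : X') (h : (f.stalkMap (gX x')).hom.Flat) : (f'.stalkMap x').hom.Flat := by
  let j := X.fromSpecStalk (gX x')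
  have sqP : IsPullback (pullback.fst j gX) (pullback.snd j gX ≫ f') (j ≫ f) gY :=
    (IsPullback.of_hasPullback j gX).paste_vert sq
  haveI : Flat (j ≫ f) := (flat_stalkMap_iff_fromSpecStalk f _).mp h
  haveI : Flat (pullback.snd j gX ≫ f') := MorphismProperty.of_isPullback (P := @Flat) sqP inferInstance
  haveI : Flat (pullback.snd j gX) :=
    MorphismProperty.of_isPullback (P := @Flat) (IsPullback.of_hasPullback j gX) (flat_fromSpecStalk _)
  haveI : IsPreimmersion (pullback.snd j gX) :=
    MorphismProperty.of_isPullback (P := @IsPreimmersion) (IsPullback.of_hasPullback j gX) inferInstance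
  obtain ⟨z, hz⟩ : x' ∈ Set.range (pullback.snd j gX) := by
    rw [Scheme.Pullback.range_snd]
    exact ⟨IsLocalRing.closedPoint (X.presheaf.stalk (gX x')), Scheme.fromSpecStalk_closedPoint⟩
  rw [← hz]
  exact flat_stalkMap_of_preimmersion (pullback.snd j gX) f' z (Flat.stalkMap _ z)

/-- Cancellation of etale morphisms. -/
theorem flat_stalkMap_of_comp_etale (f : X ⟶ Y) (r : Y ⟶ Z) [Etale r] (x : X)
    (h : ((f ≫ r).stalkMap x).hom.Flat) : (f.stalkMap x).hom.Flat := by
  have hf := (flat_stalkMap_iff_fromSpecStalk (f ≫ r) x).mp h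
  let g := X.fromSpecStalk x ≫ f
  haveI : Flat (g ≫ r) := by rwa [Category.assoc]
  have sqd : IsPullback g (pullback.lift (𝟙 _) g (Category.id_comp _).symm) (pullback.diagonal r)
      (pullback.map (g ≫ r) r r r g (𝟙 _) (𝟙 _) (by simp) (by simp)) := by
    have key := (pullback_lift_diagonal_isPullback g r)
    exact key
  haveI : Etale (pullback.diagonal r) := inferInstance
  haveI : Flat (pullback.lift (f := g ≫ r) (g := r) (𝟙 _) g (Category.id_comp _).symm) :=
    MorphismProperty.of_isPullback (P := @Flat) sqd inferInstance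
  haveI : Flat (pullback.snd (g ≫ r) r) := inferInstance
  refine (flat_stalkMap_iff_fromSpecStalk f x).mpr ?_
  have : g = pullback.lift (f := g ≫ r) (g := r) (𝟙 _) g (Category.id_comp _).symm ≫ pullback.snd (g ≫ r) r :=
    (pullback.lift_snd _ _ _).symm
  show Flat g
  rw [this]
  infer_instance

end Groth.FlatDescent
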