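import Mathlib
import Groth.Agent.FlatDescent.Presentation

/-!
# Global descent of flat finitely presented modules to a finite type `ℤ`-algebra
-/

universe u

open TensorProduct MvPolynomial

namespace Groth.FlatDescent

variable {σ κ : Type} [Finite σ] [Finite κ] {R : Type u} [CommRing R]

/-- A module flat at every maximal ideal is flat. -/
theorem flat_of_flatAt {A P : Type u} [CommRing A] [CommRing P] [Algebra A P] {M : Type u} [AddCommGroup M]
    [Module A M] [Module P M] [IsScalarTower A P M]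
    (h : ∀ (Q : Ideal P) [Q.IsMaximal], FlatCA.FlatAt A Q M) : Module.Flat A M := by
  rw [Module.Flat.iff_lTensor_injective']
  intro I
  refine (injective_iff_map_eq_zero _).mpr fun x hx => ?_
  have hx0 : mulI P M I x = 0 := by
    show AlgebraTensorModule.rid A P M (I.subtype.lTensor M x) = 0
    rw [hx, map_zero]
  by_contra hne
  let J : Ideal P := LinearMap.ker (LinearMap.toSpanSingleton P (M ⊗[A] I) x)
  obtain ⟨Q, hQ, hJQ⟩ := Ideal.exists_le_maximal J fun hJ => hne (by
    have : (1 : P) ∈ J := hJ ▸ Submodule.mem_top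
    simpa [J] using this)
  obtain ⟨s, hs, hsx⟩ := (flatOn_primeCompl_iff Q).mpr (h Q) I x hx0
  exact hs (hJQ hsx)

/-- A flat module is flat at every prime. -/
theorem flatAt_of_flat {A P : Type u} [CommRing A] [CommRing P] [Algebra A P] {M : Type u} [AddCommGroup M]
    [Module A M] [Module P M] [IsScalarTower A P M] [Module.Flat A M] (Q : Ideal P) [Q.IsPrime] :
    FlatCA.FlatAt A Q M := by
  rw [← flatOn_primeCompl_iff]
  intro I x hx
  refine ⟨1, Q.primeCompl.one_mem, ?_⟩
  rw [one_smul]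
  refine mulI_injective_of_flat (P := P) ?_
  rw [hx, map_zero]

variable {A : Subalgebra ℤ R}

theorem incl_comp {A B C : Subalgebra ℤ R} (h : A ≤ B) (h' : B ≤ C) :
    (Subalgebra.inclusion h').toRingHom.comp (Subalgebra.inclusion h).toRingHom =
      (Subalgebra.inclusion (h.trans h')).toRingHom :=
  RingHom.ext fun _ => rfl

theorem val_incl {A B : Subalgebra ℤ R} (h : A ≤ B) :
    B.val.toRingHom.comp (Subalgebra.inclusion h).toRingHom = A.val.toRingHom :=
  RingHom.ext fun _ => rfl

/-- Membership in an extended submodule descends to a finitely generated subalgebra. -/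
theorem exists_subalgebra_of_mem_baseN (hA : A.FG) (N : Submodule (MvPolynomial σ A) (κ → MvPolynomial σ A))
    {v : κ → MvPolynomial σ R} (hv : v ∈ baseN A.val.toRingHom N) :
    ∃ (A' : Subalgebra ℤ R) (_ : A'.FG) (hle : A ≤ A'),
      ∃ v' ∈ baseN (Subalgebra.inclusion hle).toRingHom N, mapF A'.val.toRingHom v' = v := by
  classical
  induction hv using Submodule.span_induction with
  | mem v hv =>
    obtain ⟨y, hy, rfl⟩ := hv
    refine ⟨A, hA, le_refl A, mapF (Subalgebra.inclusion (le_refl A)).toRingHom y, ?_, ?_⟩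
    · exact mapF_mem_baseN (φ := (Subalgebra.inclusion (le_refl A)).toRingHom) hy
    · rw [mapF_mapF, val_incl]
  | zero => exact ⟨A, hA, le_refl A, (0 : κ → MvPolynomial σ A), zero_mem _, map_zero _⟩
  | add a b _ _ ha hb =>
    obtain ⟨A₁, hA₁, h₁, a', ha', rfl⟩ := ha
    obtain ⟨A₂, hA₂, h₂, b', hb', rfl⟩ := hb
    have l₁ : A₁ ≤ A₁ ⊔ A₂ := le_sup_left
    have l₂ : A₂ ≤ A₁ ⊔ A₂ := le_sup_right
    refine ⟨A₁ ⊔ A₂, hA₁.sup hA₂, h₁.trans l₁,
      mapF (Subalgebra.inclusion l₁).toRingHom a' + mapF (Subalgebra.inclusion l₂).toRingHom b', add_mem ?_ ?_, ?_⟩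
    · have := mapF_mem_baseN (φ := (Subalgebra.inclusion l₁).toRingHom) ha'
      rwa [baseN_baseN, incl_comp] at this
    · have := mapF_mem_baseN (φ := (Subalgebra.inclusion l₂).toRingHom) hb'
      rwa [baseN_baseN, incl_comp] at this
    · rw [map_add, mapF_mapF, mapF_mapF, val_incl, val_incl]
  | smul c a _ ha =>
    obtain ⟨A₁, hA₁, h₁, a', ha', rfl⟩ := ha
    have l₁ : A₁ ≤ A₁ ⊔ Algebra.adjoin ℤ (c.coeffs : Set R) := le_sup_left
    have l₂ : Algebra.adjoin ℤ (c.coeffs : Set R) ≤ A₁ ⊔ Algebra.adjoin ℤ (c.coeffs : Set R) := le_sup_right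
    obtain ⟨c', hc'⟩ : ∃ c', MvPolynomial.map (A₁ ⊔ Algebra.adjoin ℤ (c.coeffs : Set R)).val.toRingHom c' = c :=
      mem_range_map_iff_coeffs_subset.mpr fun x hx => ⟨⟨x, l₂ (Algebra.subset_adjoin hx)⟩, rfl⟩
    refine ⟨_, hA₁.sup (Subalgebra.fg_adjoin_finset _), h₁.trans l₁,
      c' • mapF (Subalgebra.inclusion l₁).toRingHom a', Submodule.smul_mem _ _ ?_, ?_⟩
    · have := mapF_mem_baseN (φ := (Subalgebra.inclusion l₁).toRingHom) ha'
      rwa [baseN_baseN, incl_comp] at this
    · rw [mapF_smul, hc', mapF_mapF, val_incl]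

/-- The same, for several given elements. -/
theorem exists_subalgebra_forall_mem (hA : A.FG) (N : Submodule (MvPolynomial σ A) (κ → MvPolynomial σ A))
    (T : Finset (κ → MvPolynomial σ A)) (hT : ∀ y ∈ T, mapF A.val.toRingHom y ∈ baseN A.val.toRingHom N) :
    ∃ (A' : Subalgebra ℤ R) (_ : A'.FG) (hle : A ≤ A'),
      ∀ y ∈ T, mapF (Subalgebra.inclusion hle).toRingHom y ∈ baseN (Subalgebra.inclusion hle).toRingHom N := by
  classical
  induction T using Finset.induction with
  | empty => exact ⟨A, hA, le_rfl, fun y hy => (Finset.notMem_empty y hy).elim⟩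
  | insert y T _ ih =>
    obtain ⟨A₁, hA₁, h₁, hm⟩ := ih fun z hz => hT z (Finset.mem_insert_of_mem hz)
    obtain ⟨A₂, hA₂, h₂, v', hv', he⟩ := exists_subalgebra_of_mem_baseN hA N (hT y (Finset.mem_insert_self _ _))
    have hy : v' = mapF (Subalgebra.inclusion h₂).toRingHom y := by
      refine mapF_injective (φ := A₂.val.toRingHom) Subtype.val_injective ?_
      rw [he, mapF_mapF, val_incl]
    subst hy
    have l₁ : A₁ ≤ A₁ ⊔ A₂ := le_sup_left
    have l₂ : A₂ ≤ A₁ ⊔ A₂ := le_sup_right
    refine ⟨A₁ ⊔ A₂, hA₁.sup hA₂, h₁.trans l₁, fun z hz => ?_⟩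
    rcases Finset.mem_insert.mp hz with rfl | hz
    · have := mapF_mem_baseN (φ := (Subalgebra.inclusion l₂).toRingHom) hv'
      rwa [baseN_baseN, mapF_mapF, incl_comp] at this
    · have := mapF_mem_baseN (φ := (Subalgebra.inclusion l₁).toRingHom) (hm z hz)
      rwa [baseN_baseN, mapF_mapF, incl_comp] at this

/-- **EGA IV 11.2.6.1**: a flat finitely presented module over `R[x]` descends to a finite type `ℤ`-subalgebra. -/
theorem exists_flat_model {N : Submodule (MvPolynomial σ R) (κ → MvPolynomial σ R)} (hN : N.FG)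
    [Module.Flat R ((κ → MvPolynomial σ R) ⧸ N)] (A : Subalgebra ℤ R) (hA : A.FG) :
    ∃ (A₁ : Subalgebra ℤ R) (_ : A₁.FG) (_ : A ≤ A₁) (N₁ : Submodule (MvPolynomial σ A₁) (κ → MvPolynomial σ A₁)),
      baseN A₁.val.toRingHom N₁ = N ∧ ∀ (A₂ : Subalgebra ℤ R) (_ : A₂.FG) (hle : A₁ ≤ A₂),
        Module.Flat A₂ ((κ → MvPolynomial σ A₂) ⧸ baseN (Subalgebra.inclusion hle).toRingHom N₁) := by
  classical
  obtain ⟨A₀, hA₀, N₀, hN₀, hdesc⟩ := exists_finite_type_model hN
  choose! B hB hle hfl using fun q : PrimeSpectrum (MvPolynomial σ R) =>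
    hdesc q.asIdeal (flatAt_of_flat q.asIdeal)
  let U : PrimeSpectrum (MvPolynomial σ R) → Set (PrimeSpectrum (MvPolynomial σ R)) := fun q =>
    PrimeSpectrum.comap (map (B q).val.toRingHom) ⁻¹' {q' | FlatCA.FlatAt (B q) q'.asIdeal
      ((κ → MvPolynomial σ (B q)) ⧸ baseN (Subalgebra.inclusion (hle q)).toRingHom N₀)}
  have hU : ∀ q, IsOpen (U q) := fun q => by
    haveI : Algebra.FiniteType ℤ (B q) := ⟨(B q).fg_top.mpr (hB q)⟩
    haveI : IsNoetherianRing (B q) := Algebra.FiniteType.isNoetherianRing ℤ (B q)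
    exact (isOpen_flatLocus_of_isNoetherianRing _).preimage (PrimeSpectrum.continuous_comap _)
  obtain ⟨t, ht⟩ := CompactSpace.isCompact_univ.elim_finite_subcover U hU fun q _ =>
    Set.mem_iUnion.mpr ⟨q, hfl q⟩
  let A₂ := (A ⊔ A₀) ⊔ t.sup B
  have hA₂ : A₂.FG := by
    refine (hA.sup hA₀).sup ?_
    exact Finset.sup_induction Subalgebra.fg_bot (fun _ h₁ _ h₂ => h₁.sup h₂) fun q _ => hB q
  have h02 : A₀ ≤ A₂ := le_sup_right.trans le_sup_left
  let N₂ := baseN (Subalgebra.inclusion h02).toRingHom N₀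
  haveI : Algebra.FiniteType ℤ A₂ := ⟨A₂.fg_top.mpr hA₂⟩
  haveI : IsNoetherianRing A₂ := Algebra.FiniteType.isNoetherianRing ℤ A₂
  obtain ⟨s, hs⟩ := (PrimeSpectrum.isClosed_iff_zeroLocus _).mp
    (isOpen_flatLocus_of_isNoetherianRing (A := A₂) (N := N₂)).isClosed_compl
  let K := Ideal.span s
  have hK : ∀ Q : PrimeSpectrum (MvPolynomial σ A₂), K ≤ Q.asIdeal ↔
      ¬ FlatCA.FlatAt A₂ Q.asIdeal ((κ → MvPolynomial σ A₂) ⧸ N₂) := fun Q => by
    rw [Ideal.span_le, ← PrimeSpectrum.mem_zeroLocus, ← hs]; rfl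
  have htop : K.map (map A₂.val.toRingHom) = ⊤ := by
    by_contra hne
    obtain ⟨Q, hQ, hKQ⟩ := Ideal.exists_le_maximal _ hne
    let q : PrimeSpectrum (MvPolynomial σ R) := ⟨Q, hQ.isPrime⟩
    obtain ⟨q₀, hq₀, hmem⟩ : ∃ q₀ ∈ t, q ∈ U q₀ := by simpa using ht (Set.mem_univ q)
    have hB2 : B q₀ ≤ A₂ := (Finset.le_sup hq₀).trans le_sup_right
    let Q₂ : PrimeSpectrum (MvPolynomial σ A₂) := PrimeSpectrum.comap (map A₂.val.toRingHom) q
    refine (hK Q₂).mp (Ideal.map_le_iff_le_comap.mp hKQ) ?_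
    have h1 : Q₂.asIdeal.comap (map (Subalgebra.inclusion hB2).toRingHom) = q.asIdeal.comap (map (B q₀).val.toRingHom) := by
      show (q.asIdeal.comap _).comap _ = _
      rw [Ideal.comap_comap]
      congr 1
      refine RingHom.ext fun p => ?_
      rw [RingHom.comp_apply, MvPolynomial.map_map]
      rfl
    have := flatAt_baseN (Subalgebra.inclusion hB2).toRingHom _ Q₂.asIdeal
      (show FlatCA.FlatAt (B q₀) (Q₂.asIdeal.comap _) _ by simp only [h1]; exact hmem)
    rwa [baseN_baseN] at this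
  let NK : Submodule (MvPolynomial σ A₂) (Unit → MvPolynomial σ A₂) := Submodule.comap (LinearMap.proj () : (Unit → MvPolynomial σ A₂) →ₗ[MvPolynomial σ A₂] MvPolynomial σ A₂) K
  have h1 : mapF A₂.val.toRingHom (fun _ : Unit => (1 : MvPolynomial σ A₂)) ∈ baseN A₂.val.toRingHom NK := by
    have : ∀ p ∈ K.map (map A₂.val.toRingHom), (fun _ : Unit => p) ∈ baseN A₂.val.toRingHom NK := by
      intro p hp
      induction hp using Submodule.span_induction with
      | mem p hp =>
        obtain ⟨k, hk, rfl⟩ := hp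
        exact mapF_mem_baseN (x := fun _ : Unit => k) hk
      | zero => exact zero_mem _
      | add a b _ _ ha hb => exact add_mem ha hb
      | smul c a _ ha => exact Submodule.smul_mem _ c ha
    have h := this 1 (htop ▸ Submodule.mem_top)
    convert h using 1
    funext i
    simp
  obtain ⟨A₃, hA₃, h23, h1'⟩ := exists_subalgebra_forall_mem hA₂ NK {fun _ => 1} (by simpa using h1)
  have hK3 : (1 : MvPolynomial σ A₃) ∈ K.map (map (Subalgebra.inclusion h23).toRingHom) := by
    have hm := h1' _ (Finset.mem_singleton_self _)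
    have : ∀ v ∈ baseN (Subalgebra.inclusion h23).toRingHom NK,
        v () ∈ K.map (map (Subalgebra.inclusion h23).toRingHom) := by
      intro v hv
      induction hv using Submodule.span_induction with
      | mem v hv => obtain ⟨y, hy, rfl⟩ := hv; exact Ideal.mem_map_of_mem _ hy
      | zero => exact zero_mem _
      | add a b _ _ ha hb => exact add_mem ha hb
      | smul c a _ ha => exact Ideal.mul_mem_left _ c ha
    simpa using this _ hm
  refine ⟨A₃, hA₃, (le_sup_left.trans le_sup_left).trans h23, baseN (Subalgebra.inclusion h23).toRingHom N₂, ?_,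
    fun A₄ _ h34 => flat_of_flatAt (P := MvPolynomial σ A₄) fun Q _ => ?_⟩
  · rw [baseN_baseN, baseN_baseN]; exact hN₀
  · rw [baseN_baseN]
    refine flatAt_baseN _ N₂ Q ?_
    by_contra hbad
    have hle' := (hK ⟨_, Ideal.IsPrime.comap (hK := (inferInstance : Q.IsPrime)) _⟩).mpr hbad
    refine (Ideal.IsPrime.ne_top (inferInstance : Q.IsPrime)) ((Ideal.eq_top_iff_one Q).mpr ?_)
    have h4 := Ideal.mem_map_of_mem (map (Subalgebra.inclusion h34).toRingHom) hK3
    rw [map_one, Ideal.map_map] at h4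
    refine (Ideal.map_le_iff_le_comap.mpr ?_) h4
    intro p hp
    have h5 : MvPolynomial.map ((Subalgebra.inclusion h34).toRingHom.comp (Subalgebra.inclusion h23).toRingHom) p ∈ Q := hle' hp
    rw [Ideal.mem_comap, RingHom.comp_apply, MvPolynomial.map_map]
    exact h5

/-- Elements of an extended ideal are combinations with coefficients in the base. -/
theorem mem_span_of_mem_map {A₁ : Type u} [CommRing A₁] (φ : A₁ →+* R) (H : Ideal (MvPolynomial σ A₁))
    {x : MvPolynomial σ R} (hx : x ∈ H.map (map φ)) :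
    x ∈ Submodule.span R (map φ '' (H : Set (MvPolynomial σ A₁))) := by
  induction hx using Submodule.span_induction with
  | mem x hx => exact Submodule.subset_span hx
  | zero => exact zero_mem _
  | add a b _ _ ha hb => exact add_mem ha hb
  | smul c a hmem ha =>
    clear hmem
    rw [smul_eq_mul]
    induction ha using Submodule.span_induction with
    | zero => rw [mul_zero]; exact zero_mem _
    | add a b _ _ ha hb => rw [mul_add]; exact add_mem ha hb
    | smul r a _ ha => rw [mul_smul_comm]; exact Submodule.smul_mem _ r ha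
    | mem a ha =>
      obtain ⟨h, hh, rfl⟩ := ha
      induction c using MvPolynomial.induction_on' with
      | monomial d r =>
        rw [show monomial d r = r • map φ (monomial d 1) by rw [map_monomial, map_one, smul_monomial, smul_eq_mul, mul_one],
          smul_mul_assoc, ← map_mul]
        exact Submodule.smul_mem _ r (Submodule.subset_span ⟨_, H.mul_mem_left _ hh, rfl⟩)
      | add p q hp hq => rw [add_mul]; exact add_mem hp hq

end Groth.FlatDescent
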