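import Mathlib
import Groth.Agent.FlatDescent.Global
import Groth.Prelude.Def_FlatCA

/-!
# Flatness of finitely presented modules in a directed colimit of rings (EGA IV 11.2.6)

* `baseNEquiv`: the base change of a presented module;
* `exists_stage_eq`, `exists_stage_baseN_le`: equalities descend to a stage;
* `flat_iff_exists_stage`.
-/

universe u

open TensorProduct MvPolynomial

namespace Groth.FlatDescent

variable {σ κ : Type} [Finite σ] [Finite κ]

/-- Base change of a presented module. -/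
theorem baseNEquiv {A R : Type u} [CommRing A] [CommRing R] [Algebra A R]
    (N : Submodule (MvPolynomial σ A) (κ → MvPolynomial σ A)) :
    Nonempty (((κ → MvPolynomial σ R) ⧸ baseN (algebraMap A R) N) ≃ₗ[R] R ⊗[A] ((κ → MvPolynomial σ A) ⧸ N)) := by
  classical
  obtain ⟨Θ, hΘ, hΘ0⟩ := exists_back (R := R) N
  let M := (κ → MvPolynomial σ A) ⧸ N
  let MR := (κ → MvPolynomial σ R) ⧸ baseN (algebraMap A R) N
  let θ : MR →ₗ[R] R ⊗[A] M :=
    Submodule.liftQ ((baseN (algebraMap A R) N).restrictScalars R) Θ fun v hv => LinearMap.mem_ker.mpr (hΘ0 v hv)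
  let pre : (κ → MvPolynomial σ A) →ₗ[A] MR :=
    { toFun := fun y => Submodule.Quotient.mk (mapF (algebraMap A R) y)
      map_add' := fun a b => by rw [map_add]; rfl
      map_smul' := fun a y => by
        rw [RingHom.id_apply, ← Submodule.Quotient.mk_smul]
        congr 1
        funext i
        simp [Algebra.smul_def, MvPolynomial.algebraMap_apply] }
  let ι : M →ₗ[A] MR := Submodule.liftQ (N.restrictScalars A) pre
    fun v hv => LinearMap.mem_ker.mpr ((Submodule.Quotient.mk_eq_zero _).mpr (mapF_mem_baseN hv))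
  let back : R ⊗[A] M →ₗ[R] MR := LinearMap.liftBaseChange R ι
  have h1 : ∀ z, θ (back z) = z := by
    intro z
    induction z with
    | zero => simp
    | add a b ha hb => rw [map_add, map_add, ha, hb]
    | tmul r m =>
      obtain ⟨y, rfl⟩ := Submodule.Quotient.mk_surjective _ m
      rw [LinearMap.liftBaseChange_tmul, map_smul]
      show r • Θ (mapF (algebraMap A R) y) = _
      rw [hΘ, smul_tmul', smul_eq_mul, mul_one]
  have h2 : Function.Surjective back := by
    intro x
    obtain ⟨v, rfl⟩ := Submodule.Quotient.mk_surjective _ x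
    haveI := Fintype.ofFinite κ
    rw [← Finset.univ_sum_single v]
    let S : Submodule R (κ → MvPolynomial σ R) :=
      (LinearMap.range back).comap ((baseN (algebraMap A R) N).mkQ.restrictScalars R)
    show (∑ i, Pi.single i (v i)) ∈ S
    refine Submodule.sum_mem _ fun i _ => ?_
    induction v i using MvPolynomial.induction_on' with
    | monomial d a =>
      have : (Pi.single i (monomial d a) : κ → MvPolynomial σ R) =
          a • mapF (algebraMap A R) (Pi.single i (monomial d (1 : A))) := by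
        funext j
        by_cases hj : j = i
        · subst hj; simp [smul_monomial]
        · simp [Pi.single_eq_of_ne hj]
      rw [this]
      refine S.smul_mem _ ?_
      exact ⟨1 ⊗ₜ Submodule.Quotient.mk (Pi.single i (monomial d (1 : A))), by
        rw [LinearMap.liftBaseChange_tmul, one_smul]; rfl⟩
    | add p q hp hq => rw [Pi.single_add]; exact add_mem hp hq
  exact ⟨(LinearEquiv.ofBijective back ⟨fun a b hab => by rw [← h1 a, hab, h1], h2⟩).symm⟩

section Colim

variable {ι : Type u} [Preorder ι] {G : ι → Type u} [∀ i, CommRing (G i)] {g : ∀ i j, i ≤ j → G i →+* G j}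
  {A : Type u} [CommRing A] [∀ i, Algebra (G i) A] (hc : FlatCA.IsDirectedColimitRing G g A)

include hc

theorem exists_stage_forall_eq {i : ι} {α : Type*} (s : Finset α) (x y : α → G i)
    (h : ∀ a ∈ s, algebraMap (G i) A (x a) = algebraMap (G i) A (y a)) :
    ∃ j, ∃ hij : i ≤ j, ∀ a ∈ s, g i j hij (x a) = g i j hij (y a) := by
  classical
  induction s using Finset.induction with
  | empty => exact ⟨i, le_rfl, by simp⟩
  | insert a s ha ih =>
    obtain ⟨j, hij, hj⟩ := ih fun b hb => h b (Finset.mem_insert_of_mem hb)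
    obtain ⟨hdir, -, -, htr, hcomp, -, hker⟩ := hc
    obtain ⟨k, hik, hk⟩ := hker i (x a - y a) (by rw [map_sub, h a (Finset.mem_insert_self a s), sub_self])
    obtain ⟨l, hjl, hkl⟩ := hdir.directed j k
    refine ⟨l, hij.trans hjl, fun b hb => ?_⟩
    rcases Finset.mem_insert.mp hb with rfl | hb
    · rw [← sub_eq_zero, ← map_sub, ← htr i k l hik hkl, RingHom.comp_apply, hk, map_zero]
    · rw [← htr i j l hij hjl, RingHom.comp_apply, RingHom.comp_apply, hj b hb]

theorem exists_stage_eq {i : ι} (x y : κ → MvPolynomial σ (G i))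
    (h : mapF (algebraMap (G i) A) x = mapF (algebraMap (G i) A) y) :
    ∃ j, ∃ hij : i ≤ j, mapF (g i j hij) x = mapF (g i j hij) y := by
  classical
  haveI := Fintype.ofFinite κ
  obtain ⟨j, hij, hj⟩ := exists_stage_forall_eq hc
    ((Finset.univ : Finset κ).sigma fun k => (x k).support ∪ (y k).support)
    (fun a => (x a.1).coeff a.2) (fun a => (y a.1).coeff a.2) (fun a _ => by
      rw [← MvPolynomial.coeff_map, ← MvPolynomial.coeff_map, ← mapF_apply, h, mapF_apply])
  refine ⟨j, hij, funext fun k => MvPolynomial.ext _ _ fun d => ?_⟩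
  rw [mapF_apply, mapF_apply, MvPolynomial.coeff_map, MvPolynomial.coeff_map]
  by_cases hd : d ∈ (x k).support ∪ (y k).support
  · exact hj ⟨k, d⟩ (Finset.mem_sigma.mpr ⟨Finset.mem_univ _, hd⟩)
  · rw [Finset.mem_union, not_or, notMem_support_iff, notMem_support_iff] at hd
    rw [hd.1, hd.2]

theorem exists_stage_baseN_le {B B' : Type u} [CommRing B] [CommRing B'] {i : ι} (φ : B →+* G i) (φ' : B' →+* G i)
    {N : Submodule (MvPolynomial σ B) (κ → MvPolynomial σ B)} (hN : N.FG)
    (N' : Submodule (MvPolynomial σ B') (κ → MvPolynomial σ B'))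
    (h : baseN ((algebraMap (G i) A).comp φ) N ≤ baseN ((algebraMap (G i) A).comp φ') N') :
    ∃ j, ∃ hij : i ≤ j, baseN ((g i j hij).comp φ) N ≤ baseN ((g i j hij).comp φ') N' := by
  classical
  obtain ⟨hdir, hne, hrefl, htr, hcomp, hsurj, hker⟩ := hc
  obtain ⟨T, rfl⟩ := hN
  suffices hone : ∀ v : κ → MvPolynomial σ B, mapF ((algebraMap (G i) A).comp φ) v ∈ baseN ((algebraMap (G i) A).comp φ') N' →
      ∃ j, ∃ hij : i ≤ j, mapF ((g i j hij).comp φ) v ∈ baseN ((g i j hij).comp φ') N' by
    have hall : ∃ j, ∃ hij : i ≤ j, ∀ v ∈ T, mapF ((g i j hij).comp φ) v ∈ baseN ((g i j hij).comp φ') N' := by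
      have key : ∀ U : Finset (κ → MvPolynomial σ B), U ⊆ T →
          ∃ j, ∃ hij : i ≤ j, ∀ v ∈ U, mapF ((g i j hij).comp φ) v ∈ baseN ((g i j hij).comp φ') N' := by
        intro U hU
        induction U using Finset.induction with
        | empty => exact ⟨i, le_rfl, by simp⟩
        | insert a U ha ih =>
          obtain ⟨j, hij, hj⟩ := ih fun b hb => hU (Finset.mem_insert_of_mem hb)
          obtain ⟨k, hik, hk⟩ := hone a (h (mapF_mem_baseN (Submodule.subset_span (hU (Finset.mem_insert_self a U)))))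
          obtain ⟨l, hjl, hkl⟩ := hdir.directed j k
          refine ⟨l, hij.trans hjl, fun b hb => ?_⟩
          have hpush : ∀ (m : ι) (him : i ≤ m) (hml : m ≤ l),
              mapF ((g i m him).comp φ) b ∈ baseN ((g i m him).comp φ') N' →
              mapF ((g i l (him.trans hml)).comp φ) b ∈ baseN ((g i l (him.trans hml)).comp φ') N' := by
            intro m him hml hm
            rw [← htr i m l him hml, RingHom.comp_assoc, RingHom.comp_assoc, ← mapF_mapF, ← baseN_baseN]
            exact mapF_mem_baseN hm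
          rcases Finset.mem_insert.mp hb with rfl | hb
          · exact hpush k hik hkl hk
          · exact hpush j hij hjl (hj b hb)
      exact key T subset_rfl
    obtain ⟨j, hij, hj⟩ := hall
    refine ⟨j, hij, Submodule.span_le.mpr ?_⟩
    rintro _ ⟨v, hv, rfl⟩
    induction hv using Submodule.span_induction with
    | mem v hv => exact hj v hv
    | zero => rw [map_zero]; exact zero_mem _
    | add a b _ _ ha hb => rw [map_add]; exact add_mem ha hb
    | smul c a _ ha => rw [mapF_smul]; exact Submodule.smul_mem _ _ ha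
  intro v hv
  obtain ⟨S, hS⟩ := exists_finset_mem N' ((algebraMap (G i) A).comp φ') hv
  have hpre : ∀ U : Finset A, ∃ k, ∃ _ : i ≤ k, (U : Set A) ⊆ Set.range (algebraMap (G k) A) := by
    intro U
    induction U using Finset.induction with
    | empty => exact ⟨i, le_rfl, by simp⟩
    | insert a U ha ih =>
      obtain ⟨k, hik, hk⟩ := ih
      obtain ⟨m, x, rfl⟩ := hsurj a
      obtain ⟨l, hkl, hml⟩ := hdir.directed k m
      refine ⟨l, hik.trans hkl, ?_⟩
      rw [Finset.coe_insert, Set.insert_subset_iff]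
      refine ⟨⟨g m l hml x, RingHom.congr_fun (hcomp m l hml) x⟩, fun b hb => ?_⟩
      obtain ⟨y, rfl⟩ := hk hb
      exact ⟨g k l hkl y, RingHom.congr_fun (hcomp k l hkl) y⟩
  obtain ⟨k, hik, hk⟩ := hpre S
  obtain ⟨x', hx', hx'eq⟩ := hS (G k) ((g i k hik).comp φ') (algebraMap (G k) A)
    (by rw [← RingHom.comp_assoc, hcomp i k hik]) hk
  obtain ⟨j, hkj, hj⟩ := exists_stage_eq ⟨hdir, hne, hrefl, htr, hcomp, hsurj, hker⟩ (i := k) x'
    (mapF ((g i k hik).comp φ) v) (by rw [hx'eq, mapF_mapF, ← RingHom.comp_assoc, hcomp i k hik])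
  refine ⟨j, hik.trans hkj, ?_⟩
  rw [← htr i k j hik hkj, RingHom.comp_assoc, RingHom.comp_assoc, ← mapF_mapF, ← baseN_baseN, ← hj]
  exact mapF_mem_baseN hx'

theorem exists_stage_lift {A₁ : Type u} [CommRing A₁] [Algebra.FinitePresentation ℤ A₁] (ψ : A₁ →+* A) (i₀ : ι) :
    ∃ i, ∃ _ : i₀ ≤ i, ∃ ψ' : A₁ →+* G i, (algebraMap (G i) A).comp ψ' = ψ := by
  classical
  obtain ⟨hdir, hne, hrefl, htr, hcomp, hsurj, hker⟩ := hc
  obtain ⟨n, π, hπ, T, hT⟩ := Algebra.FinitePresentation.out (R := ℤ) (A := A₁)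
  obtain ⟨k, hk0, hk⟩ : ∃ k, i₀ ≤ k ∧ ∀ l : Fin n, ψ (π (X l)) ∈ Set.range (algebraMap (G k) A) := by
    have key : ∀ U : Finset (Fin n), ∃ k, i₀ ≤ k ∧ ∀ l ∈ U, ψ (π (X l)) ∈ Set.range (algebraMap (G k) A) := by
      intro U
      induction U using Finset.induction with
      | empty => exact ⟨i₀, le_rfl, by simp⟩
      | insert a U ha ih =>
        obtain ⟨k, hik, hk⟩ := ih
        obtain ⟨m, x, hx⟩ := hsurj (ψ (π (X a)))
        obtain ⟨l, hkl, hml⟩ := hdir.directed k m
        refine ⟨l, hik.trans hkl, fun b hb => ?_⟩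
        rcases Finset.mem_insert.mp hb with rfl | hb
        · exact ⟨g m l hml x, (RingHom.congr_fun (hcomp m l hml) x).trans hx⟩
        · obtain ⟨y, hy⟩ := hk b hb
          exact ⟨g k l hkl y, (RingHom.congr_fun (hcomp k l hkl) y).trans hy⟩
    obtain ⟨k, h1, h2⟩ := key Finset.univ
    exact ⟨k, h1, fun l => h2 l (Finset.mem_univ l)⟩
  choose xs hxs using hk
  let e : MvPolynomial (Fin n) ℤ →+* G k := eval₂Hom (Int.castRingHom _) xs
  have he : (algebraMap (G k) A).comp e = ψ.comp π.toRingHom := by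
    refine MvPolynomial.ringHom_ext (fun z => by simp [e]) fun l => ?_
    simp [e, hxs]
  obtain ⟨j, hkj, hj⟩ := exists_stage_forall_eq ⟨hdir, hne, hrefl, htr, hcomp, hsurj, hker⟩ T (fun t => e t)
    (fun _ => 0) fun t ht => by
      rw [map_zero]
      have := RingHom.congr_fun he t
      simp only [RingHom.comp_apply] at this
      rw [this, show π.toRingHom t = 0 from RingHom.mem_ker.mp (hT ▸ Ideal.subset_span ht :), map_zero]
  have hle : RingHom.ker π.toRingHom ≤ RingHom.ker ((g k j hkj).comp e) := by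
    rw [← hT, Submodule.span_le]
    intro t ht
    exact (hj t ht).trans (map_zero _)
  let ψ' : A₁ →+* G j := RingHom.liftOfSurjective π.toRingHom hπ ⟨(g k j hkj).comp e, hle⟩
  refine ⟨j, hk0.trans hkj, ψ', RingHom.ext fun a => ?_⟩
  obtain ⟨t, rfl⟩ := hπ a
  show algebraMap (G j) A (ψ' (π.toRingHom t)) = ψ (π.toRingHom t)
  rw [RingHom.liftOfSurjective_comp_apply]
  show algebraMap (G j) A (g k j hkj (e t)) = _
  rw [← RingHom.comp_apply, hcomp k j hkj, ← RingHom.comp_apply, he]
  rfl

end Colim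

/-- **Flatness descends along directed colimits of rings** (EGA IV 11.2.6). -/
theorem flat_iff_exists_stage {A₀ : Type u} [CommRing A₀] {ι : Type u} [Preorder ι] {G : ι → Type u}
    [∀ i, CommRing (G i)] [∀ i, Algebra A₀ (G i)] (g : ∀ i j, i ≤ j → G i →ₐ[A₀] G j)
    {A : Type u} [CommRing A] [Algebra A₀ A] [∀ i, Algebra (G i) A] [∀ i, IsScalarTower A₀ (G i) A]
    (hc : FlatCA.IsDirectedColimitRing G (fun i j h => (g i j h).toRingHom) A)
    {B₀ : Type u} [CommRing B₀] [Algebra A₀ B₀] [Algebra.FinitePresentation A₀ B₀]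
    (M₀ : Type u) [AddCommGroup M₀] [Module B₀ M₀] [Module A₀ M₀] [IsScalarTower A₀ B₀ M₀]
    [Module.FinitePresentation B₀ M₀] :
    Module.Flat A (A ⊗[A₀] M₀) ↔ ∃ i : ι, Module.Flat (G i) (G i ⊗[A₀] M₀) := by
  classical
  refine ⟨fun hflat => ?_, fun ⟨i, hi⟩ => ?_⟩
  swap
  · exact Module.Flat.of_linearEquiv (AlgebraTensorModule.cancelBaseChange A₀ (G i) A A M₀).symm
  obtain ⟨n, k, π, hπ, N, hN, f, hf, hsmul, hker⟩ := exists_presentation A₀ B₀ M₀
  let F : ((Fin k → MvPolynomial (Fin n) A₀) ⧸ N) ≃ₗ[A₀] M₀ := by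
    let f' : (Fin k → MvPolynomial (Fin n) A₀) →ₗ[A₀] M₀ :=
      { f with map_smul' := fun a x => (by
          rw [← algebraMap_smul (MvPolynomial (Fin n) A₀) a x, hsmul, AlgHom.commutes, algebraMap_smul] :
            f (a • x) = a • f x) }
    exact (Submodule.Quotient.restrictScalarsEquiv A₀ N).symm ≪≫ₗ
      (Submodule.quotEquivOfEq (N.restrictScalars A₀) (LinearMap.ker f') (by ext x; exact (hker x).symm)) ≪≫ₗ
      (f'.quotKerEquivOfSurjective hf)
  have hEA := baseNEquiv (R := A) N
  obtain ⟨EA⟩ := hEA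
  haveI : Module.Flat A ((Fin k → MvPolynomial (Fin n) A) ⧸ baseN (algebraMap A₀ A) N) :=
    Module.Flat.of_linearEquiv (EA.trans (F.baseChange A₀ A _ _))
  have hNA : (baseN (σ := Fin n) (algebraMap A₀ A) N).FG := by
    obtain ⟨T, rfl⟩ := hN
    refine ⟨T.image (mapF (algebraMap A₀ A)), le_antisymm (Submodule.span_le.mpr ?_) (Submodule.span_le.mpr ?_)⟩
    · intro v hv
      obtain ⟨y, hy, rfl⟩ := Finset.mem_image.mp hv
      exact mapF_mem_baseN (Submodule.subset_span hy)
    · rintro _ ⟨v, hv, rfl⟩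
      induction hv using Submodule.span_induction with
      | mem v hv => exact Submodule.subset_span (Finset.mem_image_of_mem _ hv)
      | zero => rw [map_zero]; exact zero_mem _
      | add a b _ _ ha hb => rw [map_add]; exact add_mem ha hb
      | smul c a _ ha => rw [mapF_smul]; exact Submodule.smul_mem _ _ ha
  obtain ⟨A₁, hA₁, -, N₁, hN₁, hfl⟩ := exists_flat_model hNA ⊥ Subalgebra.fg_bot
  haveI : Algebra.FiniteType ℤ A₁ := ⟨A₁.fg_top.mpr hA₁⟩
  haveI : IsNoetherianRing A₁ := Algebra.FiniteType.isNoetherianRing ℤ A₁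
  haveI : Algebra.FinitePresentation ℤ A₁ := Algebra.FinitePresentation.of_finiteType.mp inferInstance
  have hflat1 : Module.Flat A₁ ((Fin k → MvPolynomial (Fin n) A₁) ⧸ N₁) := by
    have h := hfl A₁ hA₁ le_rfl
    have hid : baseN (Subalgebra.inclusion (le_refl A₁)).toRingHom N₁ = N₁ := by
      have : (Subalgebra.inclusion (le_refl A₁)).toRingHom = RingHom.id A₁ := RingHom.ext fun _ => rfl
      rw [this]
      refine le_antisymm (Submodule.span_le.mpr ?_) fun v hv => ?_
      · rintro _ ⟨v, hv, rfl⟩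
        rwa [show mapF (RingHom.id A₁) v = v from funext fun i => MvPolynomial.map_id _]
      · have := mapF_mem_baseN (φ := RingHom.id A₁) hv
        rwa [show mapF (RingHom.id A₁) v = v from funext fun i => MvPolynomial.map_id _] at this
    rwa [hid] at h
  obtain ⟨i₀⟩ := hc.2.1
  obtain ⟨i, -, ψ, hψ⟩ := exists_stage_lift hc A₁.val.toRingHom i₀
  have hi : (algebraMap (G i) A).comp (algebraMap A₀ (G i)) = algebraMap A₀ A := (IsScalarTower.algebraMap_eq _ _ _).symm
  have hN₁fg : N₁.FG := IsNoetherian.noetherian N₁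
  obtain ⟨j, hij, hj⟩ := exists_stage_baseN_le hc (algebraMap A₀ (G i)) ψ hN N₁ (by rw [hi, hψ, hN₁])
  obtain ⟨l, hjl, hl⟩ := exists_stage_baseN_le hc ((g i j hij).toRingHom.comp ψ)
    ((g i j hij).toRingHom.comp (algebraMap A₀ (G i))) hN₁fg N (by
      rw [← RingHom.comp_assoc, ← RingHom.comp_assoc, hc.2.2.2.2.1 i j hij, hi, hψ, hN₁])
  refine ⟨l, ?_⟩
  have hj0 : ((g i j hij).toRingHom.comp (algebraMap A₀ (G i))) = algebraMap A₀ (G j) := (g i j hij).comp_algebraMap
  have hl0 : ((g j l hjl).toRingHom.comp (algebraMap A₀ (G j))) = algebraMap A₀ (G l) := (g j l hjl).comp_algebraMap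
  let ψl : A₁ →+* G l := (g j l hjl).toRingHom.comp ((g i j hij).toRingHom.comp ψ)
  have heq : baseN ψl N₁ = baseN (algebraMap A₀ (G l)) N := by
    refine le_antisymm ?_ ?_
    · rw [hj0, hl0] at hl
      exact hl
    · rw [hj0] at hj
      have := baseN_mono (φ := (g j l hjl).toRingHom) hj
      rw [baseN_baseN, baseN_baseN, hl0] at this
      exact this
  obtain ⟨El⟩ := baseNEquiv (R := G l) N
  haveI : Module.Flat (G l) ((Fin k → MvPolynomial (Fin n) (G l)) ⧸ baseN ψl N₁) :=
    flat_of_flatAt (P := MvPolynomial (Fin n) (G l)) fun Q _ => flatAt_baseN ψl N₁ Q (flatAt_of_flat _)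
  exact Module.Flat.of_linearEquiv ((El.trans (F.baseChange A₀ (G l) _ _)).symm.trans
    ((Submodule.quotEquivOfEq _ _ heq.symm).restrictScalars (G l)))

end Groth.FlatDescent
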