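import Mathlib
import Groth.Prelude.Def_FlatMod2
import Groth.Agent.QCohLib.StalkRestrict

/-!
# Flatness over the base under isomorphisms and restriction to open immersions
-/

universe u

open CategoryTheory CategoryTheory.Limits AlgebraicGeometry Groth.Agent.QCohLib

set_option backward.isDefEq.respectTransparency false

namespace Groth.FlatDescent

variable {X Y S : Scheme.{u}}

theorem isFlatOverAt_congr {M N : X.Modules} (e : M ≅ N) (f : X ⟶ S) (x : X) :
    FlatMod.IsFlatOverAt f M x ↔ FlatMod.IsFlatOverAt f N x := by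
  letI := FlatMod.moduleStalkOver f M x
  letI := FlatMod.moduleStalkOver f N x
  let l : M.presheaf.stalk x →ₗ[S.presheaf.stalk (f.base x)] N.presheaf.stalk x :=
    { toFun := stalkLinearMap e.hom x
      map_add' := map_add _
      map_smul' := fun r a => (stalkLinearMap e.hom x).map_smul ((f.stalkMap x).hom r) a }
  have h : Function.Bijective (stalkHom e.hom x) := (isIso_iff_stalk_bijective e.hom).mp inferInstance x
  exact Module.Flat.equiv_iff (LinearEquiv.ofBijective l
    ⟨fun a b hab => h.1 (by rwa [← stalkLinearMap_apply, ← stalkLinearMap_apply]), fun b => by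
      obtain ⟨a, ha⟩ := h.2 b
      exact ⟨a, (stalkLinearMap_apply e.hom x a).trans ha⟩⟩)

theorem restrictStalk_smul (k : Y ⟶ X) [IsOpenImmersion k] (M : X.Modules) (y : Y) (r : X.presheaf.stalk (k y))
    (a : ((Scheme.Modules.restrictFunctor k).obj M).presheaf.stalk y) :
    (restrictStalkIso k M y).hom (k.stalkMap y r • a) = r • (restrictStalkIso k M y).hom a := by
  obtain ⟨W, hyW, t, rfl⟩ := X.presheaf.exists_germ_eq r
  obtain ⟨U, hyU, m, rfl⟩ := TopCat.Presheaf.exists_germ_eq _ a
  let V : Y.Opens := U ⊓ k ⁻¹ᵁ W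
  have hyV : y ∈ V := ⟨hyU, hyW⟩
  let m' := ((Scheme.Modules.restrictFunctor k).obj M).presheaf.map (homOfLE (inf_le_left : V ≤ U)).op m
  have hm : ((Scheme.Modules.restrictFunctor k).obj M).presheaf.germ U y hyU m =
      ((Scheme.Modules.restrictFunctor k).obj M).presheaf.germ V y hyV m' :=
    (TopCat.Presheaf.germ_res_apply _ (homOfLE (inf_le_left : V ≤ U)) y hyV m).symm
  let t' : Γ(Y, V) := Y.presheaf.map (homOfLE (inf_le_right : V ≤ k ⁻¹ᵁ W)).op (k.app W t)
  have ht : k.stalkMap y (X.presheaf.germ W (k y) hyW t) = Y.presheaf.germ V y hyV t' := by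
    rw [Scheme.Hom.germ_stalkMap_apply]
    exact (TopCat.Presheaf.germ_res_apply _ (homOfLE (inf_le_right : V ≤ k ⁻¹ᵁ W)) y hyV _).symm
  rw [hm, ht, ← germ_smul]
  have hkV : k y ∈ k ''ᵁ V := ⟨y, hyV, rfl⟩
  have key : ∀ z : Γ((Scheme.Modules.restrictFunctor k).obj M, V),
      (restrictStalkIso k M y).hom (((Scheme.Modules.restrictFunctor k).obj M).presheaf.germ V y hyV z) =
        M.presheaf.germ (k ''ᵁ V) (k y) hkV z :=
    fun z => ConcreteCategory.congr_hom (Scheme.Modules.germ_restrictStalkNatIso_hom_app k y M hyV) z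
  rw [key, key]
  change M.presheaf.germ (k ''ᵁ V) (k y) hkV ((k.appIso V).inv t' • (show Γ(M, k ''ᵁ V) from m')) = _
  rw [germ_smul]
  refine congrArg (· • _) ?_
  -- `germ (appIso.inv t') = r`
  apply (ConcreteCategory.bijective_of_isIso (k.stalkMap y)).1
  rw [Scheme.Hom.germ_stalkMap_apply, ht]
  have h2 : k.app (k ''ᵁ V) ((k.appIso V).inv t') = Y.presheaf.map (eqToHom (k.preimage_image_eq V)).op t' :=
    ConcreteCategory.congr_hom (k.appIso_inv_app V) t'
  rw [h2]
  exact TopCat.Presheaf.germ_res_apply _ (eqToHom (k.preimage_image_eq V)) y _ t'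

theorem isFlatOverAt_restrict (k : Y ⟶ X) [IsOpenImmersion k] (f : X ⟶ S) (M : X.Modules) (y : Y) :
    FlatMod.IsFlatOverAt (k ≫ f) ((Scheme.Modules.restrictFunctor k).obj M) y ↔
      FlatMod.IsFlatOverAt f M (k y) := by
  letI : Module (S.presheaf.stalk (f (k y))) (((Scheme.Modules.restrictFunctor k).obj M).presheaf.stalk y) :=
    FlatMod.moduleStalkOver (k ≫ f) ((Scheme.Modules.restrictFunctor k).obj M) y
  letI : Module (S.presheaf.stalk (f (k y))) (M.presheaf.stalk (k y)) := FlatMod.moduleStalkOver f M (k y)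
  let l : ((Scheme.Modules.restrictFunctor k).obj M).presheaf.stalk y →ₗ[S.presheaf.stalk (f (k y))]
      M.presheaf.stalk (k y) :=
    { toFun := fun a => (restrictStalkIso k M y).hom a
      map_add' := fun a b => map_add (restrictStalkIso k M y).hom.hom a b
      map_smul' := fun c a => by
        change (restrictStalkIso k M y).hom ((k ≫ f).stalkMap y c • a) = (f.stalkMap (k y) c) • _
        rw [Scheme.Hom.stalkMap_comp, CommRingCat.comp_apply, restrictStalk_smul]
        rfl }
  exact (Module.Flat.equiv_iff (R := S.presheaf.stalk (f (k y))) (LinearEquiv.ofBijective l (restrictStalkIso_bijective k M y)) :)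

end Groth.FlatDescent
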