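import Mathlib
import Groth.Agent.FlatDescent.Scheme
import Groth.Agent.QCohLib.StalkLoc
import Groth.Prelude.Def_FlatMod2

/-!
# Flatness over the base of quasi-coherent modules: charts and openness

* `appLEModule`: sections of a module over the ring of an affine open of the base;
* `isFlatOverAt_iff`: chart criterion;
* `isOpen_flatLocus_sheaf`: openness of the flat locus (EGA IV 11.3.1).
-/

universe u

open AlgebraicGeometry CategoryTheory Limits Groth.Agent.QCohLib

namespace Groth.FlatDescent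

variable {X Y : Scheme.{u}}

/-- Sections over `U` as a module over the sections of `V`. -/
@[reducible]
noncomputable def appLEModule (f : X ⟶ Y) (M : X.Modules) (V : Y.Opens) (U : X.Opens) (e : U ≤ f ⁻¹ᵁ V) :
    Module Γ(Y, V) Γ(M, U) :=
  Module.compHom _ (f.appLE V U e).hom

/-- Flatness of a quasi-coherent module over the base, in affine charts. -/
theorem isFlatOverAt_iff (f : X ⟶ Y) (M : X.Modules) [M.IsQuasicoherent] {V : Y.Opens} (hV : IsAffineOpen V)
    {U : X.Opens} (hU : IsAffineOpen U) (e : U ≤ f ⁻¹ᵁ V) {x : X} (hx : x ∈ U) :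
    FlatMod.IsFlatOverAt f M x ↔
      letI := (f.appLE V U e).hom.toAlgebra
      letI := appLEModule f M V U e
      haveI : IsScalarTower Γ(Y, V) Γ(X, U) Γ(M, U) := IsScalarTower.of_algebraMap_smul fun _ _ => rfl
      FlatCA.FlatAt Γ(Y, V) (hU.primeIdealOf ⟨x, hx⟩).asIdeal Γ(M, U) := by
  letI := (f.appLE V U e).hom.toAlgebra
  letI := appLEModule f M V U e
  haveI : IsScalarTower Γ(Y, V) Γ(X, U) Γ(M, U) := IsScalarTower.of_algebraMap_smul fun _ _ => rfl
  letI := Y.presheaf.algebra_section_stalk (U := V) ⟨f x, e hx⟩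
  haveI := hV.isLocalization_stalk ⟨f x, e hx⟩
  letI : Module (Y.presheaf.stalk (f x)) (M.presheaf.stalk x) := FlatMod.moduleStalkOver f M x
  letI := germModule M x hx
  letI : Module Γ(Y, V) (M.presheaf.stalk x) :=
    Module.compHom _ (algebraMap Γ(Y, V) (Y.presheaf.stalk (f x)))
  haveI : IsScalarTower Γ(Y, V) (Y.presheaf.stalk (f x)) (M.presheaf.stalk x) :=
    IsScalarTower.of_algebraMap_smul fun _ _ => rfl
  haveI : IsScalarTower Γ(Y, V) Γ(X, U) (M.presheaf.stalk x) := IsScalarTower.of_algebraMap_smul fun b m => by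
    show X.presheaf.germ U x hx (f.appLE V U e b) • m = (f.stalkMap x) (Y.presheaf.germ V (f x) (e hx) b) • m
    rw [Scheme.Hom.germ_stalkMap_apply, Scheme.Hom.appLE, CommRingCat.comp_apply, TopCat.Presheaf.germ_res_apply]
  haveI := isLocalizedModule_germ (M := M) hU x hx
  rw [← flatOn_primeCompl_iff,
    flatOn_iff_flat (A := Γ(Y, V)) (hU.primeIdealOf ⟨x, hx⟩).asIdeal.primeCompl (germLinearMap M x hx)]
  exact (Module.flat_iff_of_isLocalization (Y.presheaf.stalk (f x))
    (hV.primeIdealOf ⟨f x, e hx⟩).asIdeal.primeCompl (M.presheaf.stalk x))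

/-- **Openness of the flat locus** of a module of finite presentation. -/
theorem isOpen_flatLocus_sheaf (f : X ⟶ Y) [LocallyOfFinitePresentation f] (M : X.Modules) [M.IsQuasicoherent]
    (hM : M.IsFinitePresentation) : IsOpen {x : X | FlatMod.IsFlatOverAt f M x} := by
  refine isOpen_iff_forall_mem_open.mpr fun x hx => ?_
  obtain ⟨_, ⟨V, hV, rfl⟩, hxV, -⟩ := Y.isBasis_affineOpens.exists_subset_of_mem_open (Set.mem_univ (f x)) isOpen_univ
  obtain ⟨_, ⟨U, hU, rfl⟩, hxU, e⟩ := X.isBasis_affineOpens.exists_subset_of_mem_open hxV (f ⁻¹ᵁ V).2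
  letI := (f.appLE V U e).hom.toAlgebra
  letI := appLEModule f M V U e
  haveI : IsScalarTower Γ(Y, V) Γ(X, U) Γ(M, U) := IsScalarTower.of_algebraMap_smul fun _ _ => rfl
  haveI : Algebra.FinitePresentation Γ(Y, V) Γ(X, U) :=
    HasRingHomProperty.appLE @LocallyOfFinitePresentation f inferInstance ⟨V, hV⟩ ⟨U, hU⟩ e
  haveI := finitePresentation_sections (M := M) hM hU
  let O : Set (PrimeSpectrum Γ(X, U)) := {P | FlatCA.FlatAt Γ(Y, V) P.asIdeal Γ(M, U)}
  have hO : IsOpen O := isOpen_flatLocus_fp Γ(Y, V) Γ(M, U)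
  refine ⟨hU.fromSpec '' O, ?_, hU.fromSpec.isOpenEmbedding.isOpenMap _ hO,
    ⟨hU.primeIdealOf ⟨x, hxU⟩, (isFlatOverAt_iff f M hV hU e hxU).mp hx, hU.fromSpec_primeIdealOf ⟨x, hxU⟩⟩⟩
  rintro _ ⟨P, hP, rfl⟩
  have hx' : hU.fromSpec P ∈ U := hU.range_fromSpec.le ⟨P, rfl⟩
  refine (isFlatOverAt_iff f M hV hU e hx').mpr ?_
  have : hU.primeIdealOf ⟨hU.fromSpec P, hx'⟩ = P :=
    hU.fromSpec.isOpenEmbedding.injective (hU.fromSpec_primeIdealOf _)
  simp only [this]
  exact hP

end Groth.FlatDescent
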