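import Mathlib
import Groth.Agent.MLMod.NilFlat

/-!
# Fibrewise criterion of flatness, nilpotent ideals

* `rTensor_injective_of_flat`: for `M` flat over `R`, `I S ⊗ M → M` is injective;
* `flat_of_flat_mod_nilpotent`.
-/

universe u

open TensorProduct

namespace Groth.FlatDescent

/-- For `M` flat over the base, `(m S) ⊗ M → M` is injective. -/
theorem rTensor_injective_of_flat {R S M : Type u} [CommRing R] [CommRing S] [Algebra R S] (m : Ideal R)
    [AddCommGroup M] [Module S M] [Module R M] [IsScalarTower R S M] [Module.Flat R M] :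
    Function.Injective ((m.map (algebraMap R S) : Ideal S).subtype.rTensor M) := by
  refine (injective_iff_map_eq_zero _).mpr fun x hx => ?_
  let e : m →ₗ[R] (m.map (algebraMap R S) : Ideal S) :=
    { toFun := fun a => ⟨algebraMap R S a, Ideal.mem_map_of_mem _ a.2⟩
      map_add' := fun a b => Subtype.ext (map_add (algebraMap R S) (a : R) b)
      map_smul' := fun a b => Subtype.ext (by simp [Algebra.smul_def]) }
  let ψ : m ⊗[R] M →ₗ[R] (m.map (algebraMap R S) : Ideal S) ⊗[S] M :=
    TensorProduct.lift (((TensorProduct.mk S (m.map (algebraMap R S) : Ideal S) M).restrictScalars₁₂ R R).comp e)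
  have hψ : Function.Surjective ψ := by
    intro z
    induction z with
    | zero => exact ⟨0, map_zero _⟩
    | add a b ha hb =>
      obtain ⟨a, rfl⟩ := ha; obtain ⟨b, rfl⟩ := hb
      exact ⟨a + b, map_add _ _ _⟩
    | tmul i y =>
      obtain ⟨i, hi⟩ := i
      induction hi using Submodule.span_induction generalizing y with
      | mem i hi =>
        obtain ⟨a, ha, rfl⟩ := hi
        exact ⟨⟨a, ha⟩ ⊗ₜ y, rfl⟩
      | zero => exact ⟨0, by rw [map_zero]; exact (zero_tmul _ y).symm⟩
      | add a b ha hb iha ihb =>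
        obtain ⟨a', ha'⟩ := iha y; obtain ⟨b', hb'⟩ := ihb y
        refine ⟨a' + b', ?_⟩
        rw [map_add, ha', hb', ← add_tmul]
        rfl
      | smul c a ha iha =>
        obtain ⟨a', ha'⟩ := iha (c • y)
        refine ⟨a', ?_⟩
        rw [ha', tmul_smul, smul_tmul']
        rfl
  obtain ⟨w, rfl⟩ := hψ x
  suffices w = 0 by rw [this, map_zero]
  refine Module.Flat.rTensor_preserves_injective_linearMap (M := M) m.subtype Subtype.val_injective ?_
  rw [map_zero]
  refine (TensorProduct.lid R M).injective ?_
  rw [map_zero]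
  have h2 : ∀ w, TensorProduct.lid R M (m.subtype.rTensor M w) =
      TensorProduct.lid S M (LinearMap.rTensor M (Submodule.subtype _) (ψ w)) := by
    intro w
    induction w with
    | zero => simp
    | add a b ha hb => simp [map_add, ha, hb]
    | tmul a y => simp [ψ, e]
  rw [h2, hx, map_zero]

/-- Fibrewise criterion, nilpotent ideal. -/
theorem flat_of_flat_mod_nilpotent {R S M : Type u} [CommRing R] [CommRing S] [Algebra R S] (I : Ideal R) (hI : IsNilpotent I)
    [AddCommGroup M] [Module S M] [Module R M] [IsScalarTower R S M] [Module.Flat R M]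
    [Module.Flat (S ⧸ I.map (algebraMap R S)) ((S ⧸ I.map (algebraMap R S)) ⊗[S] M)] : Module.Flat S M := by
  refine Groth.MLMod.flat_of_torZero_nilpotent (I.map (algebraMap R S)) ?_ (rTensor_injective_of_flat I)
  obtain ⟨n, hn⟩ := hI
  exact ⟨n, by rw [← Ideal.map_pow, hn, Ideal.zero_eq_bot, Ideal.map_bot, Ideal.zero_eq_bot]⟩

end Groth.FlatDescent
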