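import Mathlib
import Groth.Agent.FlatDescent.Nilpotent
import Groth.Agent.FlatDescent.Scheme
import Groth.Agent.FlatDescent.Global
import Groth.Agent.IdealComap.Basic

/-!
# Flatness across nilpotent thickenings of the base, schemes
-/

universe u

open AlgebraicGeometry CategoryTheory CategoryTheory.Limits TensorProduct

namespace Groth.FlatDescent

theorem ker_eq_map_of_isPullback {U W Ub Wb : Scheme.{u}} {h : U ⟶ W} {j : Wb ⟶ W} [IsClosedImmersion j]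
    {pU : Ub ⟶ U} {q : Ub ⟶ Wb} (sq : IsPullback pU q h j) (U₀ : U.affineOpens) (W₀ : W.affineOpens)
    (e : U₀.1 ≤ h ⁻¹ᵁ W₀.1) :
    RingHom.ker (pU.app U₀.1).hom = (j.ker.ideal W₀).map (h.appLE W₀.1 U₀.1 e).hom := by
  haveI : IsClosedImmersion pU := MorphismProperty.of_isPullback sq.flip inferInstance
  rw [← Scheme.Hom.ker_apply pU U₀, ← sq.isoPullback_hom_fst, Scheme.Hom.ker_comp_of_isIso,
    Scheme.IdealSheafData.ker_fst_of_isClosedImmersion, Groth.Agent.IdealComap.ideal_comap]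

/-- Flatness across a nilpotent thickening of the base. -/
theorem flat_of_nilpotent_thickening {U V W Ub Vb Wb : Scheme.{u}} {i : U ⟶ V} {k : V ⟶ W} {j : Wb ⟶ W}
    [IsClosedImmersion j] (hnil : ∀ w : W, ∃ W₀ : W.affineOpens, w ∈ W₀.1 ∧ IsNilpotent (j.ker.ideal W₀))
    {pV : Vb ⟶ V} {qV : Vb ⟶ Wb} (sqV : IsPullback pV qV k j) {pU : Ub ⟶ U} {ib : Ub ⟶ Vb}
    (sqU : IsPullback pU ib i pV) [Flat ib] [Flat (i ≫ k)] (u : U) :
    (k.stalkMap (i u)).hom.Flat ∧ (i.stalkMap u).hom.Flat := by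
  obtain ⟨⟨W₀, hW⟩, hw, hn⟩ := hnil (k (i u))
  obtain ⟨_, ⟨V₀, hV, rfl⟩, hv, eV⟩ := V.isBasis_affineOpens.exists_subset_of_mem_open hw (k ⁻¹ᵁ W₀).2
  obtain ⟨_, ⟨U₀, hU, rfl⟩, hu, eU⟩ := U.isBasis_affineOpens.exists_subset_of_mem_open hv (i ⁻¹ᵁ V₀).2
  let R := Γ(W, W₀); let A := Γ(V, V₀); let C := Γ(U, U₀)
  let I := j.ker.ideal ⟨W₀, hW⟩
  let φ := (k.appLE W₀ V₀ eV).hom
  let ψ := (i.appLE V₀ U₀ eU).hom
  have eUW : U₀ ≤ (i ≫ k) ⁻¹ᵁ W₀ := fun z hz => eV (eU hz)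
  have hcomp : ((i ≫ k).appLE W₀ U₀ eUW).hom = ψ.comp φ := by
    rw [← Scheme.Hom.appLE_comp_appLE i k W₀ V₀ U₀ eV eU, CommRingCat.hom_comp]
  letI : Algebra R A := φ.toAlgebra
  letI : Algebra A C := ψ.toAlgebra
  letI : Algebra R C := (ψ.comp φ).toAlgebra
  haveI : IsScalarTower R A C := IsScalarTower.of_algebraMap_eq fun _ => rfl
  haveI : IsClosedImmersion pV := MorphismProperty.of_isPullback sqV.flip inferInstance
  haveI : IsClosedImmersion pU := MorphismProperty.of_isPullback sqU.flip inferInstance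
  haveI hC : Module.Flat R C := by
    have h := HasRingHomProperty.appLE @Flat (i ≫ k) inferInstance ⟨W₀, hW⟩ ⟨U₀, hU⟩ eUW
    rw [hcomp] at h
    exact RingHom.flat_algebraMap_iff.mp h
  have sqU' : IsPullback pU (ib ≫ qV) (i ≫ k) j := sqU.paste_vert sqV
  have kV : RingHom.ker (pV.app V₀).hom = I.map φ := ker_eq_map_of_isPullback sqV ⟨V₀, hV⟩ ⟨W₀, hW⟩ eV
  have kU : RingHom.ker (pU.app U₀).hom = (I.map φ).map ψ := by
    rw [ker_eq_map_of_isPullback sqU' ⟨U₀, hU⟩ ⟨W₀, hW⟩ eUW, hcomp, Ideal.map_map]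
  have eb : pU ⁻¹ᵁ U₀ ≤ ib ⁻¹ᵁ (pV ⁻¹ᵁ V₀) := by
    rw [← Scheme.Hom.comp_preimage, ← sqU.w, Scheme.Hom.comp_preimage]
    exact pU.preimage_mono eU
  let gb := (ib.appLE (pV ⁻¹ᵁ V₀) (pU ⁻¹ᵁ U₀) eb).hom
  have hgb : gb.Flat := HasRingHomProperty.appLE @Flat ib inferInstance ⟨_, hV.preimage pV⟩ ⟨_, hU.preimage pU⟩ eb
  have hg : gb.comp (pV.app V₀).hom = (pU.app U₀).hom.comp ψ := by
    rw [← CommRingCat.hom_comp, ← CommRingCat.hom_comp]
    congr 1
    simp only [Scheme.Hom.app_eq_appLE, Scheme.Hom.appLE_comp_appLE]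
    simp only [sqU.w]
  have hq := (flat_iff_quotientMap ψ (pV.app V₀).hom (pV.app_surjective V₀ hV) (pU.app U₀).hom
    (pU.app_surjective U₀ hU) (by rw [kV, kU]) gb hg).mp hgb
  rw [flat_quotientMap_congr ψ kV] at hq
  haveI : Module.Flat (A ⧸ I.map (algebraMap R A)) ((A ⧸ I.map (algebraMap R A)) ⊗[A] C) := by
    let J := I.map φ
    letI : Algebra (A ⧸ J) (C ⧸ J.map ψ) := (Ideal.quotientMap (J.map ψ) ψ Ideal.le_comap_map).toAlgebra
    haveI : IsScalarTower A (A ⧸ J) (C ⧸ J.map ψ) := IsScalarTower.of_algebraMap_eq fun _ => rfl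
    haveI : Module.Flat (A ⧸ J) (C ⧸ J.map ψ) := hq
    let e : (C ⧸ J.map ψ) ≃ₗ[A] (A ⧸ J) ⊗[A] C :=
      ((Algebra.TensorProduct.quotIdealMapEquivTensorQuot C J).toLinearEquiv.restrictScalars A).trans
        (TensorProduct.comm A C (A ⧸ J))
    exact Module.Flat.of_linearEquiv (LinearEquiv.extendScalarsOfSurjective Ideal.Quotient.mk_surjective e.symm)
  haveI hAC : Module.Flat A C := flat_of_flat_mod_nilpotent (R := R) (S := A) (M := C) I hn
  let Q := (hU.primeIdealOf ⟨u, hu⟩).asIdeal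
  refine ⟨?_, ?_⟩
  · haveI : Nontrivial (LocalizedModule Q.primeCompl C) :=
      (IsLocalizedModule.iso Q.primeCompl (Algebra.linearMap C (Localization.AtPrime Q))).toEquiv.nontrivial
    have h := flatAt_base_of_flatAt R (S := A) (M := C) Q (flatAt_of_flat Q) (flatAt_of_flat Q)
    refine (flat_stalkMap_iff k hW hV eV hv).mpr ?_
    have hp : (hV.primeIdealOf ⟨i u, hv⟩).asIdeal = Q.comap (algebraMap A C) := by
      exact (congrArg PrimeSpectrum.asIdeal (IsAffineOpen.comap_primeIdealOf_appLE (f := i) V₀ hV U₀ hU eU hu)).symm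
    simp only [hp]
    exact h
  · exact (flat_stalkMap_iff i hV hU eU hu).mpr (flatAt_of_flat Q)

end Groth.FlatDescent
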