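import Mathlib
import Groth.Agent.FlatDescent.Point

/-!
# The flat locus of a morphism over a base commutes with base change
-/

universe u

open AlgebraicGeometry CategoryTheory Limits

namespace Groth.FlatDescent

variable {X Y S : Scheme.{u}}

theorem flat_stalkMap_congr {f g : X ⟶ Y} (h : f = g) (x : X) : (f.stalkMap x).hom.Flat ↔ (g.stalkMap x).hom.Flat := by
  subst h; rfl

/-- Flatness on fibres descends along any change of base. -/
theorem fibFlat_of_baseChange {X' Y' S' : Scheme.{u}} (f : X ⟶ Y) (g : Y ⟶ S) {hS : S' ⟶ S} {gY : Y' ⟶ Y} {g' : Y' ⟶ S'}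
    (hY : IsPullback gY g' g hS) {gX : X' ⟶ X} {f' : X' ⟶ Y'} (hX : IsPullback gX f' f gY) (x' : X')
    (h : FibFlat f' g' x') : FibFlat f g (gX x') := by
  let s' := g' (f' x')
  have hT : IsPullback gX (f' ≫ g') (f ≫ g) hS := hX.paste_vert hY
  let φ : (f ≫ g).fiber (hS s') ⟶ g.fiber (hS s') :=
    pullback.lift ((f ≫ g).fiberι _ ≫ f) ((f ≫ g).fiberToSpecResidueField _)
      (by rw [Category.assoc]; exact (f ≫ g).fiber_fac _)
  let φ' : (f' ≫ g').fiber s' ⟶ g'.fiber s' :=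
    pullback.lift ((f' ≫ g').fiberι _ ≫ f') ((f' ≫ g').fiberToSpecResidueField _)
      (by rw [Category.assoc]; exact (f' ≫ g').fiber_fac _)
  have sqX := isPullback_fiberToSpecResidueField_of_isPullback hT s'
  have sqY := isPullback_fiberToSpecResidueField_of_isPullback hY s'
  let uX : (f' ≫ g').fiber s' ⟶ (f ≫ g).fiber (hS s') :=
    pullback.map _ _ _ _ gX (Spec.map (hS.residueFieldMap s')) hS hT.w.symm (by simp)
  let uY : g'.fiber s' ⟶ g.fiber (hS s') :=
    pullback.map _ _ _ _ gY (Spec.map (hS.residueFieldMap s')) hS hY.w.symm (by simp)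
  haveI : Flat (Spec.map (hS.residueFieldMap s')) := inferInstance
  haveI : Flat uX := MorphismProperty.of_isPullback (P := @Flat) sqX.flip inferInstance
  haveI : Flat uY := MorphismProperty.of_isPullback (P := @Flat) sqY.flip inferInstance
  let z := (f' ≫ g').asFiber x'
  have hz : (f' ≫ g').fiberι s' z = x' := (f' ≫ g').fiberι_asFiber x'
  have hφ' : (φ'.stalkMap z).hom.Flat :=
    (flat_fiberMap_iff f' g' s' φ' (pullback.lift_fst _ _ _) z).mpr (hz.symm ▸ h)
  have hcomm : uX ≫ φ = φ' ≫ uY := by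
    have a1 : φ ≫ g.fiberι _ = (f ≫ g).fiberι _ ≫ f := pullback.lift_fst _ _ _
    have a2 : φ' ≫ g'.fiberι _ = (f' ≫ g').fiberι _ ≫ f' := pullback.lift_fst _ _ _
    have a3 : uX ≫ (f ≫ g).fiberι _ = (f' ≫ g').fiberι s' ≫ gX := pullback.lift_fst _ _ _
    have a4 : uY ≫ g.fiberι _ = g'.fiberι s' ≫ gY := pullback.lift_fst _ _ _
    have b1 : φ ≫ g.fiberToSpecResidueField _ = (f ≫ g).fiberToSpecResidueField _ := pullback.lift_snd _ _ _
    have b2 : φ' ≫ g'.fiberToSpecResidueField _ = (f' ≫ g').fiberToSpecResidueField _ := pullback.lift_snd _ _ _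
    have b3 : uX ≫ (f ≫ g).fiberToSpecResidueField _ =
        (f' ≫ g').fiberToSpecResidueField s' ≫ Spec.map (hS.residueFieldMap s') := pullback.lift_snd _ _ _
    have b4 : uY ≫ g.fiberToSpecResidueField _ =
        g'.fiberToSpecResidueField s' ≫ Spec.map (hS.residueFieldMap s') := pullback.lift_snd _ _ _
    refine pullback.hom_ext ?_ ?_
    · show (uX ≫ φ) ≫ g.fiberι _ = (φ' ≫ uY) ≫ g.fiberι _
      rw [Category.assoc, a1, reassoc_of% a3, Category.assoc, a4, reassoc_of% a2, hX.w]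
    · show (uX ≫ φ) ≫ g.fiberToSpecResidueField _ = (φ' ≫ uY) ≫ g.fiberToSpecResidueField _
      rw [Category.assoc, b1, b3, Category.assoc, b4, reassoc_of% b2]
  have h1 := (flat_stalkMap_congr hcomm z).mpr (flat_stalkMap_comp φ' uY z hφ' (Flat.stalkMap uY _))
  have h2 := flat_stalkMap_of_comp uX φ z (Flat.stalkMap uX z) h1
  have h3 := (flat_fiberMap_iff f g _ φ (pullback.lift_fst _ _ _) (uX z)).mp h2
  have hp : (f ≫ g).fiberι _ (uX z) = gX x' := by
    rw [← Scheme.Hom.comp_apply, show uX ≫ (f ≫ g).fiberι _ = (f' ≫ g').fiberι s' ≫ gX from pullback.lift_fst _ _ _,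
      Scheme.Hom.comp_apply, hz]
  rwa [hp] at h3

/-- The flat locus commutes with base change. -/
theorem flat_stalkMap_baseChange_iff {X' Y' S' : Scheme.{u}} (f : X ⟶ Y) (g : Y ⟶ S)
    [LocallyOfFinitePresentation (f ≫ g)] [LocallyOfFiniteType g] {hS : S' ⟶ S} {gY : Y' ⟶ Y} {g' : Y' ⟶ S'}
    (hY : IsPullback gY g' g hS) {gX : X' ⟶ X} {f' : X' ⟶ Y'} (hX : IsPullback gX f' f gY) (x' : X')
    (hfg : ((f ≫ g).stalkMap (gX x')).hom.Flat) :
    (f'.stalkMap x').hom.Flat ↔ (f.stalkMap (gX x')).hom.Flat :=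
  ⟨fun h => (flat_of_fibFlat f g _ hfg (fibFlat_of_baseChange f g hY hX x' (fibFlat_of_flat f' g' x' h))).2,
    fun h => flat_stalkMap_of_isPullback hX x' h⟩

end Groth.FlatDescent
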