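import Groth.Agent.FlatDescent.Sheaf
import Groth.Agent.GenFree.Package
import Groth.Agent.QCohLib.FiniteType

/-!
# Generic flatness of quasi-coherent modules of finite type over an integral base
-/

universe u

open CategoryTheory Limits AlgebraicGeometry TopologicalSpace
open scoped TensorProduct

namespace Groth.FlatDescent

/-- A module free after inverting `a` is flat at primes avoiding `a`. -/
theorem flatAt_of_freeAt {R S M : Type u} [CommRing R] [IsDomain R] [CommRing S] [Algebra R S] [AddCommGroup M]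
    [Module R M] [Module S M] [IsScalarTower R S M] {a : R} (h : GenFree.FreeAt a M) (Q : Ideal S) [Q.IsPrime]
    (ha : algebraMap R S a ∉ Q) : FlatCA.FlatAt R Q M := by
  have h1 : FlatOn R (P := R) (Submonoid.powers a) M := by
    let N := LocalizedModule (Submonoid.powers a) M
    haveI : Module.Free (Localization.Away a) N := GenFree.free_localizedModule dvd_rfl h
    haveI : Module.Flat R (Localization.Away a) := IsLocalization.flat _ (Submonoid.powers a)
    haveI : Module.Flat R N := Module.Flat.trans R (Localization.Away a) N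
    exact (flatOn_iff_flat (Submonoid.powers a) (LocalizedModule.mkLinearMap (Submonoid.powers a) M)).mpr this
  rw [← flatOn_primeCompl_iff]
  intro I x hx
  obtain ⟨s, hs, hsx⟩ := h1 I x hx
  refine ⟨algebraMap R S s, ?_, by rw [algebraMap_smul]; exact hsx⟩
  obtain ⟨n, rfl⟩ := hs
  show algebraMap R S (a ^ n) ∉ Q
  rw [map_pow]
  exact fun hc => ha (‹Q.IsPrime›.mem_of_pow_mem n hc)

variable {X Y : Scheme.{u}}

/-- **Generic flatness** over an integral base, for modules of finite type. -/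
theorem exists_open_flat (f : X ⟶ Y) [IsIntegral Y] [LocallyOfFiniteType f] [QuasiCompact f] (M : X.Modules)
    [M.IsQuasicoherent] (hM : M.IsFiniteType) :
    ∃ U : Y.Opens, (U : Set Y).Nonempty ∧ ∀ x : X, f x ∈ U → FlatMod.IsFlatOverAt f M x := by
  classical
  obtain ⟨y⟩ := (inferInstance : Nonempty Y)
  obtain ⟨_, ⟨V, hV, rfl⟩, hyV, -⟩ := Y.isBasis_affineOpens.exists_subset_of_mem_open (Set.mem_univ y) isOpen_univ
  haveI : Nonempty (V : Scheme.{u}) := ⟨⟨y, hyV⟩⟩
  haveI : IsDomain Γ(Y, V) := inferInstance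
  have hc := QuasiCompact.isCompact_preimage (f := f) (V : Set Y) V.isOpen hV.isCompact
  have key : ∀ x : X, f x ∈ V → ∃ (W : X.Opens), x ∈ W ∧ ∃ a : Γ(Y, V), a ≠ 0 ∧
      ∀ z ∈ W, f z ∈ Y.basicOpen a → FlatMod.IsFlatOverAt f M z := by
    intro x hx
    obtain ⟨_, ⟨W, hW, rfl⟩, hxW, e⟩ := X.isBasis_affineOpens.exists_subset_of_mem_open
      (show x ∈ (f ⁻¹ᵁ V : X.Opens) from hx) (f ⁻¹ᵁ V).2
    letI := (f.appLE V W e).hom.toAlgebra
    letI := appLEModule f M V W e
    haveI : IsScalarTower Γ(Y, V) Γ(X, W) Γ(M, W) := IsScalarTower.of_algebraMap_smul fun _ _ => rfl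
    haveI : Algebra.FiniteType Γ(Y, V) Γ(X, W) :=
      HasRingHomProperty.appLE @LocallyOfFiniteType f inferInstance ⟨V, hV⟩ ⟨W, hW⟩ e
    haveI := Groth.Agent.QCohLib.finite_sections (M := M) hM hW
    obtain ⟨a, ha, hfree, -⟩ := GenFree.exists_freeAt_domain Γ(X, W) Γ(M, W) (R := Γ(Y, V))
    refine ⟨W, hxW, a, ha, fun z hz hza => (isFlatOverAt_iff f M hV hW e hz).mpr ?_⟩
    refine flatAt_of_freeAt hfree _ fun hmem => ?_
    letI := X.presheaf.algebra_section_stalk (U := W) ⟨z, hz⟩
    haveI := hW.isLocalization_stalk ⟨z, hz⟩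
    have hu : IsUnit (X.presheaf.germ W z hz (f.appLE V W e a)) := by
      rw [Scheme.Hom.appLE, CommRingCat.comp_apply, TopCat.Presheaf.germ_res_apply, ← Scheme.Hom.germ_stalkMap_apply]
      exact ((Y.mem_basicOpen a (f z) (e hz)).mp hza).map (f.stalkMap z).hom
    exact (IsLocalRing.mem_maximalIdeal _).mp
      ((IsLocalization.AtPrime.to_map_mem_maximal_iff (X.presheaf.stalk z) _ _).mpr hmem) hu
  choose W hxW a ha hflat using key
  obtain ⟨t, ht⟩ := hc.elim_finite_subcover (fun x : {x // f x ∈ V} => (W x.1 x.2 : Set X)) (fun x => (W x.1 x.2).2)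
    (fun x hx => Set.mem_iUnion.mpr ⟨⟨x, hx⟩, hxW x hx⟩)
  let A := ∏ i ∈ t, a i.1 i.2
  have hA : A ≠ 0 := Finset.prod_ne_zero_iff.mpr fun i _ => ha i.1 i.2
  refine ⟨Y.basicOpen A, ?_, fun x hx => ?_⟩
  · by_contra hne
    rw [Set.not_nonempty_iff_eq_empty] at hne
    exact hA (basicOpen_eq_bot_iff A |>.mp (SetLike.coe_injective (hne.trans Opens.coe_bot.symm)))
  · have hxV : f x ∈ V := Y.basicOpen_le A hx
    obtain ⟨i, hit, hxi⟩ := Set.mem_iUnion₂.mp (ht hxV)
    refine hflat i.1 i.2 x hxi ?_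
    obtain ⟨d, hd⟩ := Finset.dvd_prod_of_mem (fun i : {x // f x ∈ V} => a i.1 i.2) hit
    change f x ∈ Y.basicOpen A at hx
    rw [show A = _ from hd, Scheme.basicOpen_mul] at hx
    exact hx.1

end Groth.FlatDescent
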