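import Mathlib
import Groth.Prelude.Def_CAlgX
import Groth.Agent.FlatDescent.Criterion
import Groth.Agent.FlatDescent.Scheme

/-!
# Models of essentially finitely presented algebras and of their modules

* `isLocalization_atPrime_of_isLocalRing`;
* `exists_algHom_away`: maps out of a finitely presented algebra into a localisation extend to a localisation away;
* `exists_module_model`: finitely presented modules over a localisation come from finitely presented modules;
* `faithfullyFlat_of_flat_local`; `flat_fibre_criterion_essFP`.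
-/

universe u

open TensorProduct

namespace Groth.FlatDescent

theorem isLocalization_atPrime_of_isLocalRing {C C' : Type u} [CommRing C] [CommRing C'] [Algebra C C']
    [IsLocalRing C'] (T : Submonoid C) [IsLocalization T C'] :
    IsLocalization.AtPrime C' ((IsLocalRing.maximalIdeal C').comap (algebraMap C C')) := by
  refine IsLocalization.isLocalization_of_is_exists_mul_mem C' T _ (fun t ht => ?_) fun s => ?_
  · exact fun h => h ((IsLocalization.map_units C' (⟨t, ht⟩ : T)))
  · have hu : IsUnit (algebraMap C C' (s : C)) := by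
      by_contra h
      exact s.2 h
    obtain ⟨b, hb⟩ := hu.exists_left_inv
    obtain ⟨⟨a, t⟩, hat⟩ := IsLocalization.surj T b
    have h1 : algebraMap C C' (a * (s : C)) = algebraMap C C' (t : C) := by
      rw [map_mul, ← hat, mul_comm b, mul_assoc, hb, mul_one]
    obtain ⟨c, hc⟩ := (IsLocalization.eq_iff_exists T C').mp h1
    exact ⟨(c : C) * a, by rw [mul_assoc, hc]; exact T.mul_mem c.2 t.2⟩

/-- A map from a finitely presented algebra into a localisation factors through a localisation away. -/
theorem exists_algHom_away {R S₀ C C' : Type u} [CommRing R] [CommRing S₀] [CommRing C] [CommRing C']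
    [Algebra R S₀] [Algebra R C] [Algebra R C'] [Algebra C C'] [IsScalarTower R C C']
    [Algebra.FinitePresentation R S₀] (T : Submonoid C) [IsLocalization T C'] (φ : S₀ →ₐ[R] C') :
    ∃ u ∈ T, ∃ (l : Localization.Away u →ₐ[C] C') (ψ : S₀ →ₐ[R] Localization.Away u), ∀ x, l (ψ x) = φ x := by
  classical
  obtain ⟨n, π, hπ, G, hG⟩ := Algebra.FinitePresentation.out (R := R) (A := S₀)
  choose as has using fun i : Fin n => IsLocalization.surj T (φ (π (MvPolynomial.X i)))
  let u₀ : C := ∏ i, ((as i).2 : C)
  have hu₀ : u₀ ∈ T := T.prod_mem fun i _ => (as i).2.2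
  let C₁ := Localization.Away u₀
  let l₁ : C₁ →ₐ[C] C' := IsLocalization.Away.liftAlgHom u₀ (f := Algebra.ofId C C')
    (IsLocalization.map_units C' (⟨u₀, hu₀⟩ : T))
  have hunit : ∀ i, IsUnit (algebraMap C C₁ ((as i).2 : C)) := fun i =>
    isUnit_of_dvd_unit (map_dvd _ (Finset.dvd_prod_of_mem (fun j => ((as j).2 : C)) (Finset.mem_univ i)))
      (IsLocalization.Away.algebraMap_isUnit u₀)
  let ψ₁ : MvPolynomial (Fin n) R →ₐ[R] C₁ :=
    MvPolynomial.aeval fun i => algebraMap C C₁ (as i).1 * ↑(hunit i).unit⁻¹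
  have hψ₁ : ∀ x, l₁ (ψ₁ x) = φ (π x) := by
    intro x
    have : (l₁.restrictScalars R).comp ψ₁ = φ.comp π := MvPolynomial.algHom_ext fun i => by
      have hu := IsLocalization.map_units C' (as i).2
      apply hu.mul_left_injective
      simp only [AlgHom.comp_apply, has, ψ₁, MvPolynomial.aeval_X, AlgHom.restrictScalars_apply]
      rw [← l₁.commutes ((as i).2 : C), ← map_mul, mul_assoc, IsUnit.val_inv_mul, mul_one, AlgHom.commutes]
    exact DFunLike.congr_fun this x
  obtain ⟨t, ht, hkill⟩ : ∃ t ∈ T, ∀ g ∈ G, algebraMap C C₁ t * ψ₁ g = 0 := by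
    have hone : ∀ g, g ∈ G → ∃ t ∈ T, algebraMap C C₁ t * ψ₁ g = 0 := by
      intro g hg
      obtain ⟨m, a, hm⟩ := IsLocalization.Away.surj u₀ (ψ₁ g)
      have hg0 : φ (π g) = 0 := by
        rw [show π g = 0 from RingHom.mem_ker.mp (hG ▸ Ideal.subset_span hg :), map_zero]
      have ha : algebraMap C C' a = 0 := by
        rw [← l₁.commutes a, ← hm, map_mul, hψ₁, hg0, zero_mul]
      obtain ⟨t, ht⟩ := (IsLocalization.map_eq_zero_iff T C' a).mp ha
      refine ⟨t, t.2, ((IsLocalization.Away.algebraMap_isUnit u₀).pow m).mul_left_injective ?_⟩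
      simp only [zero_mul, mul_assoc, hm, ← map_mul, ht, map_zero]
    choose t htT ht using hone
    refine ⟨∏ g : G, t g.1 g.2, T.prod_mem fun g _ => htT _ _, fun g hg => ?_⟩
    obtain ⟨c, hc⟩ := Finset.dvd_prod_of_mem (fun g : G => t g.1 g.2) (Finset.mem_univ (⟨g, hg⟩ : G))
    rw [hc, map_mul, mul_comm (algebraMap C C₁ (t g hg)), mul_assoc, ht g hg, mul_zero]
  let u := u₀ * t
  have hu : u ∈ T := T.mul_mem hu₀ ht
  let C₂ := Localization.Away u
  let m₁₂ : C₁ →ₐ[C] C₂ := IsLocalization.Away.liftAlgHom u₀ (f := Algebra.ofId C C₂)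
    (isUnit_of_dvd_unit (map_dvd (algebraMap C C₂) (dvd_mul_right u₀ t)) (IsLocalization.Away.algebraMap_isUnit u))
  let l : C₂ →ₐ[C] C' := IsLocalization.Away.liftAlgHom u (f := Algebra.ofId C C')
    (IsLocalization.map_units C' (⟨u, hu⟩ : T))
  have hl : ∀ x, l (m₁₂ x) = l₁ x := fun x => by
    haveI := IsLocalization.algHom_subsingleton (Submonoid.powers u₀) (S := C₁) (P := C')
    exact DFunLike.congr_fun (Subsingleton.elim (l.comp m₁₂) l₁) x
  have hker : RingHom.ker π.toRingHom ≤ RingHom.ker ((m₁₂.restrictScalars R).comp ψ₁).toRingHom := by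
    rw [← hG, Submodule.span_le]
    intro g hg
    have : algebraMap C C₂ t * m₁₂ (ψ₁ g) = 0 := by
      rw [← m₁₂.commutes, ← map_mul, hkill g hg, map_zero]
    exact (IsUnit.mul_right_eq_zero (isUnit_of_dvd_unit (map_dvd (algebraMap C C₂) (dvd_mul_left t u₀))
      (IsLocalization.Away.algebraMap_isUnit u))).mp this
  refine ⟨u, hu, l, AlgHom.liftOfSurjective π hπ _ hker, fun x => ?_⟩
  obtain ⟨x, rfl⟩ := hπ x
  rw [AlgHom.liftOfSurjective_apply]
  exact (hl _).trans (hψ₁ x)

/-- Finitely presented modules over a localisation descend. -/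
theorem exists_module_model {C C' : Type u} [CommRing C] [CommRing C'] [Algebra C C'] (T : Submonoid C)
    [IsLocalization T C'] (M : Type u) [AddCommGroup M] [Module C' M] [Module C M] [IsScalarTower C C' M]
    [Module.FinitePresentation C' M] :
    ∃ (M₀ : Type u) (_ : AddCommGroup M₀) (_ : Module C M₀) (_ : Module.FinitePresentation C M₀)
      (f : M₀ →ₗ[C] M), IsLocalizedModule T f := by
  classical
  obtain ⟨k, p, hp⟩ := Module.Finite.exists_fin' C' M
  let j : (Fin k → C) →ₗ[C] (Fin k → C') := (Algebra.linearMap C C').compLeft (Fin k)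
  haveI : IsLocalizedModule T j :=
    inferInstanceAs (IsLocalizedModule T
      (LinearMap.pi fun i : Fin k => Algebra.linearMap C C' ∘ₗ LinearMap.proj (R := C) (φ := fun _ => C) i))
  obtain ⟨G, hG⟩ := Module.FinitePresentation.fg_ker p hp
  choose v hv using fun w : Fin k → C' => IsLocalizedModule.surj T j w
  let N₀ : Submodule C (Fin k → C) := Submodule.span C (G.image fun w => (v w).1)
  have hN : N₀.localized' C' T j = LinearMap.ker p := by
    rw [Submodule.localized'_span, ← hG, Finset.coe_image, Set.image_image]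
    refine le_antisymm (Submodule.span_le.mpr ?_) (Submodule.span_le.mpr fun w hw => ?_)
    · rintro _ ⟨w, hw, rfl⟩
      show j (v w).1 ∈ _
      rw [← hv]
      exact Submodule.smul_of_tower_mem _ _ (Submodule.subset_span hw)
    · have h1 : j (v w).1 ∈ Submodule.span C' ((fun w => j (v w).1) '' (G : Set (Fin k → C'))) :=
        Submodule.subset_span ⟨w, hw, rfl⟩
      rw [← hv, Submonoid.smul_def, ← algebraMap_smul C'] at h1
      exact (Submodule.smul_mem_iff_of_isUnit _ (IsLocalization.map_units C' (v w).2)).mp h1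
  let e : ((Fin k → C') ⧸ N₀.localized' C' T j) ≃ₗ[C] M :=
    ((Submodule.quotEquivOfEq _ _ hN).trans (p.quotKerEquivOfSurjective hp)).restrictScalars C
  refine ⟨(Fin k → C) ⧸ N₀, inferInstance, inferInstance,
    Module.finitePresentation_of_surjective N₀.mkQ N₀.mkQ_surjective (by rw [Submodule.ker_mkQ]; exact ⟨_, rfl⟩),
    e.toLinearMap ∘ₗ N₀.toLocalizedQuotient' C' T j, ?_⟩
  exact IsLocalizedModule.of_linearEquiv T (N₀.toLocalizedQuotient' C' T j) e

/-- A flat module, finite and nonzero over a local ring above, is faithfully flat. -/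
theorem faithfullyFlat_of_flat_local {A C M : Type u} [CommRing A] [CommRing C] [Algebra A C] [IsLocalRing A]
    [IsLocalRing C] [IsLocalHom (algebraMap A C)] [AddCommGroup M] [Module A M] [Module C M] [IsScalarTower A C M]
    [Module.Finite C M] [Nontrivial M] [Module.Flat A M] : Module.FaithfullyFlat A M := by
  refine ⟨fun {m} hm htop => ?_⟩
  rw [IsLocalRing.eq_maximalIdeal hm] at htop
  have h2 : (⊤ : Submodule C M) ≤ IsLocalRing.maximalIdeal C • ⊤ := by
    intro y hy0
    clear hy0
    have hy : y ∈ IsLocalRing.maximalIdeal A • (⊤ : Submodule A M) := by rw [htop]; trivial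
    induction hy using Submodule.smul_induction_on' with
    | smul r hr z _ =>
      rw [← algebraMap_smul C r z]
      exact Submodule.smul_mem_smul (map_nonunit (algebraMap A C) r hr) trivial
    | add a _ b _ ha hb => exact add_mem ha hb
  exact top_ne_bot (Submodule.eq_bot_of_le_smul_of_le_jacobson_bot _ _ Module.Finite.fg_top h2
    (IsLocalRing.jacobson_eq_maximalIdeal _ bot_ne_top).ge)

/-- **Fibrewise criterion of flatness**, essentially finitely presented local algebras. -/
theorem flat_fibre_criterion_essFP {R S S' M : Type u} [CommRing R] [CommRing S] [CommRing S']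
    [IsLocalRing R] [IsLocalRing S] [IsLocalRing S'] [Algebra R S] [Algebra S S'] [Algebra R S'] [IsScalarTower R S S']
    [IsLocalHom (algebraMap R S)] [IsLocalHom (algebraMap S S')]
    (hS : CAlgX.IsEssFinitePresentation R S) (hS' : CAlgX.IsEssFinitePresentation R S')
    [AddCommGroup M] [Module S' M] [Module S M] [Module R M] [IsScalarTower S S' M] [IsScalarTower R S' M]
    [IsScalarTower R S M] [Module.FinitePresentation S' M] [Nontrivial M] [Module.Flat R M]
    (hfib : Module.Flat (S ⧸ (IsLocalRing.maximalIdeal R).map (algebraMap R S))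
      (M ⧸ (IsLocalRing.maximalIdeal R).map (algebraMap R S) • (⊤ : Submodule S M))) :
    Module.Flat R S ∧ Module.Flat S M := by
  obtain ⟨S₀, _, _, _, _, TS, hfpS, hlocS⟩ := hS
  obtain ⟨C₀, _, _, _, _, TC, hfpC, hlocC⟩ := hS'
  obtain ⟨u, hu, l, ψ, hψ⟩ := exists_algHom_away TC ((IsScalarTower.toAlgHom R S S').comp (IsScalarTower.toAlgHom R S₀ S))
  let C := Localization.Away u
  letI : Algebra C S' := l.toRingHom.toAlgebra
  haveI : IsScalarTower C₀ C S' := IsScalarTower.of_algebraMap_eq fun x => (l.commutes x).symm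
  haveI : Algebra.FinitePresentation R C := Algebra.FinitePresentation.trans R C₀ C
  haveI : IsScalarTower R C S' := IsScalarTower.of_algebraMap_eq fun r => by
    rw [IsScalarTower.algebraMap_apply R C₀ S', IsScalarTower.algebraMap_apply R C₀ C, ← IsScalarTower.algebraMap_apply C₀ C S']
  haveI := IsLocalization.isLocalization_of_submonoid_le C S' (Submonoid.powers u) TC (Submonoid.powers_le.mpr hu)
  let Q : Ideal C := (IsLocalRing.maximalIdeal S').comap (algebraMap C S')
  haveI hQ : IsLocalization.AtPrime S' Q := isLocalization_atPrime_of_isLocalRing (TC.map (algebraMap C₀ C))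
  letI : Algebra S₀ C := ψ.toRingHom.toAlgebra
  haveI : IsScalarTower R S₀ C := IsScalarTower.of_algebraMap_eq fun r => (ψ.commutes r).symm
  letI : Algebra S₀ S' := ((algebraMap S S').comp (algebraMap S₀ S)).toAlgebra
  haveI : IsScalarTower S₀ S S' := IsScalarTower.of_algebraMap_eq fun _ => rfl
  haveI : IsScalarTower S₀ C S' := IsScalarTower.of_algebraMap_eq fun x => (hψ x).symm
  letI : Module C M := Module.compHom _ (algebraMap C S')
  haveI : IsScalarTower C S' M := IsScalarTower.of_algebraMap_smul fun _ _ => rfl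
  obtain ⟨M₀, _, _, _, f, hf⟩ := exists_module_model Q.primeCompl (C' := S') M
  letI : Module S₀ M₀ := Module.compHom _ (algebraMap S₀ C)
  letI : Module R M₀ := Module.compHom _ (algebraMap R C)
  haveI : IsScalarTower S₀ C M₀ := IsScalarTower.of_algebraMap_smul fun _ _ => rfl
  haveI : IsScalarTower R C M₀ := IsScalarTower.of_algebraMap_smul fun _ _ => rfl
  letI : Module S₀ M := Module.compHom _ (algebraMap S₀ S)
  haveI : IsScalarTower S₀ S M := IsScalarTower.of_algebraMap_smul fun _ _ => rfl
  haveI : IsScalarTower S₀ C M := IsScalarTower.of_algebraMap_smul fun a m => by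
    show algebraMap C S' (algebraMap S₀ C a) • m = algebraMap S₀ S a • m
    rw [← IsScalarTower.algebraMap_apply S₀ C S', IsScalarTower.algebraMap_apply S₀ S S', algebraMap_smul]
  haveI : IsScalarTower R C M := IsScalarTower.of_algebraMap_smul fun a m => by
    show algebraMap C S' (algebraMap R C a) • m = a • m
    rw [← IsScalarTower.algebraMap_apply R C S', algebraMap_smul]
  haveI : IsScalarTower R S₀ M := IsScalarTower.of_algebraMap_smul fun a m => by
    show algebraMap S₀ S (algebraMap R S₀ a) • m = a • m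
    rw [← IsScalarTower.algebraMap_apply R S₀ S, algebraMap_smul]
  have hp : Q.comap (algebraMap R C) = IsLocalRing.maximalIdeal R := by
    rw [Ideal.comap_comap, ← IsScalarTower.algebraMap_eq, IsScalarTower.algebraMap_eq R S S', ← Ideal.comap_comap]
    rw [IsLocalRing.maximalIdeal_comap, IsLocalRing.maximalIdeal_comap]
  have hR : FlatCA.FlatAt R Q M₀ :=
    (flatOn_primeCompl_iff Q).mp ((flatOn_iff_flat Q.primeCompl f).mpr inferInstance)
  have hfib₀ : Module.Flat (S₀ ⧸ (Q.comap (algebraMap R C)).map (algebraMap R S₀))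
      (LocalizedModule Q.primeCompl M₀ ⧸
        (Q.comap (algebraMap R C)).map (algebraMap R S₀) • (⊤ : Submodule S₀ (LocalizedModule Q.primeCompl M₀))) := by
    rw [hp]
    let m := IsLocalRing.maximalIdeal R
    let J₀ := m.map (algebraMap R S₀)
    let J := m.map (algebraMap R S)
    have hJ : J₀.map (algebraMap S₀ S) = J := by rw [Ideal.map_map, ← IsScalarTower.algebraMap_eq]
    let χ : S₀ ⧸ J₀ →+* S ⧸ J := Ideal.quotientMap J (algebraMap S₀ S) (Ideal.map_le_iff_le_comap.mp hJ.le)
    have hχ : χ.Flat := flat_of_surjective_of_ker (algebraMap S₀ S)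
      ((RingHom.flat_algebraMap_iff).mpr (IsLocalization.flat S TS)) (Ideal.Quotient.mk J₀) Ideal.Quotient.mk_surjective
      (Ideal.Quotient.mk J) Ideal.Quotient.mk_surjective (by rw [Ideal.mk_ker, Ideal.mk_ker, hJ]) χ (RingHom.ext fun _ => rfl)
    letI : Algebra (S₀ ⧸ J₀) (S ⧸ J) := χ.toAlgebra
    haveI : Module.Flat (S₀ ⧸ J₀) (S ⧸ J) := hχ
    letI : Module (S₀ ⧸ J₀) (M ⧸ J • (⊤ : Submodule S M)) := Module.compHom _ χ
    haveI : IsScalarTower (S₀ ⧸ J₀) (S ⧸ J) (M ⧸ J • (⊤ : Submodule S M)) :=
      IsScalarTower.of_algebraMap_smul fun _ _ => rfl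
    haveI : Module.Flat (S ⧸ J) (M ⧸ J • (⊤ : Submodule S M)) := hfib
    haveI : Module.Flat (S₀ ⧸ J₀) (M ⧸ J • (⊤ : Submodule S M)) := Module.Flat.trans (S₀ ⧸ J₀) (S ⧸ J) _
    let e : LocalizedModule Q.primeCompl M₀ ≃ₗ[S₀] M := (IsLocalizedModule.iso Q.primeCompl f).restrictScalars S₀
    let g : LocalizedModule Q.primeCompl M₀ →ₗ[S₀] M ⧸ J • (⊤ : Submodule S M) :=
      ((J • (⊤ : Submodule S M)).mkQ.restrictScalars S₀).comp e.toLinearMap
    have hg : Function.Surjective g := (Submodule.mkQ_surjective _).comp e.surjective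
    have hk : LinearMap.ker g = J₀ • (⊤ : Submodule S₀ (LocalizedModule Q.primeCompl M₀)) := by
      have h0 : (J • (⊤ : Submodule S M)).restrictScalars S₀ = J₀ • (⊤ : Submodule S₀ M) := by
        rw [← hJ, Ideal.smul_restrictScalars, Submodule.restrictScalars_top]
      rw [show LinearMap.ker g = ((J • (⊤ : Submodule S M)).restrictScalars S₀).comap e.toLinearMap from by
        ext z; exact Submodule.Quotient.mk_eq_zero _, h0,
        show J₀ • (⊤ : Submodule S₀ M) = (J₀ • (⊤ : Submodule S₀ (LocalizedModule Q.primeCompl M₀))).map e.toLinearMap by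
          rw [Submodule.map_smul'', Submodule.map_top, LinearEquiv.range]]
      exact Submodule.comap_map_eq_of_injective e.injective _
    haveI : IsScalarTower S₀ (S₀ ⧸ J₀) (M ⧸ J • (⊤ : Submodule S M)) := IsScalarTower.of_algebraMap_smul fun a z => by
      show Ideal.Quotient.mk J (algebraMap S₀ S a) • z = a • z
      rw [← Ideal.Quotient.algebraMap_eq, algebraMap_smul, algebraMap_smul]
    let e' := (Submodule.quotEquivOfEq _ _ hk.symm).trans (g.quotKerEquivOfSurjective hg)
    exact Module.Flat.of_linearEquiv (LinearEquiv.extendScalarsOfSurjective (R := S₀) (S := S₀ ⧸ J₀) Ideal.Quotient.mk_surjective e')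
  have h₀ : FlatCA.FlatAt S₀ Q M₀ := flat_fibre_criterion_fp R S₀ Q hR hfib₀
  haveI : Module.Flat S₀ M := (flatOn_iff_flat Q.primeCompl f).mp ((flatOn_primeCompl_iff Q).mpr h₀)
  haveI hSM : Module.Flat S M := (Module.flat_iff_of_isLocalization S TS M).mpr inferInstance
  haveI : Module.Finite S' M := inferInstance
  haveI : Module.FaithfullyFlat S M := faithfullyFlat_of_flat_local (C := S')
  exact ⟨flat_of_faithfullyFlat_of_flat (M := M), hSM⟩

end Groth.FlatDescent
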