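import Groth.Agent.FlatDescent.Presentation
import Groth.Agent.FlatDescent.Global
import Groth.Agent.ProjDim.Regular
import Groth.Agent.DRingPC.TorDim

/-!
# Projective dimension of flat finitely presented modules, fibre by fibre (EGA IV 12.3.3)

`B` finitely presented over `A`, `M` finitely presented over `B` and flat over `A`: syzygies are again finitely
presented and flat, and the projective dimension is read off on the fibres.
-/

set_option autoImplicit false
set_option linter.style.haveILetI false
universe u

open CategoryTheory TensorProduct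

namespace Groth.FlatDescent

section Injective

variable {A B : Type u} [CommRing A] [CommRing B] [Algebra A B]
  {K F M : Type u} [AddCommGroup K] [Module B K] [AddCommGroup F] [Module B F] [AddCommGroup M] [Module B M]
  [Module A M] [IsScalarTower A B M]

/-- Short exact sequences with `A`-flat cokernel stay exact after base change in `A`. -/
theorem rTensor_baseChange_injective [Module.Flat A M] (i : K →ₗ[B] F) (p : F →ₗ[B] M) (hi : Function.Injective i)
    (hex : Function.Exact i p) (hp : Function.Surjective p) (N : Type u) [AddCommGroup N] [Module A N] :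
    Function.Injective (i.rTensor (B ⊗[A] N)) := by
  letI : Module A K := Module.compHom K (algebraMap A B)
  letI : Module A F := Module.compHom F (algebraMap A B)
  haveI : IsScalarTower A B K := IsScalarTower.of_algebraMap_smul fun _ _ => rfl
  haveI : IsScalarTower A B F := IsScalarTower.of_algebraMap_smul fun _ _ => rfl
  have h1 : Function.Injective ((i.restrictScalars A).rTensor N) := by
    rw [← LinearMap.lTensor_inj_iff_rTensor_inj]
    exact LinearMap.lTensor_injective_of_exact_of_flat (p.restrictScalars A) hp (i.restrictScalars A) hi hex N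
  let eK := TensorProduct.AlgebraTensorModule.cancelBaseChange A B B K N
  let eF := TensorProduct.AlgebraTensorModule.cancelBaseChange A B B F N
  have comm : ∀ z, eF (i.rTensor (B ⊗[A] N) z) = (i.restrictScalars A).rTensor N (eK z) := by
    intro z
    induction z using TensorProduct.induction_on with
    | zero => simp
    | add z w hz hw => simp only [map_add, hz, hw]
    | tmul k t =>
      induction t using TensorProduct.induction_on with
      | zero => simp
      | add t t' ht ht' => simp only [tmul_add, map_add, ht, ht']
      | tmul b n => simp [eK, eF]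
  intro x y hxy
  apply eK.injective
  apply h1
  rw [← comm, ← comm, hxy]

/-- The same for a pushout `B → P` of `A → N`. -/
theorem rTensor_pushout_injective [Module.Flat A M] (i : K →ₗ[B] F) (p : F →ₗ[B] M) (hi : Function.Injective i)
    (hex : Function.Exact i p) (hp : Function.Surjective p) (R P : Type u) [CommRing R] [CommRing P] [Algebra A R]
    [Algebra A P] [Algebra B P] [Algebra R P] [IsScalarTower A B P] [IsScalarTower A R P]
    [Algebra.IsPushout A B R P] : Function.Injective (i.rTensor P) := by
  let e : B ⊗[A] R ≃ₗ[B] P := (Algebra.IsPushout.equiv A B R P).toLinearEquiv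
  have hinj := rTensor_baseChange_injective (A := A) i p hi hex hp R
  have he : i.rTensor P = (TensorProduct.congr (LinearEquiv.refl B F) e).toLinearMap ∘ₗ
      i.rTensor (B ⊗[A] R) ∘ₗ (TensorProduct.congr (LinearEquiv.refl B K) e).symm.toLinearMap :=
    TensorProduct.ext' fun n x => by simp
  rw [he]
  exact ((TensorProduct.congr _ e).injective.comp hinj).comp (TensorProduct.congr _ e).symm.injective

end Injective

section Kernel

open MvPolynomial

theorem finitePresentation_span_image {A₁ P₁ R P : Type u} [CommRing A₁] [CommRing P₁] [CommRing R] [CommRing P]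
    [Algebra A₁ P₁] [Algebra A₁ R] [Algebra A₁ P] [Algebra P₁ P] [Algebra R P] [IsScalarTower A₁ P₁ P]
    [IsScalarTower A₁ R P] [Algebra.IsPushout A₁ P₁ R P] [IsNoetherianRing P₁] {κ : Type} [Fintype κ] [DecidableEq κ]
    (N₁ : Submodule P₁ (κ → P₁)) (h : Module.Flat A₁ ((κ → P₁) ⧸ N₁)) :
    Module.FinitePresentation P
      (Submodule.span P ((fun (x : κ → P₁) k => algebraMap P₁ P (x k)) '' (N₁ : Set (κ → P₁)))) := by
  haveI := h
  have hinj' : Function.Injective (N₁.subtype.rTensor P) :=
    rTensor_pushout_injective (A := A₁) N₁.subtype N₁.mkQ N₁.injective_subtype (LinearMap.exact_subtype_mkQ N₁)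
      N₁.mkQ_surjective R P
  rw [← LinearMap.lTensor_inj_iff_rTensor_inj] at hinj'
  let π : P ⊗[P₁] (κ → P₁) ≃ₗ[P] (κ → P) := TensorProduct.piScalarRight P₁ P P κ
  let γ : P ⊗[P₁] N₁ →ₗ[P] (κ → P) := π.toLinearMap ∘ₗ N₁.subtype.baseChange P
  have hγ : Function.Injective γ := π.injective.comp hinj'
  have hval : ∀ (a : P) (n : N₁), γ (a ⊗ₜ n) = a • fun k => algebraMap P₁ P ((n : κ → P₁) k) := by
    intro a n
    funext k
    simp [γ, π, TensorProduct.piScalarRight_apply, Algebra.smul_def, mul_comm]
  have hrange : LinearMap.range γ =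
      Submodule.span P ((fun (x : κ → P₁) k => algebraMap P₁ P (x k)) '' (N₁ : Set (κ → P₁))) := by
    refine le_antisymm ?_ (Submodule.span_le.2 ?_)
    · rintro _ ⟨z, rfl⟩
      induction z using TensorProduct.induction_on with
      | zero => simp
      | add z w hz hw => rw [map_add]; exact add_mem hz hw
      | tmul a n => rw [hval]; exact Submodule.smul_mem _ _ (Submodule.subset_span ⟨_, n.2, rfl⟩)
    · rintro _ ⟨x, hx, rfl⟩
      exact ⟨1 ⊗ₜ ⟨x, hx⟩, (hval 1 ⟨x, hx⟩).trans (one_smul _ _)⟩
  haveI : Module.FinitePresentation P₁ N₁ := Module.finitePresentation_of_finite P₁ N₁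
  exact Module.FinitePresentation.of_equiv ((LinearEquiv.ofInjective γ hγ).trans (LinearEquiv.ofEq _ _ hrange))

theorem finitePresentation_submodule {R : Type u} [CommRing R] {σ κ : Type} [Finite σ] [Finite κ]
    {N : Submodule (MvPolynomial σ R) (κ → MvPolynomial σ R)} (hN : N.FG)
    [Module.Flat R ((κ → MvPolynomial σ R) ⧸ N)] : Module.FinitePresentation (MvPolynomial σ R) N := by
  classical
  haveI := Fintype.ofFinite κ
  obtain ⟨A₁, hA₁, -, N₁, hN₁, hflat⟩ := exists_flat_model hN ⊥ Subalgebra.fg_bot
  haveI : Algebra.FiniteType ℤ A₁ := ⟨A₁.fg_top.mpr hA₁⟩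
  haveI : IsNoetherianRing A₁ := Algebra.FiniteType.isNoetherianRing ℤ A₁
  have hfl := hflat A₁ hA₁ le_rfl
  have h0 : baseN (Subalgebra.inclusion (le_refl A₁)).toRingHom N₁ = N₁ := by
    refine le_antisymm (Submodule.span_le.2 ?_) fun x hx => ?_
    · rintro _ ⟨x, hx, rfl⟩
      convert hx
      funext k
      rw [mapF_apply]
      exact (congrArg (fun φ => MvPolynomial.map φ (x k)) (RingHom.ext fun a => rfl)).trans (MvPolynomial.map_id _)
    · have := mapF_mem_baseN (φ := (Subalgebra.inclusion (le_refl A₁)).toRingHom) hx
      convert this using 1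
      funext k
      rw [mapF_apply]
      exact ((congrArg (fun φ => MvPolynomial.map φ (x k)) (RingHom.ext fun a => rfl)).trans (MvPolynomial.map_id _)).symm
  rw [h0] at hfl
  letI : Algebra (MvPolynomial σ A₁) (MvPolynomial σ R) := MvPolynomial.algebraMvPolynomial
  rw [← hN₁]
  exact finitePresentation_span_image (A₁ := A₁) (R := R) N₁ hfl

theorem finitePresentation_of_exact_flat {A B K F M : Type u} [CommRing A] [CommRing B] [Algebra A B]
    [Algebra.FinitePresentation A B] [AddCommGroup K] [Module B K] [AddCommGroup F] [Module B F]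
    [AddCommGroup M] [Module B M] [Module A M] [IsScalarTower A B M] [Module.FinitePresentation B F]
    [Module.FinitePresentation B M] [Module.Flat A M] (i : K →ₗ[B] F) (p : F →ₗ[B] M) (hi : Function.Injective i)
    (hex : Function.Exact i p) (hp : Function.Surjective p) : Module.FinitePresentation B K := by
  obtain ⟨n, π, hπ, hker⟩ := Algebra.FinitePresentation.out (R := A) (A := B)
  let P := MvPolynomial (Fin n) A
  letI : Algebra P B := π.toRingHom.toAlgebra
  haveI : IsScalarTower A P B := IsScalarTower.of_algebraMap_eq fun r => (π.commutes r).symm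
  letI : Module P F := Module.compHom F π.toRingHom
  letI : Module P M := Module.compHom M π.toRingHom
  letI : Module P K := Module.compHom K π.toRingHom
  haveI : IsScalarTower P B F := IsScalarTower.of_algebraMap_smul fun _ _ => rfl
  haveI : IsScalarTower P B M := IsScalarTower.of_algebraMap_smul fun _ _ => rfl
  haveI : IsScalarTower P B K := IsScalarTower.of_algebraMap_smul fun _ _ => rfl
  haveI : IsScalarTower A P M := IsScalarTower.of_algebraMap_smul fun r m => by
    show π (algebraMap A P r) • m = r • m
    rw [π.commutes, algebraMap_smul]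
  haveI : Module.FinitePresentation P B := Module.finitePresentation_of_surjective (Algebra.linearMap P B) hπ hker
  haveI : Module.FinitePresentation P F := Module.FinitePresentation.trans P F B
  haveI : Module.FinitePresentation P M := Module.FinitePresentation.trans P M B
  obtain ⟨m, q, hq⟩ := Module.Finite.exists_fin' P F
  let r : (Fin m → P) →ₗ[P] M := (p.restrictScalars P).comp q
  have hr : Function.Surjective r := hp.comp hq
  have hrfg : (LinearMap.ker r).FG := Module.FinitePresentation.fg_ker r hr
  haveI : Module.Flat A ((Fin m → P) ⧸ LinearMap.ker r) :=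
    Module.Flat.of_linearEquiv ((r.quotKerEquivOfSurjective hr).restrictScalars A)
  haveI := finitePresentation_submodule hrfg
  let g : LinearMap.ker r →ₗ[P] LinearMap.ker (p.restrictScalars P) :=
    q.restrict fun x hx => hx
  have hg : Function.Surjective g := fun ⟨y, hy⟩ => by
    obtain ⟨x, rfl⟩ := hq y
    exact ⟨⟨x, hy⟩, rfl⟩
  have hgker : (LinearMap.ker g).FG := by
    have h1 : (LinearMap.ker g).map (LinearMap.ker r).subtype = LinearMap.ker q := by
      ext x
      constructor
      · rintro ⟨y, hy, rfl⟩
        exact congrArg Subtype.val (show g y = 0 from hy)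
      · intro hx
        have hxr : x ∈ LinearMap.ker r := by
          show p (q x) = 0
          rw [show q x = 0 from hx, map_zero]
        exact ⟨⟨x, hxr⟩, Subtype.ext hx, rfl⟩
    refine Submodule.fg_of_fg_map_injective (LinearMap.ker r).subtype Subtype.val_injective ?_
    rw [h1]
    exact Module.FinitePresentation.fg_ker q hq
  haveI : Module.FinitePresentation P (LinearMap.ker (p.restrictScalars P)) :=
    Module.finitePresentation_of_surjective g hg hgker
  haveI : Module.FinitePresentation P K := by
    refine Module.FinitePresentation.of_equiv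
      (M := LinearMap.ker (p.restrictScalars P)) (LinearEquiv.symm ?_)
    refine (LinearEquiv.ofInjective (i.restrictScalars P) hi).trans (LinearEquiv.ofEq _ _ ?_)
    exact (LinearMap.exact_iff.1 (show Function.Exact (i.restrictScalars P) (p.restrictScalars P) from hex)).symm
  refine Module.FinitePresentation.of_equiv (M := B ⊗[P] K) (LinearEquiv.ofBijective
    (LinearMap.liftBaseChange B (LinearMap.id : K →ₗ[P] K)) ⟨fun x y hxy => ?_, fun k => ⟨1 ⊗ₜ k, by simp⟩⟩)
  have hsurj : Function.Surjective (TensorProduct.mk P B K 1) := fun z => by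
    induction z using TensorProduct.induction_on with
    | zero => exact ⟨0, map_zero _⟩
    | add z w hz hw =>
      obtain ⟨a, rfl⟩ := hz
      obtain ⟨b, rfl⟩ := hw
      exact ⟨a + b, map_add _ _ _⟩
    | tmul b k =>
      obtain ⟨r, rfl⟩ := hπ b
      refine ⟨r • k, ?_⟩
      show (1 : B) ⊗ₜ[P] (r • k) = (algebraMap P B r) ⊗ₜ[P] k
      rw [← TensorProduct.smul_tmul, Algebra.algebraMap_eq_smul_one]
  obtain ⟨a, rfl⟩ := hsurj x
  obtain ⟨b, rfl⟩ := hsurj y
  simp only [TensorProduct.mk_apply, LinearMap.liftBaseChange_tmul, one_smul, LinearMap.id_apply] at hxy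
  rw [hxy]

end Kernel

section Fibres

variable {A B : Type u} [CommRing A] [CommRing B] [Algebra A B]

/-- A syzygy step. -/
theorem exists_step [Algebra.FinitePresentation A B] [Module.Flat A B] (M : Type u) [AddCommGroup M] [Module B M]
    [Module A M] [IsScalarTower A B M] [Module.FinitePresentation B M] [Module.Flat A M] :
    ∃ (m : ℕ) (p : (Fin m → B) →ₗ[B] M), Function.Surjective p ∧
      Module.FinitePresentation B (LinearMap.ker p) ∧ Module.Flat A (LinearMap.ker p) := by
  obtain ⟨m, p, hp⟩ := Module.Finite.exists_fin' B M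
  refine ⟨m, p, hp, finitePresentation_of_exact_flat (A := A) _ p Subtype.val_injective (LinearMap.exact_subtype_ker_map p) hp, ?_⟩
  haveI : Module.Flat A (Fin m → B) := Module.Flat.trans A B (Fin m → B)
  exact Groth.Agent.TFun.flat_left (A := A) (g := (LinearMap.ker p).subtype.restrictScalars A) (f := p.restrictScalars A)
    Subtype.val_injective (LinearMap.exact_subtype_ker_map p) hp

theorem fibre_ses {K F M : Type u} [AddCommGroup K] [Module B K] [AddCommGroup F] [Module B F]
    [AddCommGroup M] [Module B M] [Module A M] [IsScalarTower A B M] [Module.Flat A M]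
    (i : K →ₗ[B] F) (p : F →ₗ[B] M) (hi : Function.Injective i)
    (hex : Function.Exact i p) (hp : Function.Surjective p) (N : Type u) [CommRing N] [Algebra A N] :
    Function.Injective (i.baseChange (B ⊗[A] N)) ∧ Function.Exact (i.baseChange (B ⊗[A] N)) (p.baseChange (B ⊗[A] N)) ∧
      Function.Surjective (p.baseChange (B ⊗[A] N)) :=
  ⟨(LinearMap.lTensor_inj_iff_rTensor_inj _ _).2 (rTensor_baseChange_injective i p hi hex hp N),
    lTensor_exact _ hex hp, LinearMap.lTensor_surjective _ hp⟩

theorem exists_residueField_algebra (Q : Ideal B) [Q.IsPrime] :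
    ∃ (_ : Algebra (B ⊗[A] (Q.comap (algebraMap A B)).ResidueField) Q.ResidueField),
      IsScalarTower B (B ⊗[A] (Q.comap (algebraMap A B)).ResidueField) Q.ResidueField := by
  let g : (Q.comap (algebraMap A B)).ResidueField →ₐ[A] Q.ResidueField :=
    Ideal.ResidueField.mapₐ (Q.comap (algebraMap A B)) Q (Algebra.ofId A B) rfl
  let t := Algebra.TensorProduct.lift (IsScalarTower.toAlgHom A B Q.ResidueField) g fun _ _ => Commute.all _ _
  letI := t.toRingHom.toAlgebra
  exact ⟨inferInstance, IsScalarTower.of_algebraMap_eq fun b => by
    show _ = t (b ⊗ₜ 1)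
    simp [t]⟩

theorem lTensor_residueField_injective (Q : Ideal B) [Q.IsPrime] {K F : Type u} [AddCommGroup K] [Module B K]
    [AddCommGroup F] [Module B F] (i : K →ₗ[B] F) (T : Type u) [CommRing T] [Algebra B T] [Algebra T Q.ResidueField]
    [IsScalarTower B T Q.ResidueField] (s : T ⊗[B] F →ₗ[T] T ⊗[B] K)
    (hs : s ∘ₗ i.baseChange T = LinearMap.id) : Function.Injective (i.lTensor Q.ResidueField) := by
  let eK := TensorProduct.AlgebraTensorModule.cancelBaseChange B T T Q.ResidueField K
  let eF := TensorProduct.AlgebraTensorModule.cancelBaseChange B T T Q.ResidueField F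
  have comm : ∀ z, eF ((i.baseChange T).lTensor Q.ResidueField z) = i.lTensor Q.ResidueField (eK z) := by
    intro z
    induction z using TensorProduct.induction_on with
    | zero => simp
    | add z w hz hw => simp only [map_add, hz, hw]
    | tmul c t =>
      induction t using TensorProduct.induction_on with
      | zero => simp
      | add t t' ht ht' => simp only [tmul_add, map_add, ht, ht']
      | tmul b n => simp [eK, eF]
  intro x y hxy
  obtain ⟨x, rfl⟩ := eK.surjective x
  obtain ⟨y, rfl⟩ := eK.surjective y
  rw [← comm, ← comm] at hxy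
  have := congrArg (s.lTensor Q.ResidueField) (eF.injective hxy)
  rw [← LinearMap.lTensor_comp_apply, ← LinearMap.lTensor_comp_apply, hs, LinearMap.lTensor_id] at this
  exact congrArg eK this

/-- Finitely presented flat modules with projective fibres are projective. -/
theorem projective_of_fibres [Algebra.FinitePresentation A B] [Module.Flat A B] (M : Type u) [AddCommGroup M]
    [Module B M] [Module A M] [IsScalarTower A B M] [Module.FinitePresentation B M] [Module.Flat A M]
    (h : ∀ p : PrimeSpectrum A,
      Module.Projective (B ⊗[A] p.asIdeal.ResidueField) ((B ⊗[A] p.asIdeal.ResidueField) ⊗[B] M)) :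
    Module.Projective B M := by
  obtain ⟨m, p, hp, hKfp, -⟩ := exists_step (A := A) (B := B) M
  haveI := hKfp
  refine Module.projective_of_localization_maximal' (fun I => Localization.AtPrime I)
    (fun I _ => Localization.AtPrime I ⊗[B] M) (fun I _ => TensorProduct.mk B (Localization.AtPrime I) M 1)
    fun Q hQ => ?_
  let BQ := Localization.AtPrime Q
  let i := (LinearMap.ker p).subtype
  let T := B ⊗[A] (Q.comap (algebraMap A B)).ResidueField
  obtain ⟨_, _⟩ := exists_residueField_algebra (A := A) (B := B) Q
  haveI := h ⟨Q.comap (algebraMap A B), inferInstance⟩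
  obtain ⟨h1, h2, h3⟩ := fibre_ses (A := A) i p Subtype.val_injective (LinearMap.exact_subtype_ker_map p) hp
    (Q.comap (algebraMap A B)).ResidueField
  obtain ⟨sec, hsec⟩ := Module.projective_lifting_property (p.baseChange T) LinearMap.id h3
  obtain ⟨s, hs⟩ : ∃ s : T ⊗[B] (Fin m → B) →ₗ[T] T ⊗[B] (LinearMap.ker p), s ∘ₗ i.baseChange T = LinearMap.id :=
    (((h2.split_tfae').out 0 1 rfl rfl).mp ⟨h1, sec, hsec⟩).2
  have hk := lTensor_residueField_injective Q i T s hs
  refine @Module.Projective.of_free BQ _ _ _ _ ?_
  refine Module.free_of_lTensor_residueField_injective (i.baseChange BQ) (p.baseChange BQ)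
    (LinearMap.lTensor_surjective _ hp) (lTensor_exact _ (LinearMap.exact_subtype_ker_map p) hp) ?_
  let eK := TensorProduct.AlgebraTensorModule.cancelBaseChange B BQ BQ (IsLocalRing.ResidueField BQ) (LinearMap.ker p)
  let eF := TensorProduct.AlgebraTensorModule.cancelBaseChange B BQ BQ (IsLocalRing.ResidueField BQ) (Fin m → B)
  have comm : ∀ z, eF ((i.baseChange BQ).lTensor (IsLocalRing.ResidueField BQ) z) =
      i.lTensor (IsLocalRing.ResidueField BQ) (eK z) := by
    intro z
    induction z using TensorProduct.induction_on with
    | zero => simp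
    | add z w hz hw => simp only [map_add, hz, hw]
    | tmul c t =>
      induction t using TensorProduct.induction_on with
      | zero => simp
      | add t t' ht ht' => simp only [tmul_add, map_add, ht, ht']
      | tmul b n => simp [eK, eF]
  intro x y hxy
  apply eK.injective
  apply hk
  exact (comm x).symm.trans ((congrArg eF hxy).trans (comm y))

/-- The fibre criterion for the projective dimension. -/
theorem hasProjectiveDimensionLT_iff_fibres [Algebra.FinitePresentation A B] [Module.Flat A B] :
    ∀ (n : ℕ) (M : Type u) [AddCommGroup M] [Module B M] [Module A M] [IsScalarTower A B M]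
      [Module.FinitePresentation B M] [Module.Flat A M],
      HasProjectiveDimensionLT (ModuleCat.of B M) n ↔ ∀ p : PrimeSpectrum A, HasProjectiveDimensionLT
        (ModuleCat.of (B ⊗[A] p.asIdeal.ResidueField) ((B ⊗[A] p.asIdeal.ResidueField) ⊗[B] M)) n
  | 0, M, _, _, _, _, _, _ => by
    simp only [hasProjectiveDimensionLT_zero_iff_isZero, ModuleCat.isZero_iff_subsingleton]
    refine ⟨fun _ p => ?_, fun h => ?_⟩
    · infer_instance
    · rw [← Module.support_eq_empty_iff (R := B)]
      refine Set.eq_empty_of_forall_notMem fun Q hQ => ?_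
      let q := Q.asIdeal
      obtain ⟨_, _⟩ := exists_residueField_algebra (A := A) q
      haveI : Subsingleton ((B ⊗[A] (q.comap (algebraMap A B)).ResidueField) ⊗[B] M) :=
        h ⟨q.comap (algebraMap A B), inferInstance⟩
      haveI : Subsingleton (q.ResidueField ⊗[B] M) :=
        (TensorProduct.AlgebraTensorModule.cancelBaseChange B (B ⊗[A] (q.comap (algebraMap A B)).ResidueField)
          (B ⊗[A] (q.comap (algebraMap A B)).ResidueField) q.ResidueField M).symm.toEquiv.subsingleton
      exact (not_nontrivial_iff_subsingleton.2 ‹_›) ((Module.mem_support_iff_nontrivial_residueField_tensorProduct Q).mp hQ)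
  | 1, M, _, _, _, _, _, _ => by
    simp only [Groth.Agent.ProjDim.projDim_zero_iff]
    exact ⟨fun _ p => inferInstance, projective_of_fibres M⟩
  | n + 2, M, _, _, _, _, _, _ => by
    obtain ⟨m, p, hp, hKfp, hKflat⟩ := exists_step (A := A) (B := B) M
    have hex : Function.Exact (LinearMap.ker p).subtype p := LinearMap.exact_subtype_ker_map p
    rw [Groth.Agent.ProjDim.shift_iff _ p Subtype.val_injective hex hp n,
      hasProjectiveDimensionLT_iff_fibres (n + 1) (LinearMap.ker p)]
    refine forall_congr' fun q => ?_
    obtain ⟨h1, h2, h3⟩ := fibre_ses (A := A) _ p Subtype.val_injective hex hp q.asIdeal.ResidueField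
    exact (Groth.Agent.ProjDim.shift_iff _ _ h1 h2 h3 n).symm

/-- Projective dimension and Tor dimension agree. -/
theorem hasProjectiveDimensionLT_iff_td [Algebra.FinitePresentation A B] [Module.Flat A B] :
    ∀ (n : ℕ) (M : Type u) [AddCommGroup M] [Module B M] [Module A M] [IsScalarTower A B M]
      [Module.FinitePresentation B M] [Module.Flat A M],
      HasProjectiveDimensionLT (ModuleCat.of B M) (n + 1) ↔ Groth.Agent.DRingPC.TD n (ModuleCat.of B M)
  | 0, M, _, _, _, _, _, _ => by
    rw [Groth.Agent.ProjDim.projDim_zero_iff]
    refine ⟨fun _ => Groth.Agent.DRingPC.td_of_flat 0, fun h => ?_⟩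
    haveI : Module.Flat B M := Groth.Agent.DRingPC.flat_of_td_zero h
    exact Module.Flat.projective_of_finitePresentation
  | n + 1, M, _, _, _, _, _, _ => by
    obtain ⟨m, p, hp, hKfp, hKflat⟩ := exists_step (A := A) (B := B) M
    rw [Groth.Agent.ProjDim.shift_iff _ p Subtype.val_injective (LinearMap.exact_subtype_ker_map p) hp n,
      hasProjectiveDimensionLT_iff_td n (LinearMap.ker p)]
    exact (Groth.Agent.DRingPC.td_shift (S := LinearMap.shortComplexKer p)
      (LinearMap.shortExact_shortComplexKer hp) (inferInstanceAs (Module.Flat B (Fin m → B))) n).symm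

end Fibres

end Groth.FlatDescent
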