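import Groth.Agent.FlatDescent.Noeth
import Groth.Agent.AlgSpLib.LocP
import Groth.Prelude.Def_AlgSp4

/-!
# Fibres of morphisms of algebraic spaces in charts
-/

set_option autoImplicit false
set_option backward.isDefEq.respectTransparency.types false

universe u

open CategoryTheory CategoryTheory.Limits AlgebraicGeometry Opposite AlgSp Groth.Agent.AlgSpLib

namespace Groth.FlatDescent

variable {S : Scheme.{u}}

/-- The fibre of a chart is a chart of the fibre. -/
theorem exists_etale_fibre_chart {F Z P : Sp S} (hZ : IsAlgSpace Z) {U W T UT : Over S} (m : F ⟶ Z)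
    (a : (yon S).obj U ⟶ F) (c : (yon S).obj W ⟶ Z) (j : U ⟶ W) (ι : T ⟶ W) (ha : RepWith @Etale a)
    (hc : RepWith @Etale c) (w : a ≫ m = (yon S).map j ≫ c) {pF : P ⟶ F} {qT : P ⟶ (yon S).obj T}
    (sqP : IsPullback pF qT m ((yon S).map ι ≫ c)) {fU : UT ⟶ U} {sT : UT ⟶ T} (sqU : IsPullback fU sT j ι) :
    ∃ a' : (yon S).obj UT ⟶ P, RepWith @Etale a' ∧ a' ≫ pF = (yon S).map fU ≫ a ∧ a' ≫ qT = (yon S).map sT := by
  obtain ⟨R, p, q, sqR⟩ := exists_isPullback hc.1 ((yon S).map ι ≫ c)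
  have hq : Etale q.left := prop_snd sqR hc
  obtain ⟨σ, hσ, hσ'⟩ := exists_lift sqR ((yon S).map ι) (𝟙 T) (by simp)
  have hσe : Etale σ.left := by
    refine MorphismProperty.of_postcomp (W := @Etale) (W' := @Etale) σ.left q.left hq ?_
    rw [← Over.comp_left, hσ', Over.id_left]
    infer_instance
  have hσι : σ ≫ p = ι := (yon S).map_injective (by rw [Functor.map_comp]; exact hσ)
  obtain ⟨Q, pU, q', sqQy⟩ := exists_isPullback (representable_yon_map j) ((yon S).map p)
  have sqQ := isPullback_of_yon sqQy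
  have sqTot : IsPullback ((yon S).map pU) ((yon S).map (q' ≫ q)) (a ≫ m) ((yon S).map ι ≫ c) := by
    rw [w, Functor.map_comp]
    exact sqQy.paste_vert sqR
  have wa : ((yon S).map pU ≫ a) ≫ m = (yon S).map (q' ≫ q) ≫ (yon S).map ι ≫ c := by
    rw [Category.assoc]; exact sqTot.w
  let a'' : (yon S).obj Q ⟶ P := sqP.lift _ _ wa
  have sqA : IsPullback ((yon S).map pU) a'' a pF := by
    refine IsPullback.of_bot ?_ (sqP.lift_fst _ _ wa).symm sqP
    rw [sqP.lift_snd]
    exact sqTot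
  have ha'' : RepWith @Etale a'' := repWith_baseChange sqA ha
  have wτ : fU ≫ j = (sT ≫ σ) ≫ p := by rw [Category.assoc, hσι]; exact sqU.w
  let τ : UT ⟶ Q := sqQ.lift fU (sT ≫ σ) wτ
  have sqτ : IsPullback τ sT q' σ := by
    refine IsPullback.of_right ?_ (sqQ.lift_snd _ _ wτ) sqQ
    rw [sqQ.lift_fst, hσι]
    exact sqU
  have hτ : Etale τ.left := MorphismProperty.of_isPullback (P := @Etale) (left_isPullback sqτ).flip hσe
  refine ⟨(yon S).map τ ≫ a'', repWith_yon_comp τ hτ ha'', ?_, ?_⟩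
  · rw [Category.assoc, sqP.lift_fst, ← Category.assoc, ← Functor.map_comp, sqQ.lift_fst]
  · rw [Category.assoc, sqP.lift_snd, ← Functor.map_comp, ← Category.assoc, sqQ.lift_snd, Category.assoc, hσ',
      Category.comp_id]

/-- Flatness of all field valued fibres gives flatness of fibres in charts. -/
theorem fibFlat_of_fibres {X Y Z : AlgSp.Space S} (f : X ⟶ Y) (h : Y ⟶ Z)
    (hfib : ∀ (K : Type u) [Field K] (sK : Spec (CommRingCat.of K) ⟶ S)
      (z : (AlgSp.yon S).obj (Over.mk sK) ⟶ Z.obj) (Xz Yz : AlgSp.Sp S)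
      (pX : Xz ⟶ X.obj) (qX : Xz ⟶ (AlgSp.yon S).obj (Over.mk sK))
      (pY : Yz ⟶ Y.obj) (qY : Yz ⟶ (AlgSp.yon S).obj (Over.mk sK)) (fz : Xz ⟶ Yz),
      IsPullback pX qX (f ≫ h).hom z → IsPullback pY qY h.hom z → fz ≫ pY = pX ≫ f.hom → fz ≫ qY = qX →
      AlgSp.LocP @Flat fz)
    {U V W : Over S} {a : (yon S).obj U ⟶ X.obj} {b : (yon S).obj V ⟶ Y.obj} {c : (yon S).obj W ⟶ Z.obj}
    {i : U ⟶ V} {k : V ⟶ W} (ha : RepWith @Etale a) (hb : RepWith @Etale b) (hc : RepWith @Etale c)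
    (wi : a ≫ f.hom = (yon S).map i ≫ b) (wk : b ≫ h.hom = (yon S).map k ≫ c) (x : ↥U.left) :
    FibFlat i.left k.left x := by
  let s : W.left := k.left (i.left x)
  let sK : Spec (W.left.residueField s) ⟶ S := W.left.fromSpecResidueField s ≫ W.hom
  let T : Over S := Over.mk sK
  let ι : T ⟶ W := Over.homMk (W.left.fromSpecResidueField s) rfl
  let z : (yon S).obj T ⟶ Z.obj := (yon S).map ι ≫ c
  let UT : Over S := Over.mk ((i.left ≫ k.left).fiberι s ≫ U.hom)
  let VT : Over S := Over.mk (k.left.fiberι s ≫ V.hom)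
  let fU : UT ⟶ U := Over.homMk ((i.left ≫ k.left).fiberι s) rfl
  let fV : VT ⟶ V := Over.homMk (k.left.fiberι s) rfl
  let sU : UT ⟶ T := Over.homMk ((i.left ≫ k.left).fiberToSpecResidueField s) (by
    show _ ≫ W.left.fromSpecResidueField s ≫ W.hom = (i.left ≫ k.left).fiberι s ≫ U.hom
    rw [← Category.assoc, ← Scheme.Hom.fiber_fac, Category.assoc, Category.assoc, Over.w, Over.w])
  let sV : VT ⟶ T := Over.homMk (k.left.fiberToSpecResidueField s) (by
    show _ ≫ W.left.fromSpecResidueField s ≫ W.hom = k.left.fiberι s ≫ V.hom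
    rw [← Category.assoc, ← Scheme.Hom.fiber_fac, Category.assoc, Over.w])
  have sqU : IsPullback fU sU (i ≫ k) ι :=
    IsPullback.of_map (Over.forget S) (by ext; exact (i.left ≫ k.left).fiber_fac s) (IsPullback.of_hasPullback _ _)
  have sqV : IsPullback fV sV k ι :=
    IsPullback.of_map (Over.forget S) (by ext; exact k.left.fiber_fac s) (IsPullback.of_hasPullback _ _)
  have sqX := IsPullback.of_hasPullback (f ≫ h).hom z
  have sqY := IsPullback.of_hasPullback h.hom z
  let fz := sqY.lift (pullback.fst (f ≫ h).hom z ≫ f.hom) (pullback.snd (f ≫ h).hom z)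
    (by rw [Category.assoc]; exact sqX.w)
  have hfz := hfib (W.left.residueField s) sK z _ _ _ _ _ _ fz sqX sqY (sqY.lift_fst _ _ _) (sqY.lift_snd _ _ _)
  obtain ⟨a', ha', ha₁, ha₂⟩ := exists_etale_fibre_chart Z.property (f ≫ h).hom a c (i ≫ k) ι ha hc
    (by
      show a ≫ f.hom ≫ h.hom = _
      rw [← Category.assoc, wi, Category.assoc, wk, Functor.map_comp, Category.assoc]) sqX sqU
  obtain ⟨b', hb', hb₁, hb₂⟩ := exists_etale_fibre_chart Z.property h.hom b c k ι hb hc wk sqY sqV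
  have wT : (fU ≫ i) ≫ k = sU ≫ ι := by rw [Category.assoc]; exact sqU.w
  let iT : UT ⟶ VT := sqV.lift (fU ≫ i) sU wT
  have w' : a' ≫ fz = (yon S).map iT ≫ b' := by
    refine sqY.hom_ext ?_ ?_
    · rw [Category.assoc, Category.assoc, sqY.lift_fst, ← Category.assoc, ha₁, Category.assoc, wi, hb₁,
        ← Category.assoc, ← Category.assoc, ← Functor.map_comp, ← Functor.map_comp, sqV.lift_fst]
    · rw [Category.assoc, Category.assoc, sqY.lift_snd, ha₂, hb₂, ← Functor.map_comp, sqV.lift_snd]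
  have hflat : Flat iT.left := hfz a' b' iT ha' hb' w'
  have hφ : iT.left ≫ k.left.fiberι s = (i.left ≫ k.left).fiberι s ≫ i.left :=
    congrArg (fun e => CommaMorphism.left e) (sqV.lift_fst _ _ wT)
  let pt : (i.left ≫ k.left).fiber s := (i.left ≫ k.left).asFiber x
  have := (flat_fiberMap_iff i.left k.left s iT.left hφ pt).mp (Flat.stalkMap iT.left pt)
  rwa [show (i.left ≫ k.left).fiberι s pt = x from (i.left ≫ k.left).fiberι_asFiber x] at this

/-- A chart over a given chart, refining a given atlas. -/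
theorem exists_chart_lift_of {F G : Sp S} (hG : IsAlgSpace G) (f : F ⟶ G) {U₀ V : Over S}
    (p : (yon S).obj U₀ ⟶ F) (hp : RepWith @Etale p) (hps : RepWith @Surjective p)
    (q : (yon S).obj V ⟶ G) (hq : RepWith @Etale q) (hqs : RepWith @Surjective q) :
    ∃ (U : Over S) (a : (yon S).obj U ⟶ F) (α : U ⟶ V) (β : U ⟶ U₀), Etale β.left ∧
      RepWith @Etale a ∧ RepWith @Surjective a ∧ a ≫ f = (yon S).map α ≫ q := by
  obtain ⟨Z, z₁, z₂, sq⟩ := exists_isPullback (hG.representable_from_yon q) (p ≫ f)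
  have h₁ : Etale z₂.left := prop_snd sq hq
  have h₂ : Surjective z₂.left := prop_snd sq hqs
  exact ⟨Z, (yon S).map z₂ ≫ p, z₁, z₂, h₁, repWith_yon_comp z₂ h₁ hp, repWith_yon_comp z₂ h₂ hps,
    by rw [Category.assoc]; exact sq.w.symm⟩

end Groth.FlatDescent
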