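import Groth.Agent.FlatDescent.FibreBC
import Groth.Agent.FlatDescent.AlgSp
import Groth.Prelude.Def_AlgSpMor5

/-!
# Flatness at points of algebraic spaces; the flat locus over a base
-/

set_option autoImplicit false
set_option backward.isDefEq.respectTransparency.types false

universe u

open CategoryTheory CategoryTheory.Limits AlgebraicGeometry Opposite AlgSp Groth.Agent.AlgSpLib

namespace Groth.FlatDescent

variable {S : Scheme.{u}}

/-- One chart through a point suffices for flatness at it. -/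
theorem isFlatAtMor_of_chart {F G : Sp S} {f : F ⟶ G} {U V : Over S} {a : (yon S).obj U ⟶ F} {b : (yon S).obj V ⟶ G}
    {i : U ⟶ V} (ha : RepWith @Etale a) (hb : RepWith @Etale b) (w : a ≫ f = (yon S).map i ≫ b) (u : ↥U.left)
    (hu : (i.left.stalkMap u).hom.Flat) : IsFlatAtMor f (Points.ofPt a u) := by
  intro U' V' a' b' i' u' ha' hb' w' e
  obtain ⟨W₁, p, p', sq⟩ := exists_isPullback ha.1 a'
  haveI : Etale p.left := prop_snd sq.flip ha'
  haveI : Etale p'.left := prop_snd sq ha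
  obtain ⟨W₂, r, r', sq₂⟩ := exists_isPullback hb.1 b'
  haveI : Etale r.left := prop_snd sq₂.flip hb'
  haveI : Etale r'.left := prop_snd sq₂ hb
  have he : (yon S).map (p ≫ i) ≫ b = (yon S).map (p' ≫ i') ≫ b' := by
    simp only [Functor.map_comp, Category.assoc, ← w, ← w']
    simp only [← Category.assoc, sq.w]
  obtain ⟨l, hl, hl'⟩ := exists_lift sq₂ ((yon S).map (p ≫ i)) (p' ≫ i') he
  have hl₂ : l ≫ r = p ≫ i := (yon S).map_injective (by rw [Functor.map_comp]; exact hl)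
  obtain ⟨t, ht, ht'⟩ := (ofPt_eq_iff sq u u').1 e.symm
  have h₁ : ((p.left ≫ i.left).stalkMap t).hom.Flat :=
    flat_stalkMap_comp p.left i.left t (Flat.stalkMap p.left t) (ht.symm ▸ hu)
  have h₂ : (l.left.stalkMap t).hom.Flat :=
    flat_stalkMap_of_comp_etale l.left r.left t ((flat_stalkMap_congr (congrArg CommaMorphism.left hl₂) t).mpr h₁)
  have h₃ : ((p'.left ≫ i'.left).stalkMap t).hom.Flat :=
    (flat_stalkMap_congr (congrArg CommaMorphism.left hl') t).mp
      (flat_stalkMap_comp l.left r'.left t h₂ (Flat.stalkMap r'.left _))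
  exact ht' ▸ flat_stalkMap_of_comp p'.left i'.left t (Flat.stalkMap p'.left t) h₃

/-- The flat locus seen in a chart. -/
theorem isFlatAtMor_ofPt_iff {F G : Sp S} {f : F ⟶ G} {U V : Over S} {a : (yon S).obj U ⟶ F} {b : (yon S).obj V ⟶ G}
    {i : U ⟶ V} (ha : RepWith @Etale a) (hb : RepWith @Etale b) (w : a ≫ f = (yon S).map i ≫ b) (u : ↥U.left) :
    IsFlatAtMor f (Points.ofPt a u) ↔ (i.left.stalkMap u).hom.Flat :=
  ⟨fun h => h a b i u ha hb w rfl, isFlatAtMor_of_chart ha hb w u⟩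

/-- Base change of a chart. -/
theorem exists_baseChange_chart {F Z F' Z' : Sp S} {m : F ⟶ Z} {m' : F' ⟶ Z'} {g : Z' ⟶ Z} {pF : F' ⟶ F}
    (sq : IsPullback pF m' m g) {U W W₀ R U' : Over S} {a : (yon S).obj U ⟶ F} {c : (yon S).obj W ⟶ Z}
    {c₀ : (yon S).obj W₀ ⟶ Z'} {j : U ⟶ W} {p : R ⟶ W} {q : R ⟶ W₀}
    (sqR : IsPullback ((yon S).map p) ((yon S).map q) c (c₀ ≫ g)) {pU : U' ⟶ U} {q' : U' ⟶ R}
    (sqQ : IsPullback pU q' j p) (ha : RepWith @Etale a) (has : RepWith @Surjective a)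
    (hc₀ : RepWith @Etale c₀) (hc₀s : RepWith @Surjective c₀) (w : a ≫ m = (yon S).map j ≫ c) :
    ∃ a' : (yon S).obj U' ⟶ F', RepWith @Etale a' ∧ RepWith @Surjective a' ∧
      a' ≫ pF = (yon S).map pU ≫ a ∧ a' ≫ m' = (yon S).map (q' ≫ q) ≫ c₀ := by
  have sq₀ := IsPullback.of_hasPullback m' c₀
  have sqP : IsPullback (pullback.fst m' c₀ ≫ pF) (pullback.snd m' c₀) m (c₀ ≫ g) := sq₀.paste_horiz sq
  have sqTot : IsPullback ((yon S).map pU) ((yon S).map (q' ≫ q)) (a ≫ m) (c₀ ≫ g) := by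
    rw [w, Functor.map_comp]
    exact (yon_isPullback sqQ).paste_vert sqR
  have wa : ((yon S).map pU ≫ a) ≫ m = (yon S).map (q' ≫ q) ≫ c₀ ≫ g := by
    rw [Category.assoc]; exact sqTot.w
  let a'' := sqP.lift _ _ wa
  have sqA : IsPullback ((yon S).map pU) a'' a (pullback.fst m' c₀ ≫ pF) := by
    refine IsPullback.of_bot ?_ (sqP.lift_fst _ _ wa).symm sqP
    rw [sqP.lift_snd]
    exact sqTot
  refine ⟨a'' ≫ pullback.fst m' c₀, repWith_comp (repWith_baseChange sqA ha) (repWith_baseChange sq₀.flip hc₀),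
    repWith_comp (repWith_baseChange sqA has) (repWith_baseChange sq₀.flip hc₀s), ?_, ?_⟩
  · rw [Category.assoc, sqP.lift_fst]
  · rw [Category.assoc, sq₀.w, ← Category.assoc, sqP.lift_snd]

/-- **The flat locus of `f` over a base is open and commutes with base change.** -/
theorem flatLocus_over {X Y Z : AlgSp.Space S} (f : X ⟶ Y) (h : Y ⟶ Z)
    (hfp : AlgSp.LocP @LocallyOfFinitePresentation (f ≫ h).hom) (hfl : AlgSp.LocP @Flat (f ≫ h).hom)
    (hft : AlgSp.LocP @LocallyOfFiniteType h.hom) :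
    IsOpen {x : AlgSp.Points X.obj | AlgSp.IsFlatAtMor f.hom x} ∧
    ∀ (X' Y' Z' : AlgSp.Space S) (g : Z' ⟶ Z) (f' : X' ⟶ Y') (h' : Y' ⟶ Z') (pX : X' ⟶ X) (pY : Y' ⟶ Y),
      IsPullback pY.hom h'.hom h.hom g.hom → IsPullback pX.hom f'.hom f.hom pY.hom →
      {x' : AlgSp.Points X'.obj | AlgSp.IsFlatAtMor f'.hom x'} =
        AlgSp.Points.map pX.hom ⁻¹' {x : AlgSp.Points X.obj | AlgSp.IsFlatAtMor f.hom x} := by
  obtain ⟨W, c, hc, hcs⟩ := Z.property.atlas
  obtain ⟨V, b, k, hb, hbs, wk⟩ := exists_chart_lift Y.property Z.property h.hom c hc hcs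
  obtain ⟨U, a, i, ha, has, wi⟩ := exists_chart_lift X.property Y.property f.hom b hb hbs
  have wik : a ≫ (f ≫ h).hom = (AlgSp.yon S).map (i ≫ k) ≫ c := by
    show a ≫ f.hom ≫ h.hom = _
    rw [← Category.assoc, wi, Category.assoc, wk, Functor.map_comp, Category.assoc]
  haveI h₁ : Flat (i.left ≫ k.left) := hfl a c (i ≫ k) ha hc wik
  haveI h₂ : LocallyOfFinitePresentation (i.left ≫ k.left) := hfp a c (i ≫ k) ha hc wik
  haveI h₃ : LocallyOfFiniteType k.left := hft b c k hb hc wk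
  constructor
  · have : {x : AlgSp.Points X.obj | AlgSp.IsFlatAtMor f.hom x} =
        Points.ofPt a '' {u | (i.left.stalkMap u).hom.Flat} := by
      ext x
      obtain ⟨u, rfl⟩ := surjective_ofPt has x
      refine ⟨fun hx => ⟨u, (isFlatAtMor_ofPt_iff ha hb wi u).mp hx, rfl⟩, ?_⟩
      rintro ⟨v, hv, e⟩
      exact e ▸ isFlatAtMor_of_chart ha hb wi v hv
    rw [this]
    exact isOpenMap_ofPt_of_etale ha _ (isOpen_flatLocus_over i.left k.left)
  · intro X' Y' Z' g f' h' pX pY hY hX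
    obtain ⟨W₀, c₀, hc₀, hc₀s⟩ := Z'.property.atlas
    obtain ⟨R, p, q, sqR⟩ := exists_isPullback hc.1 (c₀ ≫ g.hom)
    obtain ⟨V', pV, qV, sqVy⟩ := exists_isPullback (representable_yon_map k) ((yon S).map p)
    have sqV := isPullback_of_yon sqVy
    obtain ⟨U', pU, qU, sqUy⟩ := exists_isPullback (representable_yon_map (i ≫ k)) ((yon S).map p)
    have sqU := isPullback_of_yon sqUy
    obtain ⟨b', hb', -, hb₁, hb₂⟩ := exists_baseChange_chart hY sqR sqV hb hbs hc₀ hc₀s wk
    have sqT : IsPullback pX.hom (f' ≫ h').hom (f ≫ h).hom g.hom := hX.paste_vert hY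
    obtain ⟨a', ha', has', ha₁, ha₂⟩ := exists_baseChange_chart sqT sqR sqU ha has hc₀ hc₀s wik
    have wT : (pU ≫ i) ≫ k = qU ≫ p := by rw [Category.assoc]; exact sqU.w
    let i' : U' ⟶ V' := sqV.lift (pU ≫ i) qU wT
    have w' : a' ≫ f'.hom = (yon S).map i' ≫ b' := by
      refine hY.hom_ext ?_ ?_
      · rw [Category.assoc, Category.assoc, ← hX.w, ← Category.assoc, ha₁, Category.assoc, wi, hb₁,
          ← Category.assoc, ← Category.assoc, ← Functor.map_comp, ← Functor.map_comp, sqV.lift_fst]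
      · rw [Category.assoc, Category.assoc, hb₂, ← Category.assoc (yon S |>.map i'), ← Functor.map_comp,
          ← Category.assoc i', sqV.lift_snd]
        exact ha₂
    have sqi : IsPullback pU i' i pV := by
      refine IsPullback.of_bot ?_ (sqV.lift_fst _ _ wT).symm sqV
      rw [sqV.lift_snd]
      exact sqU
    ext x'
    obtain ⟨u', rfl⟩ := surjective_ofPt has' x'
    have e : Points.map pX.hom (Points.ofPt a' u') = Points.ofPt a (pU.left u') := by
      rw [Points.map_ofPt, ha₁, ofPt_comp]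
    show IsFlatAtMor f'.hom _ ↔ IsFlatAtMor f.hom _
    rw [e, isFlatAtMor_ofPt_iff ha' hb' w' u', isFlatAtMor_ofPt_iff ha hb wi]
    exact flat_stalkMap_baseChange_iff i.left k.left (left_isPullback sqV) (left_isPullback sqi) u'
      (Flat.stalkMap (i.left ≫ k.left) _)

end Groth.FlatDescent
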