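import Mathlib
import Groth.Agent.FlatDescent.Local

/-!
# Flatness and regular sequences

`flat_of_isWeaklyRegular`: let `B` be Noetherian, `fs` in the Jacobson radical and weakly regular on `B`,
`C = B / (fs)`, `N` finite. If `fs` is weakly regular on `N` and `C ⊗ N` is flat over `C`, then `N` is flat.
-/

universe u

open TensorProduct RingTheory.Sequence

namespace Groth.FlatDescent

/-- Flatness over a quotient only depends on the linear structure over the original ring. -/
theorem flat_congr_of_surjective {A C : Type u} [CommRing A] [CommRing C] [Algebra A C]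
    (h : Function.Surjective (algebraMap A C)) {X Y : Type u} [AddCommGroup X] [AddCommGroup Y] [Module A X]
    [Module A Y] [Module C X] [Module C Y] [IsScalarTower A C X] [IsScalarTower A C Y] (e : X ≃ₗ[A] Y) :
    Module.Flat C X ↔ Module.Flat C Y :=
  ⟨fun _ => Module.Flat.of_linearEquiv (e.symm.extendScalarsOfSurjective h),
    fun _ => Module.Flat.of_linearEquiv (e.extendScalarsOfSurjective h)⟩

/-- For `A → B` surjective, tensor products over `A` and over `B` agree. -/
noncomputable def tensorEquivOfSurjective {A B : Type u} [CommRing A] [CommRing B] [Algebra A B]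
    (h : Function.Surjective (algebraMap A B)) (X Y : Type u) [AddCommGroup X] [AddCommGroup Y] [Module A X]
    [Module A Y] [Module B X] [Module B Y] [IsScalarTower A B X] [IsScalarTower A B Y] :
    X ⊗[B] Y ≃ₗ[A] X ⊗[A] Y :=
  haveI : TensorProduct.CompatibleSMul A B X Y := ⟨fun b x y => by
    obtain ⟨a, rfl⟩ := h b
    rw [algebraMap_smul, algebraMap_smul, smul_tmul]⟩
  TensorProduct.equivOfCompatibleSMul A B A X Y

theorem flat_of_isWeaklyRegular_aux : ∀ (n : ℕ) (B : Type u) [CommRing B] [IsNoetherianRing B] (fs : List B),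
    fs.length = n → (∀ f ∈ fs, f ∈ (⊥ : Ideal B).jacobson) → IsWeaklyRegular B fs →
    ∀ (C : Type u) [CommRing C] [Algebra B C], Function.Surjective (algebraMap B C) →
    RingHom.ker (algebraMap B C) = Ideal.ofList fs →
    ∀ (N : Type u) [AddCommGroup N] [Module B N] [Module.Finite B N],
    IsWeaklyRegular N fs → Module.Flat C (C ⊗[B] N) → Module.Flat B N := by
  intro n
  induction n with
  | zero =>
    intro B _ _ fs hlen _ _ C _ _ hsurj hker N _ _ _ _ hflat
    obtain rfl := List.length_eq_zero_iff.mp hlen
    rw [Ideal.ofList_nil] at hker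
    have hbij : Function.Bijective (algebraMap B C) :=
      ⟨(RingHom.injective_iff_ker_eq_bot _).mpr hker, hsurj⟩
    let e : B ≃ₗ[B] C := LinearEquiv.ofBijective (Algebra.linearMap B C) hbij
    haveI : Module.Flat B C := Module.Flat.of_linearEquiv e.symm
    haveI : Module.Flat B (C ⊗[B] N) := Module.Flat.trans B C (C ⊗[B] N)
    exact Module.Flat.of_linearEquiv ((TensorProduct.lid B N).symm ≪≫ₗ TensorProduct.congr e (LinearEquiv.refl B N))
  | succ n ih =>
    intro B _ _ fs hlen hrad hB C _ _ hsurj hker N _ _ _ hN hflat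
    cases fs with
    | nil => simp at hlen
    | cons f fs =>
      rw [isWeaklyRegular_cons_iff'] at hB hN
      let I : Ideal B := Ideal.span {f}
      let B' := B ⧸ I
      have hI : I ≤ RingHom.ker (algebraMap B C) := by
        rw [hker, Ideal.ofList_cons]; exact le_sup_left
      letI : Algebra B' C := (Ideal.Quotient.lift I (algebraMap B C) (fun x hx => hI hx)).toAlgebra
      haveI : IsScalarTower B B' C := IsScalarTower.of_algebraMap_eq fun x => rfl
      have hsurjB : Function.Surjective (algebraMap B B') := Ideal.Quotient.mk_surjective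
      let eB : QuotSMulTop f B ≃ₗ[B'] B' :=
        (QuotSMulTop.equivQuotTensor f B ≪≫ₗ TensorProduct.rid B B').extendScalarsOfSurjective hsurjB
      let eN : QuotSMulTop f N ≃ₗ[B'] B' ⊗[B] N :=
        (QuotSMulTop.equivQuotTensor f N).extendScalarsOfSurjective hsurjB
      have h1 : IsWeaklyRegular B' (fs.map (Ideal.Quotient.mk I)) :=
        (eB.isWeaklyRegular_congr _).mp hB.2
      have h2 : IsWeaklyRegular (B' ⊗[B] N) (fs.map (Ideal.Quotient.mk I)) :=
        (eN.isWeaklyRegular_congr _).mp hN.2
      have hsurj' : Function.Surjective (algebraMap B' C) := fun c => by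
        obtain ⟨b, rfl⟩ := hsurj c
        exact ⟨algebraMap B B' b, rfl⟩
      have hker' : RingHom.ker (algebraMap B' C) = Ideal.ofList (fs.map (Ideal.Quotient.mk I)) := by
        have : RingHom.ker (algebraMap B' C) = (RingHom.ker (algebraMap B C)).map (Ideal.Quotient.mk I) :=
          Ideal.ker_quotient_lift _ (fun x hx => hI hx)
        rw [this, hker, Ideal.ofList_cons, Ideal.map_sup, Ideal.map_quotient_self, bot_sup_eq, Ideal.map_ofList]
      have hrad' : ∀ g ∈ fs.map (Ideal.Quotient.mk I), g ∈ (⊥ : Ideal B').jacobson := by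
        intro g hg
        obtain ⟨b, hb, rfl⟩ := List.mem_map.mp hg
        refine Ideal.mem_jacobson_bot.mpr fun y => ?_
        obtain ⟨y, rfl⟩ := Ideal.Quotient.mk_surjective y
        rw [← map_mul, ← map_one (Ideal.Quotient.mk I), ← map_add]
        exact (Ideal.mem_jacobson_bot.mp (hrad b (List.mem_cons_of_mem _ hb)) y).map _
      haveI : Module.Flat C (C ⊗[B'] (B' ⊗[B] N)) :=
        haveI := hflat
        Module.Flat.of_linearEquiv (TensorProduct.AlgebraTensorModule.cancelBaseChange B B' C C N)
      haveI hfl : Module.Flat (B ⧸ I) ((B ⧸ I) ⊗[B] N) :=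
        ih B' _ (by simpa using hlen) hrad' h1 C hsurj' hker' (B' ⊗[B] N) h2 inferInstance
      refine flat_of_injective_of_flat_quotient I (S := B) ?_ ?_
      · rw [Algebra.algebraMap_self, Ideal.map_id, Ideal.span_singleton_le_iff_mem]
        exact hrad f List.mem_cons_self
      · -- `I ≅ B` as `f` is regular
        let μ : B →ₗ[B] I := (LinearMap.mulRight B f).codRestrict I
          fun x => Ideal.mem_span_singleton'.mpr ⟨x, rfl⟩
        have hμ : Function.Bijective μ := by
          refine ⟨fun x y h => ?_, fun ⟨y, hy⟩ => ?_⟩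
          · have h' : x * f = y * f := congrArg Subtype.val h
            refine hB.1 ?_
            show f • x = f • y
            rw [smul_eq_mul, smul_eq_mul, mul_comm f, mul_comm f, h']
          · obtain ⟨x, rfl⟩ := Ideal.mem_span_singleton'.mp hy
            exact ⟨x, rfl⟩
        intro z w hzw
        let T := TensorProduct.congr (LinearEquiv.ofBijective μ hμ) (LinearEquiv.refl B N)
        obtain ⟨z, rfl⟩ := T.surjective z
        obtain ⟨w, rfl⟩ := T.surjective w
        have key : ∀ t, TensorProduct.lid B N (I.subtype.rTensor N (T t)) = f • TensorProduct.lid B N t := by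
          intro t
          induction t with
          | zero => simp
          | add a b ha hb => simp only [map_add, ha, hb, smul_add]
          | tmul b x =>
            simp [T, μ, smul_smul, mul_comm]
        have h := congrArg (TensorProduct.lid B N) hzw
        rw [key, key] at h
        exact congrArg T ((TensorProduct.lid B N).injective (hN.1 h))

/-- A finite module on which a weakly regular sequence in the Jacobson radical is weakly regular is flat as soon
as its reduction modulo the sequence is. -/
theorem flat_of_isWeaklyRegular {B : Type u} [CommRing B] [IsNoetherianRing B] {fs : List B}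
    (hrad : ∀ f ∈ fs, f ∈ (⊥ : Ideal B).jacobson) (hB : IsWeaklyRegular B fs)
    (C : Type u) [CommRing C] [Algebra B C] (hsurj : Function.Surjective (algebraMap B C))
    (hker : RingHom.ker (algebraMap B C) = Ideal.ofList fs)
    (N : Type u) [AddCommGroup N] [Module B N] [Module.Finite B N]
    (hN : IsWeaklyRegular N fs) (hflat : Module.Flat C (C ⊗[B] N)) : Module.Flat B N :=
  flat_of_isWeaklyRegular_aux _ B fs rfl hrad hB C hsurj hker N hN hflat

/-- The equivalence between flatness, and regularity plus flatness of the reduction. -/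
theorem flat_iff_isWeaklyRegular {B : Type u} [CommRing B] [IsNoetherianRing B] {fs : List B}
    (hrad : ∀ f ∈ fs, f ∈ (⊥ : Ideal B).jacobson) (hB : IsWeaklyRegular B fs)
    (C : Type u) [CommRing C] [Algebra B C] (hsurj : Function.Surjective (algebraMap B C))
    (hker : RingHom.ker (algebraMap B C) = Ideal.ofList fs)
    (N : Type u) [AddCommGroup N] [Module B N] [Module.Finite B N] :
    Module.Flat B N ↔ Module.Flat C (C ⊗[B] N) ∧ IsWeaklyRegular N fs :=
  ⟨fun _ => ⟨inferInstance, ((TensorProduct.lid B N).isWeaklyRegular_congr fs).mp hB.isWeaklyRegular_rTensor⟩,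
    fun h => flat_of_isWeaklyRegular hrad hB C hsurj hker N h.2 h.1⟩

/-- The same criterion for a module over `A` killed by `R`, everything expressed over `A`. -/
theorem flat_quotient_iff_isWeaklyRegular {A : Type u} [CommRing A] [IsNoetherianRing A] (R : Ideal A)
    {fs : List A} (hrad : ∀ f ∈ fs, f ∈ (⊥ : Ideal A).jacobson) (hreg : IsWeaklyRegular (A ⧸ R) fs)
    (N : Type u) [AddCommGroup N] [Module A N] [Module (A ⧸ R) N] [IsScalarTower A (A ⧸ R) N]
    [Module.Finite A N] :
    Module.Flat (A ⧸ R) N ↔
      Module.Flat (A ⧸ (R ⊔ Ideal.ofList fs)) (N ⧸ ((R ⊔ Ideal.ofList fs) • (⊤ : Submodule A N))) ∧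
        IsWeaklyRegular N fs := by
  let Q : Ideal A := R ⊔ Ideal.ofList fs
  let C := A ⧸ Q
  letI : Algebra (A ⧸ R) C := (Ideal.Quotient.factor (le_sup_left : R ≤ Q)).toAlgebra
  haveI : IsScalarTower A (A ⧸ R) C := IsScalarTower.of_algebraMap_eq fun x => rfl
  have hsurjR : Function.Surjective (algebraMap A (A ⧸ R)) := Ideal.Quotient.mk_surjective
  haveI : Module.Finite (A ⧸ R) N := Module.Finite.of_restrictScalars_finite A (A ⧸ R) N
  have hB : IsWeaklyRegular (A ⧸ R) (fs.map (algebraMap A (A ⧸ R))) :=
    (isWeaklyRegular_map_algebraMap_iff (A ⧸ R) (A ⧸ R) fs).mpr hreg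
  have hsurj : Function.Surjective (algebraMap (A ⧸ R) C) := fun c => by
    obtain ⟨b, rfl⟩ := Ideal.Quotient.mk_surjective c
    exact ⟨algebraMap A (A ⧸ R) b, rfl⟩
  have hker : RingHom.ker (algebraMap (A ⧸ R) C) = Ideal.ofList (fs.map (algebraMap A (A ⧸ R))) := by
    rw [← Ideal.map_ofList]
    refine (Ideal.Quotient.factor_ker (le_sup_left : R ≤ Q)).trans ?_
    rw [Ideal.map_sup, Ideal.map_quotient_self, bot_sup_eq]
    rfl
  have hrad' : ∀ g ∈ fs.map (algebraMap A (A ⧸ R)), g ∈ (⊥ : Ideal (A ⧸ R)).jacobson := by
    intro g hg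
    obtain ⟨b, hb, rfl⟩ := List.mem_map.mp hg
    refine Ideal.mem_jacobson_bot.mpr fun y => ?_
    obtain ⟨y, rfl⟩ := hsurjR y
    rw [← map_mul, ← map_one (algebraMap A (A ⧸ R)), ← map_add]
    exact (Ideal.mem_jacobson_bot.mp (hrad b hb) y).map _
  rw [flat_iff_isWeaklyRegular hrad' hB C hsurj hker N, isWeaklyRegular_map_algebraMap_iff]
  refine and_congr_left' ?_
  exact flat_congr_of_surjective (A := A) (Ideal.Quotient.mk_surjective)
    (tensorEquivOfSurjective hsurjR C N ≪≫ₗ TensorProduct.quotTensorEquivQuotSMul N Q)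

end Groth.FlatDescent
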