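import Mathlib
import Groth.Prelude.Def_EGA4b
import Groth.Agent.FlatDescent.RegularFlat

/-!
# Normal flatness along `R` and along `R + (f)`

For `f` regular on the graded pieces of `M` along `R`, the pieces along `Q = R + (f)` are
`gr^Q_(k+1) ≅ gr^Q_k × (gr^R_(k+1) / Q gr^R_(k+1))`. This gives the passage of normal flatness from `R` to
`R + (f₁, …, fₙ)` and, under a condition at enough primes, back.
-/

universe u

open Pointwise TensorProduct RingTheory.Sequence

namespace Groth.FlatDescent.NormallyFlat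

variable {A : Type u} [CommRing A] {M : Type u} [AddCommGroup M] [Module A M]

/-- The graded piece `I^n M / I^(n+1) M`. -/
abbrev Gr (I : Ideal A) (M : Type u) [AddCommGroup M] [Module A M] (n : ℕ) : Type u :=
  ↥(I ^ n • (⊤ : Submodule A M)) ⧸ (I • (⊤ : Submodule A ↥(I ^ n • (⊤ : Submodule A M))))

/-- `gr^R_n M` reduced modulo `Q`. -/
abbrev GrQuot (R Q : Ideal A) (M : Type u) [AddCommGroup M] [Module A M] (n : ℕ) : Type u :=
  Gr R M n ⧸ (Q • (⊤ : Submodule A (Gr R M n)))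

theorem mk_gr_eq_zero {I : Ideal A} {n : ℕ} (x : ↥(I ^ n • (⊤ : Submodule A M))) :
    (Submodule.Quotient.mk x : Gr I M n) = 0 ↔ (x : M) ∈ I ^ (n + 1) • (⊤ : Submodule A M) := by
  rw [Submodule.Quotient.mk_eq_zero, Submodule.mem_smul_top_iff, pow_succ', mul_smul]

theorem mk_grQuot_eq_zero {R Q : Ideal A} (hRQ : R ≤ Q) {n : ℕ} (w : ↥(R ^ n • (⊤ : Submodule A M))) :
    (Submodule.Quotient.mk (Submodule.Quotient.mk w : Gr R M n) : GrQuot R Q M n) = 0 ↔
      (w : M) ∈ Q • (R ^ n • (⊤ : Submodule A M)) := by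
  rw [Submodule.Quotient.mk_eq_zero, ← Submodule.mem_smul_top_iff]
  have h : (Q • (⊤ : Submodule A (Gr R M n))) =
      (Q • (⊤ : Submodule A ↥(R ^ n • (⊤ : Submodule A M)))).map
        (R • (⊤ : Submodule A ↥(R ^ n • (⊤ : Submodule A M)))).mkQ := by
    rw [Submodule.map_smul'', Submodule.map_top, Submodule.range_mkQ]
  rw [h, ← Submodule.mkQ_apply, ← Submodule.mem_comap, Submodule.comap_map_mkQ,
    sup_eq_right.mpr (Submodule.smul_mono_left hRQ)]

theorem isSMulRegular_gr_iff {R : Ideal A} {f : A} {n : ℕ} :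
    IsSMulRegular (Gr R M n) f ↔
      ∀ x ∈ R ^ n • (⊤ : Submodule A M), f • x ∈ R ^ (n + 1) • (⊤ : Submodule A M) →
        x ∈ R ^ (n + 1) • (⊤ : Submodule A M) := by
  rw [isSMulRegular_iff_right_eq_zero_of_smul]
  constructor
  · intro h x hx hfx
    refine (mk_gr_eq_zero ⟨x, hx⟩).mp (h _ ?_)
    rw [← Submodule.Quotient.mk_smul, mk_gr_eq_zero]
    exact hfx
  · intro h t ht
    obtain ⟨⟨x, hx⟩, rfl⟩ := Submodule.Quotient.mk_surjective _ t
    rw [← Submodule.Quotient.mk_smul, mk_gr_eq_zero] at ht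
    exact (mk_gr_eq_zero _).mpr (h x hx ht)

/-- `f` is regular on `M / R^n M` if it is regular on all `gr_i`, `i < n`. -/
theorem mem_of_smul_mem {R : Ideal A} {f : A} {n : ℕ} (h : ∀ i < n, IsSMulRegular (Gr R M i) f) :
    ∀ x : M, f • x ∈ R ^ n • (⊤ : Submodule A M) → x ∈ R ^ n • (⊤ : Submodule A M) := by
  induction n with
  | zero => intro x _; simp
  | succ n ih =>
    intro x hx
    exact isSMulRegular_gr_iff.mp (h n n.lt_succ_self) x
      (ih (fun i hi => h i (hi.trans n.lt_succ_self)) x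
        (Submodule.smul_mono_left (Ideal.pow_le_pow_right n.le_succ) hx)) hx

theorem mem_of_pow_smul_mem {R : Ideal A} {f : A} {n : ℕ} (h : ∀ i < n, IsSMulRegular (Gr R M i) f) :
    ∀ (m : ℕ) (x : M), f ^ m • x ∈ R ^ n • (⊤ : Submodule A M) → x ∈ R ^ n • (⊤ : Submodule A M) := by
  intro m
  induction m with
  | zero => intro x hx; simpa using hx
  | succ m ih =>
    intro x hx
    rw [pow_succ, mul_smul] at hx
    exact mem_of_smul_mem h x (ih _ hx)

section Adjoin

variable {R : Ideal A} {f : A}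

theorem pow_succ_le (k : ℕ) : (R ⊔ Ideal.span {f}) ^ (k + 1) ≤ Ideal.span {f} * (R ⊔ Ideal.span {f}) ^ k ⊔ R ^ (k + 1) := by
  induction k with
  | zero => simp [sup_comm]
  | succ k ih =>
    calc (R ⊔ Ideal.span {f}) ^ (k + 2) = R * (R ⊔ Ideal.span {f}) ^ (k + 1) ⊔ Ideal.span {f} * (R ⊔ Ideal.span {f}) ^ (k + 1) := by
          rw [pow_succ' (R ⊔ Ideal.span {f}) (k + 1), Ideal.sup_mul]
      _ ≤ Ideal.span {f} * (R ⊔ Ideal.span {f}) ^ (k + 1) ⊔ R ^ (k + 2) := by
          refine sup_le ((Ideal.mul_mono_right ih).trans ?_) le_sup_left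
          rw [Ideal.mul_sup, mul_left_comm, ← pow_succ']
          refine sup_le (le_sup_of_le_left (Ideal.mul_mono_right ?_)) le_sup_right
          rw [pow_succ']
          exact Ideal.mul_mono_left le_sup_left

theorem exists_of_mem_pow_succ {k : ℕ} {x : M} (hx : x ∈ (R ⊔ Ideal.span {f}) ^ (k + 1) • (⊤ : Submodule A M)) :
    ∃ y ∈ (R ⊔ Ideal.span {f}) ^ k • (⊤ : Submodule A M), ∃ r ∈ R ^ (k + 1) • (⊤ : Submodule A M), x = f • y + r := by
  have h := Submodule.smul_mono_left (N := (⊤ : Submodule A M)) (pow_succ_le k) hx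
  rw [Submodule.sup_smul, mul_smul, Submodule.ideal_span_singleton_smul] at h
  obtain ⟨a, ha, r, hr, rfl⟩ := Submodule.mem_sup.mp h
  obtain ⟨y, hy, rfl⟩ := (Submodule.mem_smul_pointwise_iff_exists _ _ _).mp ha
  exact ⟨y, hy, r, hr, rfl⟩

theorem mem_pow_of_mem_pow (k : ℕ) {x : M} (hx : x ∈ R ^ k • (⊤ : Submodule A M)) :
    x ∈ (R ⊔ Ideal.span {f}) ^ k • (⊤ : Submodule A M) :=
  Submodule.smul_mono_left (Ideal.pow_right_mono le_sup_left k) hx

theorem smul_mem_pow_succ {k : ℕ} {x : M} (hx : x ∈ (R ⊔ Ideal.span {f}) ^ k • (⊤ : Submodule A M)) :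
    f • x ∈ (R ⊔ Ideal.span {f}) ^ (k + 1) • (⊤ : Submodule A M) := by
  rw [pow_succ', mul_smul]
  exact Submodule.smul_mem_smul (Submodule.mem_sup_right (Ideal.mem_span_singleton_self f)) hx

theorem mem_smul_gr_iff {k : ℕ} {w : M} :
    w ∈ (R ⊔ Ideal.span {f}) • (R ^ k • (⊤ : Submodule A M)) ↔
      ∃ y ∈ R ^ k • (⊤ : Submodule A M), ∃ r ∈ R ^ (k + 1) • (⊤ : Submodule A M), w = f • y + r := by
  rw [Submodule.sup_smul, Submodule.ideal_span_singleton_smul, ← mul_smul, ← pow_succ', Submodule.mem_sup]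
  constructor
  · rintro ⟨r, hr, a, ha, rfl⟩
    obtain ⟨y, hy, rfl⟩ := (Submodule.mem_smul_pointwise_iff_exists _ _ _).mp ha
    exact ⟨y, hy, r, hr, add_comm _ _⟩
  · rintro ⟨y, hy, r, hr, rfl⟩
    exact ⟨r, hr, f • y, Submodule.smul_mem_pointwise_smul _ _ _ hy, add_comm _ _⟩

/-- `(y, w) ↦ f y + w`. -/
noncomputable def shift (R : Ideal A) (f : A) (M : Type u) [AddCommGroup M] [Module A M] (k : ℕ) :
    ↥((R ⊔ Ideal.span {f}) ^ k • (⊤ : Submodule A M)) × ↥(R ^ (k + 1) • (⊤ : Submodule A M)) →ₗ[A] Gr (R ⊔ Ideal.span {f}) M (k + 1) :=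
  (Submodule.mkQ _).comp
    (LinearMap.coprod
      ((f • ((R ⊔ Ideal.span {f}) ^ k • (⊤ : Submodule A M)).subtype).codRestrict _ fun y => smul_mem_pow_succ y.2)
      (Submodule.inclusion fun _ hx => mem_pow_of_mem_pow (k + 1) hx))

theorem shift_surjective (k : ℕ) : Function.Surjective (shift R f M k) := by
  intro t
  obtain ⟨⟨x, hx⟩, rfl⟩ := Submodule.Quotient.mk_surjective _ t
  obtain ⟨y, hy, r, hr, rfl⟩ := exists_of_mem_pow_succ hx
  exact ⟨(⟨y, hy⟩, ⟨r, hr⟩), congrArg Submodule.Quotient.mk (Subtype.ext rfl)⟩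

/-- The two reductions of `(y, w)`. -/
noncomputable def reduce (R : Ideal A) (f : A) (M : Type u) [AddCommGroup M] [Module A M] (k : ℕ) :
    ↥((R ⊔ Ideal.span {f}) ^ k • (⊤ : Submodule A M)) × ↥(R ^ (k + 1) • (⊤ : Submodule A M)) →ₗ[A]
      Gr (R ⊔ Ideal.span {f}) M k × GrQuot R (R ⊔ Ideal.span {f}) M (k + 1) :=
  (Submodule.mkQ _).prodMap ((Submodule.mkQ _).comp (Submodule.mkQ _))

theorem reduce_surjective (k : ℕ) : Function.Surjective (reduce R f M k) := by
  rintro ⟨a, b⟩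
  obtain ⟨a, rfl⟩ := Submodule.Quotient.mk_surjective _ a
  obtain ⟨b, rfl⟩ := Submodule.Quotient.mk_surjective _ b
  obtain ⟨b, rfl⟩ := Submodule.Quotient.mk_surjective _ b
  exact ⟨(a, b), rfl⟩

theorem ker_shift {k : ℕ} (h : ∀ i ≤ k, IsSMulRegular (Gr R M i) f) :
    LinearMap.ker (shift R f M k) = LinearMap.ker (reduce R f M k) := by
  have hreg := mem_of_smul_mem (n := k + 1) fun i hi => h i (Nat.lt_succ_iff.mp hi)
  ext ⟨⟨y, hy⟩, ⟨w, hw⟩⟩
  have h2 : reduce R f M k (⟨y, hy⟩, ⟨w, hw⟩) = 0 ↔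
      y ∈ (R ⊔ Ideal.span {f}) ^ (k + 1) • (⊤ : Submodule A M) ∧ w ∈ (R ⊔ Ideal.span {f}) • (R ^ (k + 1) • (⊤ : Submodule A M)) :=
    Prod.ext_iff.trans (and_congr (mk_gr_eq_zero _) (mk_grQuot_eq_zero le_sup_left _))
  have h1 : shift R f M k (⟨y, hy⟩, ⟨w, hw⟩) = 0 ↔ f • y + w ∈ (R ⊔ Ideal.span {f}) ^ (k + 2) • (⊤ : Submodule A M) :=
    mk_gr_eq_zero _
  rw [LinearMap.mem_ker, LinearMap.mem_ker, h1, h2]
  constructor
  · intro hmem
    obtain ⟨y', hy', r, hr, e⟩ := exists_of_mem_pow_succ hmem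
    have hd : y - y' ∈ R ^ (k + 1) • (⊤ : Submodule A M) := by
      refine hreg _ ?_
      have : f • (y - y') = r - w := by
        rw [smul_sub, sub_eq_sub_iff_add_eq_add, add_comm r]; exact e
      rw [this]
      exact sub_mem (Submodule.smul_mono_left (Ideal.pow_le_pow_right (Nat.le_succ _)) hr) hw
    refine ⟨?_, mem_smul_gr_iff.mpr ⟨-(y - y'), neg_mem hd, r, hr, ?_⟩⟩
    · simpa using add_mem hy' (mem_pow_of_mem_pow (k + 1) hd)
    · rw [smul_neg, smul_sub, neg_sub, sub_add_eq_add_sub, eq_sub_iff_add_eq, add_comm w]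
      exact e
  · rintro ⟨hy', hw'⟩
    refine add_mem (smul_mem_pow_succ hy') ?_
    obtain ⟨v, hv, r, hr, rfl⟩ := mem_smul_gr_iff.mp hw'
    exact add_mem (smul_mem_pow_succ (mem_pow_of_mem_pow (k + 1) hv)) (mem_pow_of_mem_pow (k + 2) hr)

/-- `gr^Q_(k+1) ≅ gr^Q_k × gr^R_(k+1) / Q`. -/
noncomputable def grSuccEquiv {k : ℕ} (h : ∀ i ≤ k, IsSMulRegular (Gr R M i) f) :
    Gr (R ⊔ Ideal.span {f}) M (k + 1) ≃ₗ[A] Gr (R ⊔ Ideal.span {f}) M k × GrQuot R (R ⊔ Ideal.span {f}) M (k + 1) :=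
  ((shift R f M k).quotKerEquivOfSurjective (shift_surjective k)).symm ≪≫ₗ
    Submodule.quotEquivOfEq _ _ (ker_shift h) ≪≫ₗ
    (reduce R f M k).quotKerEquivOfSurjective (reduce_surjective k)

/-- `gr^Q_0 ≅ gr^R_0 / Q`. -/
noncomputable def grZeroEquiv (R : Ideal A) (f : A) (M : Type u) [AddCommGroup M] [Module A M] :
    Gr (R ⊔ Ideal.span {f}) M 0 ≃ₗ[A] GrQuot R (R ⊔ Ideal.span {f}) M 0 :=
  let φ : ↥(R ^ 0 • (⊤ : Submodule A M)) →ₗ[A] Gr (R ⊔ Ideal.span {f}) M 0 :=
    (Submodule.mkQ _).comp (Submodule.inclusion fun _ hx => mem_pow_of_mem_pow 0 hx)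
  let ν : ↥(R ^ 0 • (⊤ : Submodule A M)) →ₗ[A] GrQuot R (R ⊔ Ideal.span {f}) M 0 :=
    (Submodule.mkQ _).comp (Submodule.mkQ _)
  have hφ : Function.Surjective φ := fun t => by
    obtain ⟨⟨x, hx⟩, rfl⟩ := Submodule.Quotient.mk_surjective _ t
    exact ⟨⟨x, by simp⟩, rfl⟩
  have hν : Function.Surjective ν := (Submodule.mkQ_surjective _).comp (Submodule.mkQ_surjective _)
  have hker : LinearMap.ker φ = LinearMap.ker ν := by
    ext ⟨x, hx⟩
    have h1 : φ ⟨x, hx⟩ = 0 ↔ x ∈ (R ⊔ Ideal.span {f}) ^ (0 + 1) • (⊤ : Submodule A M) := mk_gr_eq_zero _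
    have h2 : ν ⟨x, hx⟩ = 0 ↔ x ∈ (R ⊔ Ideal.span {f}) • (R ^ 0 • (⊤ : Submodule A M)) := mk_grQuot_eq_zero le_sup_left _
    rw [LinearMap.mem_ker, LinearMap.mem_ker, h1, h2]
    simp
  (φ.quotKerEquivOfSurjective hφ).symm ≪≫ₗ Submodule.quotEquivOfEq _ _ hker ≪≫ₗ ν.quotKerEquivOfSurjective hν

end Adjoin

/-- A product of two flat modules is flat. -/
theorem flat_prod {B : Type u} [CommRing B] (X Y : Type u) [AddCommGroup X] [AddCommGroup Y] [Module B X]
    [Module B Y] [Module.Flat B X] [Module.Flat B Y] : Module.Flat B (X × Y) := by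
  rw [Module.Flat.iff_rTensor_preserves_injective_linearMap]
  intro N N' _ _ _ _ g hg
  let e := TensorProduct.prodRight B B N X Y
  let e' := TensorProduct.prodRight B B N' X Y
  have key : ∀ z, e' (g.rTensor (X × Y) z) = (g.rTensor X (e z).1, g.rTensor Y (e z).2) := by
    intro z
    induction z with
    | zero => simp only [map_zero, Prod.fst_zero, Prod.snd_zero]; rfl
    | tmul n x => simp [e, e']
    | add a b ha hb => simp only [map_add, ha, hb, Prod.fst_add, Prod.snd_add, Prod.mk_add_mk]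
  intro a b hab
  have h := congrArg e' hab
  rw [key, key, Prod.mk.injEq] at h
  refine e.injective (Prod.ext ?_ ?_)
  · exact Module.Flat.rTensor_preserves_injective_linearMap (M := X) g hg h.1
  · exact Module.Flat.rTensor_preserves_injective_linearMap (M := Y) g hg h.2

/-- Base change of a flat graded piece. -/
theorem flat_grQuot {R Q : Ideal A} (hRQ : R ≤ Q) {n : ℕ} [Module.Flat (A ⧸ R) (Gr R M n)] :
    Module.Flat (A ⧸ Q) (GrQuot R Q M n) := by
  letI : Algebra (A ⧸ R) (A ⧸ Q) := (Ideal.Quotient.factor hRQ).toAlgebra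
  haveI : IsScalarTower A (A ⧸ R) (A ⧸ Q) := IsScalarTower.of_algebraMap_eq fun x => rfl
  exact (flat_congr_of_surjective (A := A) Ideal.Quotient.mk_surjective
    (tensorEquivOfSurjective (B := A ⧸ R) Ideal.Quotient.mk_surjective (A ⧸ Q) (Gr R M n) ≪≫ₗ
      TensorProduct.quotTensorEquivQuotSMul (Gr R M n) Q)).mp inferInstance

/-- Regularity on a flat module over `A / R`. -/
theorem isSMulRegular_of_flat {R : Ideal A} {f : A} (hf : IsSMulRegular (A ⧸ R) f) (N : Type u)
    [AddCommGroup N] [Module A N] [Module (A ⧸ R) N] [IsScalarTower A (A ⧸ R) N] [Module.Flat (A ⧸ R) N] :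
    IsSMulRegular N f := by
  have hf' : IsSMulRegular (A ⧸ R) (algebraMap A (A ⧸ R) f) := fun a b h =>
    hf (show f • a = f • b by simpa [Algebra.smul_def] using h)
  have h := (TensorProduct.lid (A ⧸ R) N).isSMulRegular_congr (algebraMap A (A ⧸ R) f) |>.mp (hf'.rTensor N)
  exact fun a b e => h (show algebraMap A (A ⧸ R) f • a = algebraMap A (A ⧸ R) f • b by
    rw [algebraMap_smul, algebraMap_smul]; exact e)

theorem isNormallyFlat_sup_span_singleton {R : Ideal A} {f : A} (hf : IsSMulRegular (A ⧸ R) f)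
    (h : EGA4.IsNormallyFlat R M) : EGA4.IsNormallyFlat (R ⊔ Ideal.span {f}) M := by
  have hreg : ∀ i, IsSMulRegular (Gr R M i) f := fun i => by
    haveI : Module.Flat (A ⧸ R) (Gr R M i) := h i
    exact isSMulRegular_of_flat hf _
  intro k
  induction k with
  | zero =>
    haveI : Module.Flat (A ⧸ R) (Gr R M 0) := h 0
    exact (flat_congr_of_surjective (A := A) Ideal.Quotient.mk_surjective (grZeroEquiv R f M)).mpr
      (flat_grQuot le_sup_left)
  | succ k ih =>
    haveI : Module.Flat (A ⧸ R) (Gr R M (k + 1)) := h (k + 1)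
    haveI : Module.Flat (A ⧸ (R ⊔ Ideal.span {f})) (Gr (R ⊔ Ideal.span {f}) M k) := ih
    haveI : Module.Flat (A ⧸ (R ⊔ Ideal.span {f})) (GrQuot R (R ⊔ Ideal.span {f}) M (k + 1)) :=
      flat_grQuot le_sup_left
    exact (flat_congr_of_surjective (A := A) Ideal.Quotient.mk_surjective
      (grSuccEquiv fun i _ => hreg i)).mpr (flat_prod _ _)

/-- `(A / R) / f ≅ A / (R + (f))`. -/
noncomputable def quotSMulTopQuotientEquiv (R : Ideal A) (f : A) :
    QuotSMulTop f (A ⧸ R) ≃ₗ[A] A ⧸ (R ⊔ Ideal.span {f}) :=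
  let φ : A →ₗ[A] QuotSMulTop f (A ⧸ R) := (Submodule.mkQ _).comp (Algebra.linearMap A (A ⧸ R))
  have hφ : Function.Surjective φ := (Submodule.mkQ_surjective _).comp Ideal.Quotient.mk_surjective
  have hker : LinearMap.ker φ = R ⊔ Ideal.span {f} := by
    ext a
    have h1 : φ a = 0 ↔ Ideal.Quotient.mk R a ∈ f • (⊤ : Submodule A (A ⧸ R)) :=
      Submodule.Quotient.mk_eq_zero _
    rw [LinearMap.mem_ker, h1, Submodule.mem_smul_pointwise_iff_exists, Submodule.mem_sup]
    constructor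
    · rintro ⟨b, -, hb⟩
      obtain ⟨b, rfl⟩ := Ideal.Quotient.mk_surjective b
      refine ⟨a - f * b, ?_, f * b, Ideal.mem_span_singleton'.mpr ⟨b, mul_comm _ _⟩, sub_add_cancel _ _⟩
      rw [← Ideal.Quotient.eq, map_mul, ← hb]
      rfl
    · rintro ⟨r, hr, s, hs, rfl⟩
      obtain ⟨b, rfl⟩ := Ideal.mem_span_singleton'.mp hs
      refine ⟨Ideal.Quotient.mk R b, trivial, ?_⟩
      rw [map_add, Ideal.Quotient.eq_zero_iff_mem.mpr hr, zero_add, mul_comm, map_mul]
      rfl
  (φ.quotKerEquivOfSurjective hφ).symm ≪≫ₗ Submodule.quotEquivOfEq _ _ hker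

theorem isWeaklyRegular_quotient_cons {R : Ideal A} {f : A} {fs : List A}
    (h : IsWeaklyRegular (A ⧸ R) (f :: fs)) :
    IsSMulRegular (A ⧸ R) f ∧ IsWeaklyRegular (A ⧸ (R ⊔ Ideal.span {f})) fs := by
  rw [isWeaklyRegular_cons_iff] at h
  exact ⟨h.1, ((quotSMulTopQuotientEquiv R f).isWeaklyRegular_congr fs).mp h.2⟩

theorem isNormallyFlat_sup_ofList {R : Ideal A} {fs : List A} (hreg : IsWeaklyRegular (A ⧸ R) fs)
    (h : EGA4.IsNormallyFlat R M) : EGA4.IsNormallyFlat (R ⊔ Ideal.ofList fs) M := by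
  induction fs generalizing R with
  | nil => rwa [Ideal.ofList_nil, sup_bot_eq]
  | cons f fs ih =>
    obtain ⟨h1, h2⟩ := isWeaklyRegular_quotient_cons hreg
    rw [Ideal.ofList_cons, ← sup_assoc]
    exact ih h2 (isNormallyFlat_sup_span_singleton h1 h)

section Localization

/-- The map of graded pieces induced by a linear map. -/
noncomputable def grMap (I : Ideal A) {N : Type u} [AddCommGroup N] [Module A N] (φ : M →ₗ[A] N) (n : ℕ) :
    Gr I M n →ₗ[A] Gr I N n :=
  Submodule.mapQ _ _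
    ((φ.domRestrict _).codRestrict (I ^ n • (⊤ : Submodule A N)) fun x =>
      Submodule.smul_mono le_rfl (le_top : (⊤ : Submodule A M).map φ ≤ ⊤)
        ((Submodule.map_smul'' (I ^ n) (⊤ : Submodule A M) φ).le (Submodule.mem_map_of_mem x.2)))
    (by rw [← Submodule.map_le_iff_le_comap, Submodule.map_smul'']; exact Submodule.smul_mono le_rfl le_top)

variable (I : Ideal A) (S : Submonoid A) {N : Type u} [AddCommGroup N] [Module A N] (φ : M →ₗ[A] N)
  [IsLocalizedModule S φ]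

theorem map_mem_smul_top {x : M} (hx : x ∈ I • (⊤ : Submodule A M)) : φ x ∈ I • (⊤ : Submodule A N) :=
  Submodule.smul_mono le_rfl (le_top : (⊤ : Submodule A M).map φ ≤ ⊤)
    ((Submodule.map_smul'' I (⊤ : Submodule A M) φ).le (Submodule.mem_map_of_mem hx))

theorem exists_smul_eq_of_mem_smul_top {z : N} (hz : z ∈ I • (⊤ : Submodule A N)) :
    ∃ s : S, ∃ y ∈ I • (⊤ : Submodule A M), s • z = φ y := by
  refine Submodule.smul_induction_on hz (fun a ha w _ => ?_) fun z₁ z₂ h₁ h₂ => ?_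
  · obtain ⟨⟨m, s⟩, e⟩ := IsLocalizedModule.surj S φ w
    refine ⟨s, a • m, Submodule.smul_mem_smul ha trivial, ?_⟩
    rw [map_smul, ← e, smul_comm]
  · obtain ⟨s, y, hy, e⟩ := h₁
    obtain ⟨t, y', hy', e'⟩ := h₂
    refine ⟨s * t, (t : A) • y + (s : A) • y', add_mem (Submodule.smul_mem _ _ hy) (Submodule.smul_mem _ _ hy'), ?_⟩
    rw [map_add, map_smul, map_smul, ← e, ← e']
    simp only [Submonoid.smul_def, Submonoid.coe_mul, smul_add, smul_smul]
    rw [mul_comm (t : A) (s : A)]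

theorem exists_smul_mem_of_map_mem {x : M} (hx : φ x ∈ I • (⊤ : Submodule A N)) :
    ∃ s : S, s • x ∈ I • (⊤ : Submodule A M) := by
  obtain ⟨s, y, hy, e⟩ := exists_smul_eq_of_mem_smul_top I S φ hx
  rw [← LinearMap.map_smul_of_tower] at e
  obtain ⟨c, hc⟩ := IsLocalizedModule.exists_of_eq (S := S) e
  refine ⟨c * s, ?_⟩
  rw [mul_smul, hc]
  exact Submodule.smul_mem _ _ hy

theorem isLocalizedModule_grMap (n : ℕ) : IsLocalizedModule S (grMap I φ n) := by
  constructor
  · intro s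
    rw [Module.End.isUnit_iff]
    obtain ⟨u, hu⟩ := IsLocalizedModule.map_units φ s
    let v : N →ₗ[A] N := ((u⁻¹ : (Module.End A N)ˣ) : Module.End A N)
    have hvs : ∀ z : N, (s : A) • v z = z := fun z => by
      have h := LinearMap.congr_fun (Units.mul_inv u) z
      rw [hu] at h
      exact h
    have hsv : ∀ z : N, v ((s : A) • z) = z := fun z => by
      have h := LinearMap.congr_fun (Units.inv_mul u) z
      rw [hu] at h
      exact h
    constructor
    · intro a b hab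
      obtain ⟨⟨x, hx⟩, rfl⟩ := Submodule.Quotient.mk_surjective _ a
      obtain ⟨⟨y, hy⟩, rfl⟩ := Submodule.Quotient.mk_surjective _ b
      rw [← sub_eq_zero, ← Submodule.Quotient.mk_sub, mk_gr_eq_zero]
      have h : (s : A) • (Submodule.Quotient.mk ⟨x, hx⟩ : Gr I N n) = (s : A) • Submodule.Quotient.mk ⟨y, hy⟩ := hab
      rw [← sub_eq_zero, ← smul_sub, ← Submodule.Quotient.mk_sub, ← Submodule.Quotient.mk_smul, mk_gr_eq_zero] at h
      have h' := map_mem_smul_top (I ^ (n + 1)) v (x := (s : A) • (x - y)) h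
      rw [hsv] at h'
      exact h'
    · intro a
      obtain ⟨⟨x, hx⟩, rfl⟩ := Submodule.Quotient.mk_surjective _ a
      exact ⟨Submodule.Quotient.mk ⟨v x, map_mem_smul_top (I ^ n) v hx⟩,
        congrArg Submodule.Quotient.mk (Subtype.ext (hvs x))⟩
  · intro a
    obtain ⟨⟨z, hz⟩, rfl⟩ := Submodule.Quotient.mk_surjective _ a
    obtain ⟨s, y, hy, e⟩ := exists_smul_eq_of_mem_smul_top (I ^ n) S φ hz
    exact ⟨(Submodule.Quotient.mk ⟨y, hy⟩, s), congrArg Submodule.Quotient.mk (Subtype.ext e)⟩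
  · intro a b hab
    obtain ⟨⟨x, hx⟩, rfl⟩ := Submodule.Quotient.mk_surjective _ a
    obtain ⟨⟨y, hy⟩, rfl⟩ := Submodule.Quotient.mk_surjective _ b
    have h : φ (x - y) ∈ I ^ (n + 1) • (⊤ : Submodule A N) := by
      rw [map_sub]
      let x' : ↥(I ^ n • (⊤ : Submodule A N)) := ⟨φ x, map_mem_smul_top (I ^ n) φ hx⟩
      let y' : ↥(I ^ n • (⊤ : Submodule A N)) := ⟨φ y, map_mem_smul_top (I ^ n) φ hy⟩
      have h0 : (Submodule.Quotient.mk (x' - y') : Gr I N n) = 0 := by
        rw [Submodule.Quotient.mk_sub, sub_eq_zero]; exact hab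
      exact (mk_gr_eq_zero (x' - y')).mp h0
    obtain ⟨c, hc⟩ := exists_smul_mem_of_map_mem (I ^ (n + 1)) S φ h
    refine ⟨c, ?_⟩
    rw [← sub_eq_zero, ← smul_sub, ← Submodule.Quotient.mk_sub, Submonoid.smul_def,
      ← Submodule.Quotient.mk_smul, mk_gr_eq_zero]
    exact hc

end Localization

/-- The localization of `M` at `S` is normally flat along `R` iff the localized graded pieces are flat. -/
theorem isNormallyFlat_localizedModule_iff (R : Ideal A) (p : Ideal (A ⧸ R)) [p.IsPrime] :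
    EGA4.IsNormallyFlat R (LocalizedModule (p.comap (Ideal.Quotient.mk R)).primeCompl M) ↔
      ∀ k, Module.Flat (Localization.AtPrime p) (LocalizedModule p.primeCompl (Gr R M k)) := by
  set S := (p.comap (Ideal.Quotient.mk R)).primeCompl
  refine forall_congr' fun k => ?_
  let g := grMap R (LocalizedModule.mkLinearMap S M) k
  haveI hg : IsLocalizedModule S g := isLocalizedModule_grMap R S _ k
  let g' : Gr R M k →ₗ[A ⧸ R] Gr R (LocalizedModule S M) k :=
    g.extendScalarsOfSurjective Ideal.Quotient.mk_surjective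
  haveI : IsLocalizedModule p.primeCompl g' := by
    constructor
    · rintro ⟨b, hb⟩
      obtain ⟨a, rfl⟩ := Ideal.Quotient.mk_surjective b
      have h := (Module.End.isUnit_iff _).mp (IsLocalizedModule.map_units g (⟨a, hb⟩ : S))
      rw [Module.End.isUnit_iff]
      exact h
    · intro y
      obtain ⟨⟨x, s⟩, e⟩ := IsLocalizedModule.surj S g y
      exact ⟨(x, ⟨Ideal.Quotient.mk R s, s.2⟩), e⟩
    · intro x₁ x₂ h
      obtain ⟨c, hc⟩ := IsLocalizedModule.exists_of_eq (S := S) (f := g) h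
      exact ⟨⟨Ideal.Quotient.mk R c, c.2⟩, hc⟩
  let e := IsLocalizedModule.iso p.primeCompl g'
  rw [← Module.Flat.equiv_iff e]
  exact (Module.flat_iff_of_isLocalization (Localization.AtPrime p) p.primeCompl _).symm

section Descent

variable [IsNoetherianRing A]

/-- Every associated prime of `A / I` lies in a member of `T`. -/
def Covers (T : Set (Ideal A)) (I : Ideal A) : Prop :=
  ∀ P ∈ associatedPrimes A (A ⧸ I), ∃ q ∈ T, P ≤ q

theorem covers_of_covers_sup {T : Set (Ideal A)} {R : Ideal A} {g : A} (hg : g ∈ (⊥ : Ideal A).jacobson)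
    (hreg : IsSMulRegular (A ⧸ R) g) (h : Covers T (R ⊔ Ideal.span {g})) : Covers T R := by
  intro P hP
  obtain ⟨hprime, x, hx⟩ := isAssociatedPrime_iff.mp (AssociatedPrimes.mem_iff.mp hP)
  have hx0 : x ≠ 0 := by rintro rfl; exact hprime.ne_top (by rw [hx]; simp)
  -- `x = g ^ j • y` with `y` not divisible by `g`
  have hKrull : ∃ j, x ∉ (Ideal.span {g}) ^ j • (⊤ : Submodule A (A ⧸ R)) := by
    by_contra! hc
    refine hx0 ((Submodule.mem_bot A).mp ?_)
    rw [← Ideal.iInf_pow_smul_eq_bot_of_le_jacobson (M := A ⧸ R) (Ideal.span {g})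
      (by rwa [Ideal.span_singleton_le_iff_mem])]
    exact Submodule.mem_iInf _ |>.mpr hc
  obtain ⟨y, hy, hann⟩ : ∃ y : A ⧸ R, y ∉ g • (⊤ : Submodule A (A ⧸ R)) ∧ ∀ a ∈ P, a • y = 0 := by
    obtain ⟨j, hj⟩ := hKrull
    rw [Ideal.span_singleton_pow, Submodule.ideal_span_singleton_smul] at hj
    have key : ∀ j : ℕ, (∃ y, y ∉ g • (⊤ : Submodule A (A ⧸ R)) ∧ ∀ a ∈ P, a • y = 0) ∨
        x ∈ g ^ j • (⊤ : Submodule A (A ⧸ R)) := by
      intro j
      induction j with
      | zero => exact .inr (by simp)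
      | succ j ih =>
        rcases ih with h | h
        · exact .inl h
        · obtain ⟨y, -, rfl⟩ := (Submodule.mem_smul_pointwise_iff_exists _ _ _).mp h
          by_cases hy : y ∈ g • (⊤ : Submodule A (A ⧸ R))
          · obtain ⟨z, -, rfl⟩ := (Submodule.mem_smul_pointwise_iff_exists _ _ _).mp hy
            exact .inr ((Submodule.mem_smul_pointwise_iff_exists _ _ _).mpr ⟨z, trivial, by rw [pow_succ, mul_smul]⟩)
          · refine .inl ⟨y, hy, fun a ha => (hreg.pow j).right_eq_zero_of_smul ?_⟩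
            rw [hx, Submodule.mem_colon_singleton, Submodule.mem_bot] at ha
            rw [smul_comm]
            exact ha
    exact (key j).resolve_right hj
  let e := quotSMulTopQuotientEquiv R g
  obtain ⟨P', hP', hle⟩ := exists_le_isAssociatedPrime_of_isNoetherianRing A
    (e (Submodule.Quotient.mk y)) (by simpa using hy)
  obtain ⟨q, hq, hle'⟩ := h P' hP'
  refine ⟨q, hq, le_trans (le_trans (fun a ha => ?_) hle) hle'⟩
  rw [Submodule.mem_colon_singleton, Submodule.mem_bot, ← map_smul, ← Submodule.Quotient.mk_smul, hann a ha,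
    Submodule.Quotient.mk_zero, map_zero]

/-- An element of `A` regular on `A / Q` in any ideal meeting the complement of each prime in `T`. -/
theorem exists_isSMulRegular {T : Set (Ideal A)} {I J : Ideal A} (hT : Covers T I)
    (hJ : ∀ q ∈ T, ¬J ≤ q) : ∃ a ∈ J, IsSMulRegular (A ⧸ I) a := by
  by_contra! hc
  have hsub : (J : Set A) ⊆ ⋃ P ∈ associatedPrimes A (A ⧸ I), (P : Set A) := by
    intro a ha
    rw [biUnion_associatedPrimes_eq_zero_divisors]
    have h := hc a ha
    rw [isSMulRegular_iff_right_eq_zero_of_smul] at h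
    push Not at h
    obtain ⟨x, hx, hx0⟩ := h
    exact ⟨x, hx0, hx⟩
  obtain ⟨P, hP, hle⟩ := (Ideal.subset_union_prime_finite (associatedPrimes.finite A (A ⧸ I)) ⊥ ⊥
    fun P hP _ _ => hP.isPrime).mp hsub
  obtain ⟨q, hq, hPq⟩ := hT P hP
  exact hJ q hq (hle.trans hPq)

/-- Membership in `Q ^ (i + 1) M` may be checked at the primes of `T`. -/
theorem mem_pow_succ_of_forall {T : Set (Ideal A)} {I : Ideal A} (hT : Covers T I)
    (hflat : EGA4.IsNormallyFlat I M) {i : ℕ} {x : M} (hx : x ∈ I ^ i • (⊤ : Submodule A M))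
    (h : ∀ q ∈ T, ∃ s ∉ q, s • x ∈ I ^ (i + 1) • (⊤ : Submodule A M)) :
    x ∈ I ^ (i + 1) • (⊤ : Submodule A M) := by
  let J : Ideal A := (I ^ (i + 1) • (⊤ : Submodule A M)).comap (LinearMap.toSpanSingleton A M x)
  obtain ⟨a, ha, hreg⟩ := exists_isSMulRegular hT (J := J) fun q hq hle => by
    obtain ⟨s, hs, hsx⟩ := h q hq
    exact hs (hle hsx)
  haveI : Module.Flat (A ⧸ I) (Gr I M i) := hflat i
  refine (mk_gr_eq_zero ⟨x, hx⟩).mp ((isSMulRegular_of_flat hreg (Gr I M i)).right_eq_zero_of_smul ?_)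
  rw [← Submodule.Quotient.mk_smul, mk_gr_eq_zero]
  exact ha

variable [Module.Finite A M]

/-- The one-element descent. -/
theorem isNormallyFlat_of_sup_span_singleton {T : Set (Ideal A)} {R : Ideal A} {f : A}
    (hrad : f ∈ (⊥ : Ideal A).jacobson) (hf : IsSMulRegular (A ⧸ R) f)
    (hT : Covers T (R ⊔ Ideal.span {f})) (hQ : EGA4.IsNormallyFlat (R ⊔ Ideal.span {f}) M)
    (hloc : ∀ q ∈ T, ∃ (_ : q.IsPrime), EGA4.IsNormallyFlat R (LocalizedModule q.primeCompl M)) :
    EGA4.IsNormallyFlat R M := by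
  haveI : IsNoetherian A M := isNoetherian_of_isNoetherianRing_of_finite A M
  have hreg : ∀ i, IsSMulRegular (Gr R M i) f := by
    intro i
    induction i using Nat.strong_induction_on with
    | _ i IH =>
      rw [isSMulRegular_iff_right_eq_zero_of_smul]
      -- torsion for a power of `f` is divisible by `f`
      have step : ∀ (m : ℕ) (t : Gr R M i), f ^ m • t = 0 → ∃ t', t = f • t' := by
        intro m t ht
        obtain ⟨⟨x, hx⟩, rfl⟩ := Submodule.Quotient.mk_surjective _ t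
        rw [← Submodule.Quotient.mk_smul, mk_gr_eq_zero] at ht
        have hxQ : x ∈ (R ⊔ Ideal.span {f}) ^ (i + 1) • (⊤ : Submodule A M) := by
          refine mem_pow_succ_of_forall hT hQ (mem_pow_of_mem_pow i hx) fun q hq => ?_
          obtain ⟨hqp, hNF⟩ := hloc q hq
          let φ := LocalizedModule.mkLinearMap q.primeCompl M
          have h' : φ x ∈ R ^ (i + 1) • (⊤ : Submodule A (LocalizedModule q.primeCompl M)) := by
            refine mem_of_pow_smul_mem (f := f) (fun j _ => ?_) m (φ x) ?_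
            · haveI : Module.Flat (A ⧸ R) (Gr R (LocalizedModule q.primeCompl M) j) := hNF j
              exact isSMulRegular_of_flat hf _
            · rw [← map_smul]
              exact map_mem_smul_top _ φ ht
          obtain ⟨s, hs⟩ := exists_smul_mem_of_map_mem (R ^ (i + 1)) q.primeCompl φ h'
          exact ⟨s, s.2, mem_pow_of_mem_pow (i + 1) hs⟩
        obtain ⟨y, -, r, hr, e⟩ := exists_of_mem_pow_succ hxQ
        have hy : y ∈ R ^ i • (⊤ : Submodule A M) := by
          refine mem_of_smul_mem IH y ?_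
          rw [← sub_eq_of_eq_add e]
          exact sub_mem hx (Submodule.smul_mono_left (Ideal.pow_le_pow_right i.le_succ) hr)
        refine ⟨Submodule.Quotient.mk ⟨y, hy⟩, ?_⟩
        rw [← sub_eq_zero, ← Submodule.Quotient.mk_smul, ← Submodule.Quotient.mk_sub, mk_gr_eq_zero]
        show x - f • y ∈ _
        rw [e, add_sub_cancel_left]
        exact hr
      have all : ∀ (j m : ℕ) (t : Gr R M i), f ^ m • t = 0 → t ∈ (Ideal.span {f}) ^ j • (⊤ : Submodule A (Gr R M i)) := by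
        intro j
        induction j with
        | zero => intro m t _; simp
        | succ j ihj =>
          intro m t ht
          obtain ⟨t', rfl⟩ := step m t ht
          rw [pow_succ', mul_smul]
          exact Submodule.smul_mem_smul (Ideal.mem_span_singleton_self f)
            (ihj (m + 1) t' (by rw [pow_succ, mul_smul]; exact ht))
      intro t ht
      rw [← Submodule.mem_bot A, ← Ideal.iInf_pow_smul_eq_bot_of_le_jacobson (M := Gr R M i) (Ideal.span {f})
        (by rwa [Ideal.span_singleton_le_iff_mem])]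
      exact Submodule.mem_iInf _ |>.mpr fun j => all j 1 t (by rwa [pow_one])
  have hflat : ∀ k, Module.Flat (A ⧸ (R ⊔ Ideal.span {f})) (GrQuot R (R ⊔ Ideal.span {f}) M k) := by
    intro k
    cases k with
    | zero =>
      exact (flat_congr_of_surjective (A := A) Ideal.Quotient.mk_surjective (grZeroEquiv R f M)).mp (hQ 0)
    | succ k =>
      haveI : Module.Flat (A ⧸ (R ⊔ Ideal.span {f}))
          (Gr (R ⊔ Ideal.span {f}) M k × GrQuot R (R ⊔ Ideal.span {f}) M (k + 1)) :=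
        (flat_congr_of_surjective (A := A) Ideal.Quotient.mk_surjective (grSuccEquiv fun i _ => hreg i)).mp
          (hQ (k + 1))
      exact Module.Flat.of_retract (LinearMap.inr _ (Gr (R ⊔ Ideal.span {f}) M k) _) (LinearMap.snd _ _ _)
        (LinearMap.snd_comp_inr _ _ _)
  intro k
  refine (flat_quotient_iff_isWeaklyRegular R (fs := [f]) (by simpa using hrad)
    (IsWeaklyRegular.cons hf (IsWeaklyRegular.nil _ _)) (Gr R M k)).mpr ?_
  rw [Ideal.ofList_singleton]
  exact ⟨hflat k, IsWeaklyRegular.cons (hreg k) (IsWeaklyRegular.nil _ _)⟩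

/-- Descent along a regular sequence. -/
theorem isNormallyFlat_of_sup_ofList {T : Set (Ideal A)} {R : Ideal A} {fs : List A}
    (hrad : ∀ f ∈ fs, f ∈ (⊥ : Ideal A).jacobson) (hreg : IsWeaklyRegular (A ⧸ R) fs)
    (hT : Covers T (R ⊔ Ideal.ofList fs)) (hQ : EGA4.IsNormallyFlat (R ⊔ Ideal.ofList fs) M)
    (hloc : ∀ q ∈ T, ∃ (_ : q.IsPrime), EGA4.IsNormallyFlat R (LocalizedModule q.primeCompl M)) :
    EGA4.IsNormallyFlat R M ∧ Covers T R := by
  induction fs generalizing R with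
  | nil => rw [Ideal.ofList_nil, sup_bot_eq] at hT hQ; exact ⟨hQ, hT⟩
  | cons f fs ih =>
    obtain ⟨h1, h2⟩ := isWeaklyRegular_quotient_cons hreg
    rw [Ideal.ofList_cons, ← sup_assoc] at hT hQ
    obtain ⟨h3, h4⟩ := ih (fun g hg => hrad g (List.mem_cons_of_mem _ hg)) h2 hT hQ fun q hq => by
      obtain ⟨hp, h⟩ := hloc q hq
      exact ⟨hp, isNormallyFlat_sup_span_singleton h1 h⟩
    have hf := hrad f List.mem_cons_self
    exact ⟨isNormallyFlat_of_sup_span_singleton hf h1 h4 h3 hloc, covers_of_covers_sup hf h1 h4⟩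

end Descent

end Groth.FlatDescent.NormallyFlat
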