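import Mathlib
import Groth.Agent.GenFree.Package
import Groth.Agent.FlatDescent.Presentation
import Groth.Agent.FlatDescent.Colimit
import Groth.Agent.S4853

/-!
# The generic flattening ideal over an irreducible base

`exists_flattening`: `Spec A` irreducible, `B` finitely presented over `A`, `M` finitely presented over `B`:
there are `h` not nilpotent and a finitely generated nil ideal `J` such that for `A → A'` with `h` invertible,
`A' ⊗ M` is flat over `A'` iff `J` generates zero in `A'`.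
-/

universe u

open TensorProduct MvPolynomial

namespace Groth.FlatDescent

/-- The Noetherian case. -/
theorem exists_flattening_free_noetherian {A₀ : Type u} [CommRing A₀] [IsNoetherianRing A₀] [(nilradical A₀).IsPrime]
    {σ κ : Type} [Finite σ] [Finite κ] (N₀₀ : Submodule (MvPolynomial σ A₀) (κ → MvPolynomial σ A₀)) :
    ∃ h : A₀, h ∉ nilradical A₀ ∧ ∃ J : Ideal A₀, J ≤ nilradical A₀ ∧
      ∀ (A' : Type u) [CommRing A'] [Algebra A₀ A'], IsUnit (algebraMap A₀ A' h) →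
        (Module.Flat A' (A' ⊗[A₀] ((κ → MvPolynomial σ A₀) ⧸ N₀₀)) ↔ J.map (algebraMap A₀ A') = ⊥) ∧
          (J.map (algebraMap A₀ A') = ⊥ → Module.Free A' (A' ⊗[A₀] ((κ → MvPolynomial σ A₀) ⧸ N₀₀))) := by
  let P : Ideal A₀ := nilradical A₀
  let D := A₀ ⧸ P
  let M₀ := (κ → MvPolynomial σ A₀) ⧸ N₀₀
  obtain ⟨e⟩ := baseNEquiv (R := D) N₀₀
  obtain ⟨hb, hb0, hfree⟩ := GenFree.exists_freeAt D (B := MvPolynomial σ D)
    ((κ → MvPolynomial σ D) ⧸ baseN (algebraMap A₀ D) N₀₀)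
  have hfree' : GenFree.FreeAt hb (D ⊗[A₀] M₀) := hfree.of_linearEquiv e
  obtain ⟨h, rfl⟩ := Ideal.Quotient.mk_surjective hb
  have hh : h ∉ P := fun hc => hb0 (Ideal.Quotient.eq_zero_iff_mem.mpr hc)
  refine ⟨h, hh, ?_⟩
  let A₁ := Localization.Away h
  let J₁ : Ideal A₁ := P.map (algebraMap A₀ A₁)
  have hJ₁ : IsNilpotent J₁ := by
    obtain ⟨n, hn⟩ := IsNoetherianRing.isNilpotent_nilradical A₀
    exact ⟨n, by rw [← Ideal.map_pow, hn, Ideal.zero_eq_bot, Ideal.map_bot, Ideal.zero_eq_bot]⟩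
  let M₁ := A₁ ⊗[A₀] M₀
  -- freeness modulo `J₁`
  have hfree₁ : Module.Free (A₁ ⧸ J₁) ((A₁ ⧸ J₁) ⊗[A₁] M₁) := by
    let Dh := Localization.Away (Ideal.Quotient.mk P h)
    haveI : Module.Free Dh (Dh ⊗[D] (D ⊗[A₀] M₀)) := GenFree.free_tensor dvd_rfl hfree'
    let ψ : D →+* A₁ ⧸ J₁ := Ideal.Quotient.lift P ((Ideal.Quotient.mk J₁).comp (algebraMap A₀ A₁)) fun a ha =>
      Ideal.Quotient.eq_zero_iff_mem.mpr (Ideal.mem_map_of_mem _ ha)
    have hu : IsUnit (ψ (Ideal.Quotient.mk P h)) := by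
      show IsUnit (Ideal.Quotient.mk J₁ (algebraMap A₀ A₁ h))
      exact (IsLocalization.Away.algebraMap_isUnit h).map _
    letI : Algebra D (A₁ ⧸ J₁) := ψ.toAlgebra
    haveI : IsScalarTower A₀ D (A₁ ⧸ J₁) := IsScalarTower.of_algebraMap_eq fun _ => rfl
    letI : Algebra Dh (A₁ ⧸ J₁) := (IsLocalization.Away.lift (g := ψ) (Ideal.Quotient.mk P h) hu).toAlgebra
    haveI : IsScalarTower D Dh (A₁ ⧸ J₁) :=
      IsScalarTower.of_algebraMap_eq fun d => (IsLocalization.Away.lift_eq _ hu d).symm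
    haveI : Module.Free (A₁ ⧸ J₁) ((A₁ ⧸ J₁) ⊗[Dh] (Dh ⊗[D] (D ⊗[A₀] M₀))) := inferInstance
    exact Module.Free.of_equiv
      ((TensorProduct.AlgebraTensorModule.cancelBaseChange D Dh (A₁ ⧸ J₁) (A₁ ⧸ J₁) (D ⊗[A₀] M₀)) ≪≫ₗ
        (TensorProduct.AlgebraTensorModule.cancelBaseChange A₀ D (A₁ ⧸ J₁) (A₁ ⧸ J₁) M₀) ≪≫ₗ
        (TensorProduct.AlgebraTensorModule.cancelBaseChange A₀ A₁ (A₁ ⧸ J₁) (A₁ ⧸ J₁) M₀).symm)
  obtain ⟨R₀, hleast, -, huniv⟩ := Groth.Agent.S4853.result M₁ J₁ hJ₁ hfree₁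
  refine ⟨R₀.comap (algebraMap A₀ A₁), ?_, fun A' _ _ hu => ?_⟩
  · intro a ha
    have h1 : algebraMap A₀ A₁ a ∈ J₁ := hleast.2 hfree₁ ha
    obtain ⟨n, hn⟩ := hJ₁
    have h2 : algebraMap A₀ A₁ (a ^ n) = 0 := by
      rw [map_pow]
      have := Ideal.pow_mem_pow h1 n
      rwa [hn] at this
    obtain ⟨⟨_, m, rfl⟩, hm⟩ := (IsLocalization.map_eq_zero_iff (Submonoid.powers h) A₁ _).mp h2
    have hP : (nilradical A₀).IsPrime := inferInstance
    have h3 : h ^ m * a ^ n ∈ P := by rw [show h ^ m * a ^ n = 0 from hm]; exact zero_mem _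
    exact hP.mem_of_pow_mem n ((hP.mem_or_mem h3).resolve_left fun hc => hh (hP.mem_of_pow_mem m hc))
  · letI : Algebra A₁ A' := (IsLocalization.Away.lift (g := algebraMap A₀ A') h hu).toAlgebra
    haveI : IsScalarTower A₀ A₁ A' :=
      IsScalarTower.of_algebraMap_eq fun d => (IsLocalization.Away.lift_eq _ hu d).symm
    rw [show (R₀.comap (algebraMap A₀ A₁)).map (algebraMap A₀ A') = R₀.map (algebraMap A₁ A') by
      rw [IsScalarTower.algebraMap_eq A₀ A₁ A', ← Ideal.map_map,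
        IsLocalization.map_comap (Submonoid.powers h) A₁]]
    refine ⟨?_, fun h0 => ?_⟩
    · rw [← (huniv A').2]
      exact (Module.Flat.equiv_iff (TensorProduct.AlgebraTensorModule.cancelBaseChange A₀ A₁ A' A' M₀)).symm
    · haveI := (huniv A').1.2 h0
      exact Module.Free.of_equiv (TensorProduct.AlgebraTensorModule.cancelBaseChange A₀ A₁ A' A' M₀)

/-- Generic flattening for presented modules over a Noetherian base. -/
theorem exists_flattening_noetherian {A₀ : Type u} [CommRing A₀] [IsNoetherianRing A₀] [(nilradical A₀).IsPrime]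
    {σ κ : Type} [Finite σ] [Finite κ] (N₀₀ : Submodule (MvPolynomial σ A₀) (κ → MvPolynomial σ A₀)) :
    ∃ h : A₀, h ∉ nilradical A₀ ∧ ∃ J : Ideal A₀, J ≤ nilradical A₀ ∧
      ∀ (A' : Type u) [CommRing A'] [Algebra A₀ A'], IsUnit (algebraMap A₀ A' h) →
        (Module.Flat A' (A' ⊗[A₀] ((κ → MvPolynomial σ A₀) ⧸ N₀₀)) ↔ J.map (algebraMap A₀ A') = ⊥) := by
  obtain ⟨h, hh, J, hJ, huniv⟩ := exists_flattening_free_noetherian N₀₀
  exact ⟨h, hh, J, hJ, fun A' _ _ hu => (huniv A' hu).1⟩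

/-- **Generic flattening**, affine form. -/
theorem exists_flattening_free {A : Type u} [CommRing A] [IrreducibleSpace (PrimeSpectrum A)] (B : Type u) [CommRing B]
    [Algebra A B] [Algebra.FinitePresentation A B] (M : Type u) [AddCommGroup M] [Module B M] [Module A M]
    [IsScalarTower A B M] [Module.FinitePresentation B M] :
    ∃ h : A, ¬IsNilpotent h ∧ ∃ J : Ideal A, J.FG ∧ J ≤ nilradical A ∧
      ∀ (A' : Type u) [CommRing A'] [Algebra A A'], IsUnit (algebraMap A A' h) →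
        (Module.Flat A' (A' ⊗[A] M) ↔ J.map (algebraMap A A') = ⊥) ∧
          (J.map (algebraMap A A') = ⊥ → Module.Free A' (A' ⊗[A] M)) := by
  have hnil : (nilradical A).IsPrime := PrimeSpectrum.irreducibleSpace_iff_isPrime_nilradical.mp inferInstance
  obtain ⟨n, k, π, hπ, N, hN, f, hf, hsmul, hker⟩ := exists_presentation A B M
  let P := MvPolynomial (Fin n) A
  let fA : (Fin k → P) →ₗ[A] M :=
    { f with
      map_smul' := fun a x => by
        show f (a • x) = a • f x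
        rw [← algebraMap_smul P a x, hsmul, AlgHom.commutes, algebraMap_smul] }
  have hfker : LinearMap.ker fA = N.restrictScalars A := by
    ext x
    exact hker x
  let eM : ((Fin k → P) ⧸ N) ≃ₗ[A] M :=
    (Submodule.Quotient.restrictScalarsEquiv A N).symm ≪≫ₗ Submodule.quotEquivOfEq _ _ hfker.symm ≪≫ₗ
      fA.quotKerEquivOfSurjective hf
  obtain ⟨A₀, hA₀, N₀₀, hbase, -⟩ := exists_finite_type_model hN
  haveI : Algebra.FiniteType ℤ A₀ := ⟨A₀.fg_top.mpr hA₀⟩
  haveI : IsNoetherianRing A₀ := Algebra.FiniteType.isNoetherianRing ℤ A₀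
  have hmem : ∀ a : A₀, a ∈ nilradical A₀ ↔ (a : A) ∈ nilradical A := fun a => by
    simp only [mem_nilradical]
    exact (IsNilpotent.map_iff (f := A₀.val) Subtype.val_injective).symm
  haveI : (nilradical A₀).IsPrime := by
    have h : nilradical A₀ = (nilradical A).comap A₀.val.toRingHom := Ideal.ext hmem
    rw [h]
    exact hnil.comap _
  obtain ⟨h, hh, J, hJ, huniv⟩ := exists_flattening_free_noetherian N₀₀
  refine ⟨h, fun hc => hh ((hmem h).mpr hc), J.map A₀.val.toRingHom, Ideal.FG.map (IsNoetherian.noetherian J) _,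
    Ideal.map_le_iff_le_comap.mpr fun a ha => (hmem a).mp (hJ ha), fun A' _ _ hu => ?_⟩
  rw [Ideal.map_map, show (algebraMap A A').comp A₀.val.toRingHom = algebraMap A₀ A' from rfl, ← (huniv A' hu).1]
  obtain ⟨e⟩ := baseNEquiv (R := A) N₀₀
  have e' : M ≃ₗ[A] A ⊗[A₀] ((Fin k → MvPolynomial (Fin n) A₀) ⧸ N₀₀) :=
    eM.symm ≪≫ₗ (Submodule.quotEquivOfEq _ _ hbase.symm).restrictScalars A ≪≫ₗ e
  let E := TensorProduct.AlgebraTensorModule.congr (LinearEquiv.refl A' A') e' ≪≫ₗ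
      TensorProduct.AlgebraTensorModule.cancelBaseChange A₀ A A' A' ((Fin k → MvPolynomial (Fin n) A₀) ⧸ N₀₀)
  refine ⟨Module.Flat.equiv_iff E, fun hF => ?_⟩
  haveI := (huniv A' hu).2 ((huniv A' hu).1.1 hF)
  exact Module.Free.of_equiv E.symm

/-- **Generic flattening**, affine form, flatness only. -/
theorem exists_flattening {A : Type u} [CommRing A] [IrreducibleSpace (PrimeSpectrum A)] (B : Type u) [CommRing B]
    [Algebra A B] [Algebra.FinitePresentation A B] (M : Type u) [AddCommGroup M] [Module B M] [Module A M]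
    [IsScalarTower A B M] [Module.FinitePresentation B M] :
    ∃ h : A, ¬IsNilpotent h ∧ ∃ J : Ideal A, J.FG ∧ J ≤ nilradical A ∧
      ∀ (A' : Type u) [CommRing A'] [Algebra A A'], IsUnit (algebraMap A A' h) →
        (Module.Flat A' (A' ⊗[A] M) ↔ J.map (algebraMap A A') = ⊥) := by
  obtain ⟨h, hh, J, hfg, hJ, huniv⟩ := exists_flattening_free (A := A) B M
  exact ⟨h, hh, J, hfg, hJ, fun A' _ _ hu => (huniv A' hu).1⟩

end Groth.FlatDescent
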