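import Groth.Agent.FlatDescent.AlgSpLocus
import Groth.Prelude.Def_AlgSpInf

/-!
# Flatness across thickenings of the base
-/

set_option autoImplicit false
set_option backward.isDefEq.respectTransparency.types false

universe u

open CategoryTheory CategoryTheory.Limits AlgebraicGeometry Opposite AlgSp Groth.Agent.AlgSpLib

namespace Groth.FlatDescent

variable {S : Scheme.{u}}

/-- Flatness over a thickened base. -/
theorem flat_of_flat_thickening {X X' Y Y' B B' : AlgSp.Space S} (iX : X ⟶ X') (iY : Y ⟶ Y') (iB : B ⟶ B')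
    (f : X ⟶ Y) (f' : X' ⟶ Y') (g : Y ⟶ B) (g' : Y' ⟶ B')
    (hcX : IsPullback iX.hom (f ≫ g).hom (f' ≫ g').hom iB.hom) (hcY : IsPullback iY.hom g.hom g'.hom iB.hom)
    (w : iX ≫ f' = f ≫ iY)
    (hB : AlgSp.IsThickMor iB.hom)
    (hg' : AlgSp.LocP @LocallyOfFiniteType g'.hom)
    (hflat : AlgSp.LocP @Flat (f' ≫ g').hom) (hfp : AlgSp.LocP @LocallyOfFinitePresentation (f' ≫ g').hom)
    (hf : AlgSp.LocP @Flat f.hom) :
    AlgSp.LocP @Flat f'.hom ∧
    ∀ x' : AlgSp.Points X'.obj, AlgSp.IsFlatAtMor g'.hom (AlgSp.Points.map f'.hom x') := by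
  obtain ⟨W, c, hc, hcs⟩ := B'.property.atlas
  obtain ⟨V, b, k, hb, hbs, wk⟩ := exists_chart_lift Y'.property B'.property g'.hom c hc hcs
  obtain ⟨U, a, i, ha, has, wi⟩ := exists_chart_lift X'.property Y'.property f'.hom b hb hbs
  have wik : a ≫ (f' ≫ g').hom = (AlgSp.yon S).map (i ≫ k) ≫ c := by
    show a ≫ f'.hom ≫ g'.hom = _
    rw [← Category.assoc, wi, Category.assoc, wk, Functor.map_comp, Category.assoc]
  haveI h₁ : Flat (i.left ≫ k.left) := hflat a c (i ≫ k) ha hc wik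
  haveI h₂ : LocallyOfFinitePresentation (i.left ≫ k.left) := hfp a c (i ≫ k) ha hc wik
  haveI h₃ : LocallyOfFiniteType k.left := hg' b c k hb hc wk
  obtain ⟨W₀, c₀, hc₀, hc₀s⟩ := B.property.atlas
  obtain ⟨R, p, q, sqR⟩ := exists_isPullback hc.1 (c₀ ≫ iB.hom)
  have hiBs : RepWith @Surjective iB.hom := repWith_mono (fun _ _ _ hk => hk.2) hB
  have hps : Surjective p.left := prop_snd sqR.flip (repWith_comp hc₀s hiBs)
  obtain ⟨Vr, pV, qV, sqVy⟩ := exists_isPullback (representable_yon_map k) ((yon S).map p)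
  have sqV := isPullback_of_yon sqVy
  obtain ⟨Ur, pU, qU, sqUy⟩ := exists_isPullback (representable_yon_map (i ≫ k)) ((yon S).map p)
  have sqU := isPullback_of_yon sqUy
  haveI : Surjective pU.left :=
    MorphismProperty.of_isPullback (P := @Surjective) (left_isPullback sqU).flip hps
  obtain ⟨b₀, hb₀, -, hb₁, hb₂⟩ := exists_baseChange_chart hcY sqR sqV hb hbs hc₀ hc₀s wk
  obtain ⟨a₀, ha₀, -, ha₁, ha₂⟩ := exists_baseChange_chart hcX sqR sqU ha has hc₀ hc₀s wik
  have wT : (pU ≫ i) ≫ k = qU ≫ p := by rw [Category.assoc]; exact sqU.w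
  let i₀ : Ur ⟶ Vr := sqV.lift (pU ≫ i) qU wT
  have w₀ : a₀ ≫ f.hom = (yon S).map i₀ ≫ b₀ := by
    refine hcY.hom_ext ?_ ?_
    · rw [Category.assoc, Category.assoc, ← show iX.hom ≫ f'.hom = f.hom ≫ iY.hom from congrArg (fun e => e.hom) w,
        ← Category.assoc, ha₁, Category.assoc, wi, hb₁,
        ← Category.assoc, ← Category.assoc, ← Functor.map_comp, ← Functor.map_comp, sqV.lift_fst]
    · rw [Category.assoc, Category.assoc, hb₂, ← Category.assoc (yon S |>.map i₀), ← Functor.map_comp,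
        ← Category.assoc i₀, sqV.lift_snd]
      exact ha₂
  have sqi : IsPullback pU i₀ i pV := by
    refine IsPullback.of_bot ?_ (sqV.lift_fst _ _ wT).symm sqV
    rw [sqV.lift_snd]
    exact sqU
  haveI : Flat i₀.left := hf a₀ b₀ i₀ ha₀ hb₀ w₀
  have key : ∀ u : U.left, (k.left.stalkMap (i.left u)).hom.Flat ∧ (i.left.stalkMap u).hom.Flat := by
    intro u
    obtain ⟨u₀, rfl⟩ := pU.left.surjective u
    exact flat_of_fibFlat i.left k.left _ (Flat.stalkMap (i.left ≫ k.left) _)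
      (fibFlat_of_baseChange i.left k.left (left_isPullback sqV) (left_isPullback sqi) u₀
        (fibFlat_of_flat i₀.left qV.left u₀ (Flat.stalkMap i₀.left u₀)))
  refine ⟨locP_of_chart ha has hb wi (Flat.of_stalkMap _ fun u => (key u).2), fun x' => ?_⟩
  obtain ⟨u, rfl⟩ := surjective_ofPt has x'
  have e : Points.map f'.hom (Points.ofPt a u) = Points.ofPt b (i.left u) := by
    rw [Points.map_ofPt, wi, ofPt_comp]
  rw [e]
  exact isFlatAtMor_of_chart hb hc wk _ (key u).1

end Groth.FlatDescent
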