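import Groth.Agent.FlatDescent.NilThick
import Groth.Agent.FlatDescent.Thick

/-!
# Flatness across finite order thickenings of the base, algebraic spaces
-/

set_option autoImplicit false
set_option backward.isDefEq.respectTransparency.types false

universe u

open CategoryTheory CategoryTheory.Limits AlgebraicGeometry Opposite AlgSp Groth.Agent.AlgSpLib

namespace Groth.FlatDescent

variable {S : Scheme.{u}}

theorem exists_isNilpotent_ker {B B' : Sp S} {iB : B ⟶ B'} {n : ℕ} (hB : AlgSp.IsNThickMor n iB)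
    {W Wb : Over S} {c : (yon S).obj W ⟶ B'} (hc : RepWith @Etale c) {fst : (yon S).obj Wb ⟶ B} {j : Wb ⟶ W}
    (sq : IsPullback fst ((yon S).map j) iB c) [IsClosedImmersion j.left] (w : W.left) :
    ∃ W₀ : W.left.affineOpens, w ∈ W₀.1 ∧ IsNilpotent (j.left.ker.ideal W₀) := by
  obtain ⟨_, ⟨W₀, hW, rfl⟩, hw, -⟩ := W.left.isBasis_affineOpens.exists_subset_of_mem_open (Set.mem_univ w) isOpen_univ
  refine ⟨⟨W₀, hW⟩, hw, n + 1, ?_⟩
  let W' : Over S := Over.mk (Scheme.Opens.ι (X := W.left) W₀ ≫ W.hom)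
  let ι' : W' ⟶ W := Over.homMk (Scheme.Opens.ι (X := W.left) W₀)
  haveI : IsAffine W'.left := hW
  haveI : IsOpenImmersion ι'.left := inferInstanceAs (IsOpenImmersion (Scheme.Opens.ι (X := W.left) W₀))
  have hc' : RepWith @Etale ((yon S).map ι' ≫ c) := repWith_yon_comp (P := @Etale) ι' (inferInstanceAs (Etale ι'.left)) hc
  obtain ⟨Wb', p, j', sq'⟩ := exists_isPullback (representable_yon_map j) ((yon S).map ι')
  have h : j'.left.ker ^ (n + 1) = ⊥ := hB.2 _ _ j' inferInstance hc' (sq'.paste_horiz sq)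
  have sqs : IsPullback j'.left p.left ι'.left j.left := (left_isPullback (isPullback_of_yon sq')).flip
  haveI : QuasiCompact j.left := inferInstance
  let V : W'.left.affineOpens := ⟨⊤, isAffineOpen_top _⟩
  have hk := Scheme.ker_ideal_of_isPullback_of_isOpenImmersion j.left j'.left p.left ι'.left sqs V
  have hV : (j'.left.ker.ideal V) ^ (n + 1) = ⊥ := by
    have := congrArg (fun I : W'.left.IdealSheafData => I.ideal V) h
    simpa using this
  have himg : (⟨ι'.left ''ᵁ V.1, V.2.image_of_isOpenImmersion _⟩ : W.left.affineOpens) = ⟨W₀, hW⟩ := by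
    refine Subtype.ext ?_
    show (Scheme.Opens.ι (X := W.left) W₀) ''ᵁ ⊤ = W₀
    simp
  rw [← himg, Ideal.zero_eq_bot]
  have hb : Function.Bijective (ι'.left.appIso V.1).inv.hom := ConcreteCategory.bijective_of_isIso _
  have hm : j.left.ker.ideal ⟨ι'.left ''ᵁ V.1, V.2.image_of_isOpenImmersion _⟩ =
      (j'.left.ker.ideal V).map (ι'.left.appIso V.1).inv.hom := by
    rw [hk, Ideal.map_comap_of_surjective _ hb.2]
  rw [hm, ← Ideal.map_pow, hV, Ideal.map_bot]

/-- Flatness over a finite order thickening of the base. -/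
theorem flat_of_flat_finThickening {X X' Y Y' B B' : AlgSp.Space S} (iX : X ⟶ X') (iY : Y ⟶ Y') (iB : B ⟶ B')
    (f : X ⟶ Y) (f' : X' ⟶ Y') (g : Y ⟶ B) (g' : Y' ⟶ B')
    (hcX : IsPullback iX.hom (f ≫ g).hom (f' ≫ g').hom iB.hom) (hcY : IsPullback iY.hom g.hom g'.hom iB.hom)
    (w : iX ≫ f' = f ≫ iY)
    (hB : AlgSp.IsFinThickMor iB.hom) (hflat : AlgSp.LocP @Flat (f' ≫ g').hom)
    (hf : AlgSp.LocP @Flat f.hom) :
    AlgSp.LocP @Flat f'.hom ∧
    ∀ x' : AlgSp.Points X'.obj, AlgSp.IsFlatAtMor g'.hom (AlgSp.Points.map f'.hom x') := by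
  obtain ⟨n, hB⟩ := hB
  obtain ⟨W, c, hc, hcs⟩ := B'.property.atlas
  obtain ⟨V, b, k, hb, hbs, wk⟩ := exists_chart_lift Y'.property B'.property g'.hom c hc hcs
  obtain ⟨U, a, i, ha, has, wi⟩ := exists_chart_lift X'.property Y'.property f'.hom b hb hbs
  have wik : a ≫ (f' ≫ g').hom = (AlgSp.yon S).map (i ≫ k) ≫ c := by
    show a ≫ f'.hom ≫ g'.hom = _
    rw [← Category.assoc, wi, Category.assoc, wk, Functor.map_comp, Category.assoc]
  haveI h₁ : Flat (i.left ≫ k.left) := hflat a c (i ≫ k) ha hc wik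
  obtain ⟨Wb, fst, j, sqW⟩ : ∃ (Wb : Over S) (fst : (yon S).obj Wb ⟶ B.obj) (j : Wb ⟶ W),
      IsPullback fst ((yon S).map j) iB.hom c :=
    ⟨_, _, _, hB.1.1.isPullback c⟩
  haveI hj : IsClosedImmersion j.left := (hB.1.2 c fst j sqW).1
  obtain ⟨Vb, pV, qV, sqVy⟩ := exists_isPullback (representable_yon_map k) ((yon S).map j)
  obtain ⟨Ub, pU, ib, sqUy⟩ := exists_isPullback (representable_yon_map i) ((yon S).map pV)
  have sqV := isPullback_of_yon sqVy
  have sqU := isPullback_of_yon sqUy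
  have outerV : IsPullback ((yon S).map pV) ((yon S).map qV ≫ fst) (b ≫ g'.hom) iB.hom := by
    rw [wk]
    exact sqVy.paste_vert sqW.flip
  have outerU : IsPullback ((yon S).map pU) ((yon S).map (ib ≫ qV) ≫ fst) (a ≫ (f' ≫ g').hom) iB.hom := by
    rw [wik, Functor.map_comp, Functor.map_comp]
    exact (sqUy.paste_vert sqVy).paste_vert sqW.flip
  let bb := hcY.lift ((yon S).map pV ≫ b) ((yon S).map qV ≫ fst) (by rw [Category.assoc]; exact outerV.w)
  let ab := hcX.lift ((yon S).map pU ≫ a) ((yon S).map (ib ≫ qV) ≫ fst) (by rw [Category.assoc]; exact outerU.w)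
  have sqbb : IsPullback ((yon S).map pV) bb b iY.hom := by
    refine IsPullback.of_bot ?_ (hcY.lift_fst _ _ _).symm hcY
    rw [show bb ≫ g.hom = _ from hcY.lift_snd _ _ _]
    exact outerV
  have sqab : IsPullback ((yon S).map pU) ab a iX.hom := by
    refine IsPullback.of_bot ?_ (hcX.lift_fst _ _ _).symm hcX
    rw [show ab ≫ (f ≫ g).hom = _ from hcX.lift_snd _ _ _]
    exact outerU
  have hbb : RepWith @Etale bb := repWith_baseChange sqbb hb
  have hab : RepWith @Etale ab := repWith_baseChange sqab ha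
  have w₀ : ab ≫ f.hom = (yon S).map ib ≫ bb := by
    refine hcY.hom_ext ?_ ?_
    · rw [Category.assoc, Category.assoc, ← show iX.hom ≫ f'.hom = f.hom ≫ iY.hom from congrArg (fun e => e.hom) w,
        ← Category.assoc, show ab ≫ iX.hom = _ from hcX.lift_fst _ _ _, Category.assoc, wi,
        show bb ≫ iY.hom = _ from hcY.lift_fst _ _ _, ← Category.assoc, ← Category.assoc, ← Functor.map_comp,
        ← Functor.map_comp, sqU.w]
    · rw [Category.assoc, Category.assoc, show bb ≫ g.hom = _ from hcY.lift_snd _ _ _,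
        show ab ≫ f.hom ≫ g.hom = _ from hcX.lift_snd _ _ _, Functor.map_comp, Category.assoc]
  haveI : Flat ib.left := hf ab bb ib hab hbb w₀
  have key : ∀ u : U.left, (k.left.stalkMap (i.left u)).hom.Flat ∧ (i.left.stalkMap u).hom.Flat :=
    flat_of_nilpotent_thickening (exists_isNilpotent_ker hB hc sqW) (left_isPullback sqV) (left_isPullback sqU)
  refine ⟨locP_of_chart ha has hb wi (Flat.of_stalkMap _ fun u => (key u).2), fun x' => ?_⟩
  obtain ⟨u, rfl⟩ := surjective_ofPt has x'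
  have e : Points.map f'.hom (Points.ofPt a u) = Points.ofPt b (i.left u) := by
    rw [Points.map_ofPt, wi, ofPt_comp]
  rw [e]
  exact isFlatAtMor_of_chart hb hc wk _ (key u).1

end Groth.FlatDescent
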