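import Mathlib
import Groth.Agent.FlatDescent.Scheme

/-!
# The fibrewise criterion of flatness, locally Noetherian case
-/

universe u

open AlgebraicGeometry CategoryTheory Limits
open scoped TensorProduct

namespace Groth.FlatDescent

/-- The criterion for local rings of Noetherian schemes. -/
theorem flat_of_quotientMap_flat {R S C : Type u} [CommRing R] [CommRing S] [CommRing C] [IsLocalRing R] [IsLocalRing S]
    [IsLocalRing C] [IsNoetherianRing S] [IsNoetherianRing C] (φ : R →+* S) (ψ : S →+* C) [IsLocalHom φ] [IsLocalHom ψ]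
    (h : (ψ.comp φ).Flat)
    (hfib : (Ideal.quotientMap (((IsLocalRing.maximalIdeal R).map φ).map ψ) ψ Ideal.le_comap_map).Flat) :
    φ.Flat ∧ ψ.Flat := by
  letI : Algebra R S := φ.toAlgebra
  letI : Algebra S C := ψ.toAlgebra
  letI : Algebra R C := (ψ.comp φ).toAlgebra
  haveI : IsScalarTower R S C := IsScalarTower.of_algebraMap_eq fun _ => rfl
  haveI : Module.Flat R C := h
  let J := (IsLocalRing.maximalIdeal R).map (algebraMap R S)
  letI : Algebra (S ⧸ J) (C ⧸ J.map ψ) := (Ideal.quotientMap (J.map ψ) ψ Ideal.le_comap_map).toAlgebra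
  haveI : IsScalarTower S (S ⧸ J) (C ⧸ J.map ψ) := IsScalarTower.of_algebraMap_eq fun _ => rfl
  haveI : Module.Flat (S ⧸ J) (C ⧸ J.map ψ) := hfib
  let e : (C ⧸ J.map ψ) ≃ₗ[S] (S ⧸ J) ⊗[S] C :=
    ((Algebra.TensorProduct.quotIdealMapEquivTensorQuot C J).toLinearEquiv.restrictScalars S).trans
      (TensorProduct.comm S C (S ⧸ J))
  haveI : Module.Flat (S ⧸ J) ((S ⧸ J) ⊗[S] C) :=
    Module.Flat.of_linearEquiv (LinearEquiv.extendScalarsOfSurjective Ideal.Quotient.mk_surjective e.symm)
  have hψ : Module.Flat S C := by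
    refine flat_of_flat_fibre (R := R) (S' := C) (IsLocalRing.maximalIdeal R) ?_
    refine le_trans ?_ (IsLocalRing.jacobson_eq_maximalIdeal (⊥ : Ideal C) bot_ne_top).ge
    rw [Ideal.map_map, Ideal.map_le_iff_le_comap]
    intro r hr
    exact map_nonunit ψ _ (map_nonunit φ r hr)
  haveI : IsLocalHom (algebraMap S C) := ‹IsLocalHom ψ›
  haveI : Module.FaithfullyFlat S C := Module.FaithfullyFlat.of_flat_of_isLocalHom
  exact ⟨flat_of_faithfullyFlat_of_flat (M := C), hψ⟩

/-- **Fibrewise criterion of flatness**, locally Noetherian case. -/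
theorem flat_of_fibFlat_noeth {X Y S : Scheme.{u}} [IsLocallyNoetherian X] [IsLocallyNoetherian Y]
    (f : X ⟶ Y) (g : Y ⟶ S) (x : X) (hfg : ((f ≫ g).stalkMap x).hom.Flat) (hfib : FibFlat f g x) :
    (g.stalkMap (f x)).hom.Flat ∧ (f.stalkMap x).hom.Flat := by
  rw [Scheme.Hom.stalkMap_comp] at hfg
  exact flat_of_quotientMap_flat (g.stalkMap (f x)).hom (f.stalkMap x).hom hfg hfib

end Groth.FlatDescent
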