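import Mathlib
import Groth.Agent.FlatDescent.NormallyFlat

/-!
# Weakly regular sequences: extensions and filtrations
-/

universe u

open RingTheory.Sequence Pointwise

namespace Groth.FlatDescent

variable {A : Type u} [CommRing A]

theorem isWeaklyRegular_of_exact : ∀ (fs : List A) {K E G : Type u} [AddCommGroup K] [AddCommGroup E]
    [AddCommGroup G] [Module A K] [Module A E] [Module A G] (f : K →ₗ[A] E) (g : E →ₗ[A] G),
    Function.Injective f → Function.Exact f g → Function.Surjective g → IsWeaklyRegular K fs →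
    IsWeaklyRegular G fs → IsWeaklyRegular E fs := by
  intro fs
  induction fs with
  | nil => intros; exact IsWeaklyRegular.nil _ _
  | cons r rs ih =>
    intro K E G _ _ _ _ _ _ f g hf hfg hg hK hG
    rw [isWeaklyRegular_cons_iff] at hK hG ⊢
    refine ⟨?_, ih (QuotSMulTop.map r f) (QuotSMulTop.map r g) ?_ (QuotSMulTop.map_exact r hfg hg)
      (QuotSMulTop.map_surjective r hg) hK.2 hG.2⟩
    · rw [isSMulRegular_iff_right_eq_zero_of_smul]
      intro e he
      obtain ⟨k, rfl⟩ := (hfg e).mp (hG.1.right_eq_zero_of_smul (by rw [← map_smul, he, map_zero]))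
      have hk : r • k = 0 := hf (by rw [map_smul, he, map_zero])
      rw [hK.1.right_eq_zero_of_smul hk, map_zero]
    · rw [injective_iff_map_eq_zero]
      intro t ht
      obtain ⟨k, rfl⟩ := Submodule.Quotient.mk_surjective _ t
      rw [QuotSMulTop.map_apply_mk, Submodule.Quotient.mk_eq_zero, Submodule.mem_smul_pointwise_iff_exists] at ht
      obtain ⟨e, -, he⟩ := ht
      obtain ⟨k', rfl⟩ := (hfg e).mp (hG.1.right_eq_zero_of_smul
        (by rw [← map_smul, he, hfg.apply_apply_eq_zero]))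
      rw [Submodule.Quotient.mk_eq_zero, Submodule.mem_smul_pointwise_iff_exists]
      exact ⟨k', trivial, hf (by rw [map_smul, he])⟩

/-- `fs` is weakly regular on `N` if it is on every `N / J^m N`, for `J` in the Jacobson radical. -/
theorem isWeaklyRegular_of_forall_quotient [IsNoetherianRing A] {J : Ideal A} (hJ : J ≤ Ideal.jacobson ⊥)
    {N : Type u} [AddCommGroup N] [Module A N] [Module.Finite A N] {fs : List A}
    (h : ∀ m : ℕ, IsWeaklyRegular (N ⧸ (J ^ m • ⊤ : Submodule A N)) fs) : IsWeaklyRegular N fs := by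
  refine ⟨fun i hi => ?_⟩
  rw [isSMulRegular_iff_right_eq_zero_of_smul]
  intro t ht
  obtain ⟨x, rfl⟩ := Submodule.Quotient.mk_surjective _ t
  set P : Submodule A N := Ideal.ofList (fs.take i) • ⊤
  rw [← Submodule.Quotient.mk_smul, Submodule.Quotient.mk_eq_zero] at ht
  rw [← Submodule.mem_bot A, ← Ideal.iInf_pow_smul_eq_bot_of_le_jacobson (M := N ⧸ P) J hJ]
  refine Submodule.mem_iInf _ |>.mpr fun m => ?_
  set π := (J ^ m • ⊤ : Submodule A N).mkQ
  have hπ : (Ideal.ofList (fs.take i) • ⊤ : Submodule A (N ⧸ (J ^ m • ⊤ : Submodule A N))) = P.map π := by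
    rw [Submodule.map_smul'', Submodule.map_top, Submodule.range_mkQ]
  have hx : π x ∈ P.map π := by
    have h0 := (h m).regular_mod_prev i hi
    rw [isSMulRegular_iff_right_eq_zero_of_smul] at h0
    rw [← hπ, ← Submodule.Quotient.mk_eq_zero]
    refine h0 _ ?_
    rw [← Submodule.Quotient.mk_smul, Submodule.Quotient.mk_eq_zero, hπ, ← map_smul]
    exact Submodule.mem_map_of_mem ht
  rw [← Submodule.mem_comap, Submodule.comap_map_mkQ] at hx
  obtain ⟨j, hj, p, hp, rfl⟩ := Submodule.mem_sup.mp hx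
  rw [Submodule.Quotient.mk_add, (Submodule.Quotient.mk_eq_zero P).mpr hp, add_zero]
  exact NormallyFlat.map_mem_smul_top (J ^ m) P.mkQ hj

open NormallyFlat in
/-- Normal flatness along `J` makes a regular sequence on `A / J` regular on all `J^k` and `gr_k`. -/
theorem isWeaklyRegular_pow_of_flat [IsNoetherianRing A] [IsLocalRing A] (J : Ideal A) (hJ : J ≠ ⊤) {fs : List A}
    (hreg : IsWeaklyRegular (A ⧸ J) fs)
    (hflat : ∀ k : ℕ, Module.Flat (A ⧸ J) (↥(J ^ k) ⧸ (J • (⊤ : Submodule A ↥(J ^ k))))) (k : ℕ) :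
    IsWeaklyRegular (↥(J ^ k)) fs ∧
      IsWeaklyRegular (↥(J ^ k) ⧸ (J • (⊤ : Submodule A ↥(J ^ k)))) fs := by
  have hgr : ∀ j, IsWeaklyRegular (↥(J ^ j) ⧸ (J • (⊤ : Submodule A ↥(J ^ j)))) fs := fun j => by
    haveI := hflat j
    have h1 : IsWeaklyRegular (A ⧸ J) (fs.map (algebraMap A (A ⧸ J))) :=
      (isWeaklyRegular_map_algebraMap_iff (A ⧸ J) (A ⧸ J) fs).mpr hreg
    have h2 := ((TensorProduct.lid (A ⧸ J) (↥(J ^ j) ⧸ (J • (⊤ : Submodule A ↥(J ^ j))))).isWeaklyRegular_congr _).mp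
      h1.isWeaklyRegular_rTensor
    exact (isWeaklyRegular_map_algebraMap_iff (A ⧸ J) _ fs).mp h2
  refine ⟨isWeaklyRegular_of_forall_quotient (IsLocalRing.le_maximalIdeal hJ |>.trans
    (IsLocalRing.maximalIdeal_le_jacobson _)) fun m => ?_, hgr k⟩
  induction m with
  | zero =>
    haveI : Subsingleton (↥(J ^ k) ⧸ (J ^ 0 • ⊤ : Submodule A ↥(J ^ k))) :=
      Submodule.Quotient.subsingleton_iff.mpr (by simp)
    exact ⟨fun i _ => fun a b _ => Subsingleton.elim _ _⟩
  | succ m ih =>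
    let inc : ↥(J ^ (k + m)) →ₗ[A] ↥(J ^ k) :=
      Submodule.inclusion (Ideal.pow_le_pow_right (Nat.le_add_right k m))
    have key : ∀ (n : ℕ) (x : ↥(J ^ k)), x ∈ (J ^ n • ⊤ : Submodule A ↥(J ^ k)) ↔ (x : A) ∈ J ^ (n + k) := by
      intro n x
      rw [Submodule.mem_smul_top_iff, smul_eq_mul, ← pow_add]
    let f : (↥(J ^ (k + m)) ⧸ (J • (⊤ : Submodule A ↥(J ^ (k + m))))) →ₗ[A]
        ↥(J ^ k) ⧸ (J ^ (m + 1) • ⊤ : Submodule A ↥(J ^ k)) :=
      Submodule.mapQ _ _ inc fun x hx => by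
        rw [Submodule.mem_comap, key]
        rw [Submodule.mem_smul_top_iff, smul_eq_mul, ← pow_succ'] at hx
        exact Ideal.pow_le_pow_right (by omega) hx
    let g : (↥(J ^ k) ⧸ (J ^ (m + 1) • ⊤ : Submodule A ↥(J ^ k))) →ₗ[A]
        ↥(J ^ k) ⧸ (J ^ m • ⊤ : Submodule A ↥(J ^ k)) :=
      Submodule.factor (Submodule.smul_mono_left (Ideal.pow_le_pow_right m.le_succ))
    refine isWeaklyRegular_of_exact fs f g ?_ ?_ (Submodule.factor_surjective _) (hgr (k + m)) ih
    · rw [injective_iff_map_eq_zero]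
      intro t ht
      obtain ⟨x, rfl⟩ := Submodule.Quotient.mk_surjective _ t
      have h0 : (x : A) ∈ J ^ (m + 1 + k) := (key _ _).mp ((Submodule.Quotient.mk_eq_zero _).mp ht)
      rw [Submodule.Quotient.mk_eq_zero, Submodule.mem_smul_top_iff, smul_eq_mul, ← pow_succ']
      exact Ideal.pow_le_pow_right (by omega) h0
    · intro t
      obtain ⟨x, rfl⟩ := Submodule.Quotient.mk_surjective _ t
      have h1 : g (Submodule.Quotient.mk x) = 0 ↔ (x : A) ∈ J ^ (m + k) :=
        (Submodule.Quotient.mk_eq_zero _).trans (key m x)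
      rw [h1]
      constructor
      · intro hx
        exact ⟨Submodule.Quotient.mk ⟨x, by rwa [add_comm k m]⟩, rfl⟩
      · rintro ⟨u, hu⟩
        obtain ⟨y, rfl⟩ := Submodule.Quotient.mk_surjective _ u
        have hd := (key _ _).mp ((Submodule.Quotient.eq _).mp hu)
        have hy : (y : A) ∈ J ^ (m + k) := by rw [add_comm]; exact y.2
        have := sub_mem hy (Ideal.pow_le_pow_right (show m + k ≤ m + 1 + k by omega) hd)
        simpa [inc] using this

end Groth.FlatDescent
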